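import Cfsg.Agent.Lib.ChevCentralizer.RootElement
import Cfsg.Agent.Lib.ChevOrder.CardU

/-!
# Centralisers of products of two commuting root elements in characteristic two

`centralizer_pair`: for `v = x_a(1) x_b(1)` with the table conditions `PairCheck`, the centraliser
of `v` in the Chevalley group is `gen D hD F S`, once the centraliser in `U` is known.
-/

set_option autoImplicit false

namespace Cfsg.Agent.ChevCentralizer

open Cfsg.Lie Cfsg.Lie.ChevalleyDatum Cfsg.Agent.Chev Cfsg.Agent.ChevSt Cfsg.Agent.ChevBN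
open scoped Matrix

/-- The invariant functional attached to the pair of roots `a`, `b`. -/
def mu (D : ChevalleyDatum) (ca cb : ℤ) (a b q : ℕ) : ℤ := ca * D.pairing q a + cb * D.pairing q b

/-- Table conditions for the centraliser of `x_a(1) x_b(1)`. -/
structure PairCheck (D : ChevalleyDatum) (a b : ℕ) (Z S J : List ℕ) (j₁ j₂ : ℕ) (ca cb : ℤ)
    (O : List (ℕ × ℕ)) : Prop where
  lt : ∀ z ∈ a :: b :: Z, z < D.nroots
  pos : D.IsPosRoot a ∧ D.IsPosRoot b
  ne : a ≠ b ∧ a ∉ Z ∧ b ∉ Z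
  S_lt : ∀ s ∈ S, s < D.nroots
  fix : ∀ z ∈ a :: b :: Z, ∀ z' ∈ a :: b :: Z, z' = z ∨ (z' ≠ D.neg z ∧ D.chainEntry z z' = [])
  odd : ∀ z ∈ a :: b :: Z, ∃ i < D.rank, D.cartan i z % 2 ≠ 0
  normZ : ∀ s < D.nroots, (D.IsPosRoot s ∨ s ∈ S) → ∀ z ∈ Z,
    z = s ∨ (z ≠ D.neg s ∧ ∀ τ ∈ D.commTerms s z, τ.1 ∈ Z ∨ τ.2.1 % 2 = 0)
  step : ∀ s < D.nroots, (D.IsPosRoot s ∨ s ∈ S) → ∀ q ∈ [a, b],
    s = q ∨ (s ≠ D.neg q ∧ ∀ τ ∈ D.commTerms q s, τ.1 ∈ Z ∨ τ.2.1 % 2 = 0)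
  comm : ∀ s ∈ S, ∀ q ∈ [a, b], s = q ∨ (s ≠ D.neg q ∧ ∀ τ ∈ D.commTerms q s, τ.2.1 % 2 = 0)
  memO : (a, b) ∈ O
  closedO : ∀ p ∈ O, ∀ i < D.rank, (wN D i p.1, wN D i p.2) ∈ O
  onlyO : ∀ p ∈ O, p.1 ∈ a :: b :: Z → p.2 ∈ a :: b :: Z → p = (a, b)
  inv : ∀ i < D.rank, ∀ q < D.nroots, ∀ s < D.nroots, D.pairing (wN D i q) (wN D i s) = D.pairing q s
  mu_neg : ∀ q < D.nroots, ¬ D.IsPosRoot q → mu D ca cb a b q ≤ 0
  mu_out : ∀ i < D.rank, i ∉ J → 0 < mu D ca cb a b (D.simple i)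
  fixJ : ∀ i ∈ J, i < D.rank ∧ wN D i a = a ∧ wN D i b = b ∧ D.simple i ∈ S ∧ D.neg (D.simple i) ∈ S
  j_lt : j₁ < D.rank ∧ j₂ < D.rank
  cover : ∀ i < D.rank, i ∈ J ∨ i = j₁ ∨ i = j₂
  det : (D.cartan j₁ a * D.cartan j₂ b - D.cartan j₂ a * D.cartan j₁ b).natAbs = 1

theorem intCast_eq_one {R : Type*} [CommRing R] [CharP R 2] {n : ℤ} (h : n % 2 ≠ 0) : (n : R) = 1 := by
  obtain ⟨k, rfl⟩ : ∃ k, n = 2 * k + 1 := ⟨n / 2, by omega⟩
  push_cast
  simp [CharTwo.two_eq_zero]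

variable {D : ChevalleyDatum} (hD : Good D) (F : Type*) [Field F]

/-- The subgroup generated by the root elements of a set of roots. -/
def gen (S : Set ℕ) : Subgroup (GL D.Idx F) := (ChevOrder.matSys D hD F).genBy S

variable {F}

theorem xg_mem_gen {S : Set ℕ} {s : ℕ} (hs : s ∈ S) (t : F) : xg hD F s t ∈ gen hD F S :=
  (ChevOrder.matSys D hD F).x_mem_genBy hs t

theorem gen_le {S : Set ℕ} {K : Subgroup (GL D.Idx F)} (h : ∀ s ∈ S, ∀ t, xg hD F s t ∈ K) :
    gen hD F S ≤ K :=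
  (Subgroup.closure_le _).2 (by rintro g ⟨s, hs, t, rfl⟩; exact h s hs t)

theorem gen_le_group (S : Set ℕ) : gen hD F S ≤ D.group F :=
  gen_le hD fun _ _ _ => xg_mem_group hD _ _

theorem posUnipotent_eq_gen : D.posUnipotent F = gen hD F {s | D.IsPosRoot s} := by
  refine le_antisymm ((Subgroup.closure_le _).2 ?_) (gen_le hD fun s hs t =>
    Subgroup.subset_closure ⟨s, t, hs, coe_xg hD s t⟩)
  rintro g ⟨s, t, hs, e⟩
  obtain rfl : g = xg hD F s t := Units.ext e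
  exact xg_mem_gen hD hs t

/-- `x_s(u)` passes `x_r(t)` with the correcting word. -/
theorem xg_pass {r s : ℕ} (hr : r < D.nroots) (hs : s < D.nroots) (h₁ : s ≠ r) (h₂ : s ≠ D.neg r)
    (t u : F) : xg hD F s u * xg hD F r t =
      xg hD F r t * xg hD F s u * ((D.commWord F r s t u).map fun p => xg hD F p.1 p.2).prod :=
  (ChevOrder.matSys D hD F).comm r s hr hs h₁ h₂ t u

/-- A single correcting term. -/
theorem xg_move {q s z : ℕ} {c : ℤ} (hq : q < D.nroots) (hs : s < D.nroots) (h₁ : s ≠ q)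
    (h₂ : s ≠ D.neg q) (h : D.commTerms q s = [(z, c, 1, 1)]) [CharP F 2] (hc : c % 2 ≠ 0) (t : F) :
    xg hD F s t * xg hD F q 1 = xg hD F q 1 * xg hD F s t * xg hD F z t := by
  rw [xg_pass hD hq hs h₁ h₂]
  simp [ChevalleyDatum.commWord, h, intCast_eq_one hc, CharTwo.neg_eq]

theorem word_mem {Z : Set ℕ} [CharP F 2] {r s : ℕ}
    (h : ∀ τ ∈ D.commTerms r s, τ.1 ∈ Z ∨ τ.2.1 % 2 = 0) (t u : F) :
    ((D.commWord F r s t u).map fun p => xg hD F p.1 p.2).prod ∈ gen hD F Z := by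
  refine list_prod_mem fun g hg' => ?_
  simp only [ChevalleyDatum.commWord, List.map_map, List.mem_map, Function.comp_apply] at hg'
  obtain ⟨τ, hτ, rfl⟩ := hg'
  rcases h τ hτ with hz | hz
  · exact xg_mem_gen hD hz _
  · have h0 : ((τ.2.1 : ℤ) : F) = 0 := (CharP.intCast_eq_zero_iff F 2 _).2 (Int.dvd_of_emod_eq_zero hz)
    simp only [h0, zero_mul, xg_zero]
    exact one_mem _

theorem xg_comm [CharP F 2] {q s : ℕ}
    (h : s = q ∨ (s ≠ D.neg q ∧ ∀ τ ∈ D.commTerms q s, τ.2.1 % 2 = 0)) (hq : q < D.nroots)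
    (hs : s < D.nroots) (t u : F) : Commute (xg hD F s u) (xg hD F q t) := by
  by_cases h₁ : s = q
  · subst h₁
    rw [Commute, SemiconjBy, xg_add hD hs, xg_add hD hs, add_comm]
  obtain ⟨h₂, h3⟩ := h.resolve_left h₁
  have h4 : ((D.commWord F q s t u).map fun p => xg hD F p.1 p.2).prod ∈ gen hD F ∅ :=
    word_mem hD (fun τ hτ => Or.inr (h3 τ hτ)) t u
  rw [show gen hD F (∅ : Set ℕ) = ⊥ by simp [gen, Sys.genBy], Subgroup.mem_bot] at h4
  rw [Commute, SemiconjBy, xg_pass hD hq hs h₁ h₂, h4, mul_one]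

/-- Adjoining a normalising root subgroup. -/
theorem gen_insert {T : Set ℕ} {r : ℕ} (hr : r < D.nroots) (hlt : ∀ s ∈ T, s < D.nroots)
    (h₁ : ∀ s ∈ T, s ≠ r ∧ s ≠ D.neg r) (h : ∀ s ∈ T, ∀ τ ∈ D.commTerms r s, τ.1 ∈ T)
    {g : GL D.Idx F} (hg' : g ∈ gen hD F (insert r T)) :
    ∃ t, ∃ p ∈ gen hD F T, g = xg hD F r t * p := by
  have hn := fun t => Subgroup.mem_normalizer_iff.1
    ((ChevOrder.matSys D hD F).x_mem_normalizer_genBy hr hlt h₁ h t)
  induction hg' using Subgroup.closure_induction with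
  | mem x hx =>
    obtain ⟨q, hq, t, rfl⟩ := hx
    rcases hq with rfl | hq
    · exact ⟨t, 1, one_mem _, (mul_one _).symm⟩
    · exact ⟨0, _, xg_mem_gen hD hq t, by rw [xg_zero, one_mul]; rfl⟩
  | one => exact ⟨0, 1, one_mem _, by rw [xg_zero, one_mul]⟩
  | mul x y _ _ hx hy =>
    obtain ⟨t, p, hp, rfl⟩ := hx
    obtain ⟨t', p', hp', rfl⟩ := hy
    refine ⟨t + t', (xg hD F r (-t') * p * (xg hD F r (-t'))⁻¹) * p', mul_mem ((hn (-t') p).1 hp) hp', ?_⟩
    rw [← xg_add hD hr, xg_inv, _root_.neg_neg, ← xg_inv]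
    group
  | inv x _ hx =>
    obtain ⟨t, p, hp, rfl⟩ := hx
    refine ⟨-t, xg hD F r t * p⁻¹ * (xg hD F r t)⁻¹, (hn t p⁻¹).1 (inv_mem hp), ?_⟩
    rw [← xg_inv]
    group

/-- The action of `x_r(t)` on the Cartan part. -/
theorem xg_mulVec_inl {r : ℕ} (hr : r < D.nroots) (t : F) {x : D.Idx → F}
    (hx : ∀ u, x (Sum.inr u) = 0) :
    (xg hD F r t : Matrix D.Idx D.Idx F) *ᵥ x =
      x + (∑ i : Fin D.rank, x (Sum.inl i) * (-((D.cartan i.val r : ℤ) : F) * t)) • ev D F r := by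
  have hsum : x = ∑ i : Fin D.rank, x (Sum.inl i) • Pi.single (Sum.inl i) (1 : F) := by
    ext b
    rcases b with i | u <;> simp [Finset.sum_apply, Pi.single_apply, hx]
  conv_lhs => rw [hsum]
  simp only [coe_xg, x_eq_xR D hr, Matrix.mulVec_sum, Matrix.mulVec_smul, xR_inl, smul_add, smul_smul,
    Finset.sum_add_distrib, ← Finset.sum_smul]
  rw [← hsum]

/-- A root element in a root subgroup of a root with an odd Cartan entry. -/
theorem xg_inj [CharP F 2] {r s i : ℕ} (hr : r < D.nroots) (hs : s < D.nroots) (hi : i < D.rank)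
    (hodd : D.cartan i r % 2 ≠ 0) {t : F} (h : xg hD F r 1 = xg hD F s t) : s = r := by
  by_contra hne
  have h1 := congrArg (fun g : GL D.Idx F => ((g : Matrix D.Idx D.Idx F) *ᵥ
    Pi.single (Sum.inl ⟨i, hi⟩) 1) (Sum.inr ⟨r, hr⟩)) h
  simp only [coe_xg, x_eq_xR D hr, x_eq_xR D hs, xR_inl] at h1
  simp [ev, Ne.symm hne, intCast_eq_one hodd] at h1

/-- Vectors supported on a set of roots. -/
def OnZ (D : ChevalleyDatum) (Z : List ℕ) (x : D.Idx → F) : Prop :=
  ∀ b, (∀ u : Fin D.nroots, u.val ∈ Z → b ≠ Sum.inr u) → x b = 0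

theorem onZ_inl {Z : List ℕ} {x : D.Idx → F} (hx : OnZ D Z x) (i : Fin D.rank) : x (Sum.inl i) = 0 :=
  hx _ fun _ _ => Sum.inl_ne_inr

theorem onZ_inr {Z : List ℕ} {x : D.Idx → F} (hx : OnZ D Z x) {u : Fin D.nroots} (hu : u.val ∉ Z) :
    x (Sum.inr u) = 0 :=
  hx _ fun v hv e => hu (Sum.inr_injective e ▸ hv)

/-- Elements fixing the span of `Z` and moving the Cartan part into it. -/
def Unip (D : ChevalleyDatum) (Z : List ℕ) (g : GL D.Idx F) : Prop :=
  (∀ x, OnZ D Z x → (g : Matrix D.Idx D.Idx F) *ᵥ x = x) ∧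
    ∀ x, (∀ u, x (Sum.inr u) = 0) → OnZ D Z ((g : Matrix D.Idx D.Idx F) *ᵥ x - x)

/-- The coordinate at the root `z`, read off the Cartan element `i`. -/
def kap (z : Fin D.nroots) (i : Fin D.rank) (g : GL D.Idx F) : F :=
  ((g : Matrix D.Idx D.Idx F) *ᵥ Pi.single (Sum.inl i) 1) (Sum.inr z)

theorem kap_mul {Z : List ℕ} {g g' : GL D.Idx F} (hg' : Unip D Z g) (hg'' : Unip D Z g')
    (z : Fin D.nroots) (i : Fin D.rank) : kap z i (g * g') = kap z i g + kap z i g' := by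
  have hw := hg''.2 (Pi.single (Sum.inl i) 1) (fun u => by simp)
  have e := hg'.1 _ hw
  rw [Matrix.mulVec_sub] at e
  have e' := congrFun e (Sum.inr z)
  simp only [Pi.sub_apply] at e'
  have hz : (Pi.single (Sum.inl i) (1 : F) : D.Idx → F) (Sum.inr z) = 0 := by simp
  rw [hz, sub_zero] at e'
  simp only [kap, Units.val_mul, ← Matrix.mulVec_mulVec]
  linear_combination e'

section

variable {a b : ℕ} {Z S J : List ℕ} {j₁ j₂ : ℕ} {ca cb : ℤ} {O : List (ℕ × ℕ)}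
  (hc : PairCheck D a b Z S J j₁ j₂ ca cb O)

include hc in
theorem unip_gen {g : GL D.Idx F} (hg' : g ∈ gen hD F {z | z ∈ a :: b :: Z}) :
    Unip D (a :: b :: Z) g := by
  induction hg' using Subgroup.closure_induction with
  | mem y hy =>
    obtain ⟨z, hz, t, rfl⟩ := hy
    change Unip D _ (xg hD F z t)
    have hzlt := hc.lt z hz
    refine ⟨fun x hx => ?_, fun x hx c hcb => ?_⟩
    · conv_lhs => rw [pi_eq_sum_univ' x]
      conv_rhs => rw [pi_eq_sum_univ' x]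
      simp only [Matrix.mulVec_sum, Matrix.mulVec_smul]
      refine Finset.sum_congr rfl fun c _ => ?_
      rcases c with i | u
      · simp [onZ_inl hx i]
      by_cases hu : u.val ∈ a :: b :: Z
      swap
      · simp [onZ_inr hx hu]
      congr 1
      rw [show (Pi.single (Sum.inr u) (1 : F) : D.Idx → F) = ev D F u.val from (ev_of_lt D F u.isLt).symm,
        coe_xg, x_eq_xR D hzlt]
      rcases hc.fix z hz u.val hu with e | ⟨h1, h2⟩
      · rw [e, xR_self D z t hzlt]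
      · by_cases h0 : u.val = z
        · rw [h0, xR_self D z t hzlt]
        rw [xR_gen D z t (hD.keys z hzlt) u.isLt h0 h1, h2]
        simp [sumCol]
    · rw [xg_mulVec_inl hD hzlt t hx, add_sub_cancel_left]
      rcases c with i | u
      · simp [ev]
      · have : u.val ≠ z := fun e => hcb u (e ▸ hz) rfl
        simp [ev, this]
  | one => exact ⟨fun x _ => by simp, fun x _ c _ => by simp⟩
  | mul g g' _ _ hg₁ hg₂ =>
    refine ⟨fun x hx => by rw [Units.val_mul, ← Matrix.mulVec_mulVec, hg₂.1 x hx, hg₁.1 x hx],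
      fun x hx c hcb => ?_⟩
    have h2 := hg₂.2 x hx
    have e := hg₁.1 _ h2
    rw [Matrix.mulVec_sub] at e
    have e' := congrFun e c
    have h1 := hg₁.2 x hx c hcb
    have h3 := h2 c hcb
    simp only [Pi.sub_apply] at e' h1 h3
    simp only [Units.val_mul, ← Matrix.mulVec_mulVec, Pi.sub_apply]
    linear_combination e' + h1 + h3
  | inv g _ hg₁ =>
    have hinv : ∀ x, ((g⁻¹ : GL D.Idx F) : Matrix D.Idx D.Idx F) *ᵥ ((g : Matrix D.Idx D.Idx F) *ᵥ x) = x := by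
      intro x
      rw [Matrix.mulVec_mulVec, ← Units.val_mul, inv_mul_cancel, Units.val_one, Matrix.one_mulVec]
    have hfix : ∀ x, OnZ D (a :: b :: Z) x →
        ((g⁻¹ : GL D.Idx F) : Matrix D.Idx D.Idx F) *ᵥ x = x := by
      intro x hx
      conv_lhs => rw [← hg₁.1 x hx]
      exact hinv x
    refine ⟨hfix, fun x hx c hcb => ?_⟩
    have h2 := hg₁.2 x hx
    have e := hfix _ h2
    rw [Matrix.mulVec_sub, hinv] at e
    have e' := congrFun e c
    have h3 := h2 c hcb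
    simp only [Pi.sub_apply] at e' h3 ⊢
    linear_combination -e' - h3

include hc in
theorem kap_xg {z q : ℕ} (hz : z < D.nroots) (i : Fin D.rank) (hq : q ∈ a :: b :: Z) (t : F) :
    kap ⟨z, hz⟩ i (xg hD F q t) = if z = q then -((D.cartan i.val q : ℤ) : F) * t else 0 := by
  have hq' := hc.lt q hq
  simp only [kap, coe_xg, x_eq_xR D hq', xR_inl]
  by_cases h : z = q <;> simp [ev, h]

include hc in
theorem kap_Z [CharP F 2] {q : ℕ} (hqZ : q ∉ Z) (hq : q < D.nroots) (i : Fin D.rank) {g : GL D.Idx F}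
    (hg' : g ∈ gen hD F {z | z ∈ Z}) : kap ⟨q, hq⟩ i g = 0 := by
  have sub : ∀ {g : GL D.Idx F}, g ∈ gen hD F {z | z ∈ Z} → Unip D (a :: b :: Z) g := fun h =>
    unip_gen hD hc (gen_le hD (fun s hs t => xg_mem_gen hD (by simp_all) t) h)
  have h1 : kap ⟨q, hq⟩ i (1 : GL D.Idx F) = 0 := by simp [kap]
  induction hg' using Subgroup.closure_induction with
  | mem y hy =>
    obtain ⟨z, hz, t, rfl⟩ := hy
    change kap _ i (xg hD F z t) = 0
    rw [kap_xg hD hc hq i (by simp [show z ∈ Z from hz]), if_neg]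
    rintro rfl
    exact hqZ hz
  | one => exact h1
  | mul g g' h h' hg₁ hg₂ => rw [kap_mul (sub h) (sub h'), hg₁, hg₂, add_zero]
  | inv g h hg₁ =>
    have e := kap_mul (sub (inv_mem h)) (sub h) ⟨q, hq⟩ i
    rw [inv_mul_cancel, h1, hg₁, add_zero] at e
    exact e.symm

variable {M : List (List ℤ)} {d : ℤ} (hR : Roots D M d)

include hR in
/-- The action of monomial elements on the basis. -/
theorem monomial_mulVec {h : GL D.Idx F} (hh : h ∈ D.diagonalSubgroup F) (l : List (Fin D.rank)) :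
    (∀ q : Fin D.nroots, ∃ η : F, η ≠ 0 ∧
      ((h * (chevRGD hD hR F).nw l : GL D.Idx F) : Matrix D.Idx D.Idx F) *ᵥ ev D F q.val =
        η • ev D F ((chevRGD hD hR F).ww l q).val) ∧
    ∀ x, (∀ u, x (Sum.inr u) = 0) → ∀ u,
      (((h * (chevRGD hD hR F).nw l : GL D.Idx F) : Matrix D.Idx D.Idx F) *ᵥ x) (Sum.inr u) = 0 := by
  set R := chevRGD hD hR F with hRdef
  obtain ⟨χ, hχ, -⟩ := isToral_of_mem hD hh
  have hd1 : ∀ q : Fin D.nroots, (h : Matrix D.Idx D.Idx F) *ᵥ ev D F q.val = (χ q.val : F) • ev D F q.val := by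
    intro q
    ext c
    rcases c with i | u
    · simp [hχ, dg, Matrix.mulVec_diagonal, ev]
    · simp only [hχ, dg, Matrix.mulVec_diagonal, ev, Sum.elim_inr, Pi.smul_apply, smul_eq_mul]
      split_ifs with e <;> simp [e]
  have hd2 : ∀ x : D.Idx → F, (∀ u, x (Sum.inr u) = 0) → ∀ u,
      ((h : Matrix D.Idx D.Idx F) *ᵥ x) (Sum.inr u) = 0 := by
    intro x hx u
    simp [hχ, dg, Matrix.mulVec_diagonal, hx u]
  have key : (∀ q : Fin D.nroots, ∃ η : F, η ≠ 0 ∧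
      (R.nw l : Matrix D.Idx D.Idx F) *ᵥ ev D F q.val = η • ev D F (R.ww l q).val) ∧
      ∀ x, (∀ u, x (Sum.inr u) = 0) → ∀ u, ((R.nw l : Matrix D.Idx D.Idx F) *ᵥ x) (Sum.inr u) = 0 := by
    induction l with
    | nil => exact ⟨fun q => ⟨1, one_ne_zero, by simp⟩, fun x hx u => by simpa using hx u⟩
    | cons i l ih =>
      have hs := hD.simple_lt i.val i.isLt
      have hn : (R.n i : Matrix D.Idx D.Idx F) = D.nMat F (D.simple i.val) 1 := coe_ng hD _ _
      refine ⟨fun q => ?_, fun x hx u => ?_⟩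
      · obtain ⟨η, hη, e⟩ := ih.1 q
        refine ⟨η * (nSign D (D.simple i.val) (R.ww l q).val : F), mul_ne_zero hη ?_, ?_⟩
        · rcases (nSign_cases hD hs (R.ww l q).isLt).1 with h | h <;> simp [h]
        · rw [R.nw_cons, Units.val_mul, ← Matrix.mulVec_mulVec, e, Matrix.mulVec_smul, hn,
            hD.n_root hs (R.ww l q).isLt one_ne_zero, one_zpow, mul_one, smul_smul]
          rfl
      · set y := (R.nw l : Matrix D.Idx D.Idx F) *ᵥ x
        have hy : ∀ u, y (Sum.inr u) = 0 := ih.2 x hx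
        rw [R.nw_cons, Units.val_mul, ← Matrix.mulVec_mulVec, hn]
        change (D.nMat F (D.simple i.val) 1 *ᵥ y) (Sum.inr u) = 0
        rw [pi_eq_sum_univ' y, Matrix.mulVec_sum, Finset.sum_apply]
        refine Finset.sum_eq_zero fun c _ => ?_
        rcases c with k | w
        · simp [Matrix.mulVec_smul, hD.n_inl hs one_ne_zero, hv]
        · simp [hy w]
  refine ⟨fun q => ?_, fun x hx u => ?_⟩
  · obtain ⟨η, hη, e⟩ := key.1 q
    refine ⟨η * (χ (R.ww l q).val : F), mul_ne_zero hη (Units.ne_zero _), ?_⟩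
    rw [Units.val_mul, ← Matrix.mulVec_mulVec, e, Matrix.mulVec_smul, hd1, smul_smul]
  · rw [Units.val_mul, ← Matrix.mulVec_mulVec]
    exact hd2 _ (key.2 x hx) u

include hR in
theorem ww_injective (l : List (Fin D.rank)) : Function.Injective ((chevRGD hD hR F).ww l) := by
  induction l with
  | nil => exact fun x y h => h
  | cons i l ih =>
    intro x y h
    have := congrArg ((chevRGD hD hR F).w i) h
    simp only [RGD.RootData.ww_cons, (chevRGD hD hR F).w_w] at this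
    exact ih this

include hc hR in
/-- A monomial element relating two elements of the `Z`-group keeps the support inside `Z`. -/
theorem ww_mem {h : GL D.Idx F} (hh : h ∈ D.diagonalSubgroup F) (l : List (Fin D.rank))
    {y y' : GL D.Idx F} (hy : Unip D (a :: b :: Z) y) (hy' : Unip D (a :: b :: Z) y')
    (e : h * (chevRGD hD hR F).nw l * y = y' * (h * (chevRGD hD hR F).nw l))
    {q : Fin D.nroots} (i : Fin D.rank) (hk : kap q i y ≠ 0) :
    ((chevRGD hD hR F).ww l q).val ∈ a :: b :: Z := by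
  by_contra hout
  set R := chevRGD hD hR F
  obtain ⟨h1, h2⟩ := monomial_mulVec hD hR hh l
  set g := h * R.nw l
  set x : D.Idx → F := Pi.single (Sum.inl i) 1
  have hx : ∀ u, x (Sum.inr u) = 0 := fun u => by simp [x]
  set w := (y : Matrix D.Idx D.Idx F) *ᵥ x - x with hw
  have hwZ : OnZ D (a :: b :: Z) w := hy.2 x hx
  have hgx := h2 x hx
  have hr : ((g : Matrix D.Idx D.Idx F) *ᵥ ((y : Matrix D.Idx D.Idx F) *ᵥ x)) (Sum.inr (R.ww l q)) = 0 := by
    rw [Matrix.mulVec_mulVec, ← Units.val_mul, e, Units.val_mul, ← Matrix.mulVec_mulVec]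
    have := onZ_inr (hy'.2 _ hgx) hout
    rwa [Pi.sub_apply, hgx, sub_zero] at this
  rw [show (y : Matrix D.Idx D.Idx F) *ᵥ x = x + w by rw [hw]; abel, Matrix.mulVec_add, Pi.add_apply,
    hgx, zero_add, pi_eq_sum_univ' w, Matrix.mulVec_sum, Finset.sum_apply,
    Finset.sum_eq_single (Sum.inr q)] at hr
  · obtain ⟨η, hη, eη⟩ := h1 q
    rw [Matrix.mulVec_smul, ← ev_of_lt D F q.isLt, eη] at hr
    simp [ev, hη] at hr
    exact hk (by simpa [kap, hw, x] using hr rfl)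
  · intro c _ hcq
    rcases c with k | u
    · simp [onZ_inl hwZ k]
    · obtain ⟨η, -, eη⟩ := h1 u
      rw [Matrix.mulVec_smul, ← ev_of_lt D F u.isLt, eη]
      have hne : R.ww l q ≠ R.ww l u := fun h' => hcq (by rw [ww_injective hD hR l h'])
      simp [ev]
      exact fun h' => absurd (Fin.ext h') hne
  · simp

include hc hR

theorem mu_ww (l : List (Fin D.rank)) (ha : ((chevRGD hD hR F).ww l ⟨a, hc.lt a (by simp)⟩).val = a)
    (hb : ((chevRGD hD hR F).ww l ⟨b, hc.lt b (by simp)⟩).val = b) (q : Fin D.nroots) :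
    mu D ca cb a b ((chevRGD hD hR F).ww l q).val = mu D ca cb a b q.val := by
  have key : ∀ (l : List (Fin D.rank)) (q s : Fin D.nroots),
      D.pairing ((chevRGD hD hR F).ww l q).val ((chevRGD hD hR F).ww l s).val = D.pairing q.val s.val := by
    intro l
    induction l with
    | nil => exact fun q s => rfl
    | cons i l ih =>
      intro q s
      exact (hc.inv i.val i.isLt _ ((chevRGD hD hR F).ww l q).isLt _
        ((chevRGD hD hR F).ww l s).isLt).trans (ih q s)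
  have h1 := key l q ⟨a, hc.lt a (by simp)⟩
  have h2 := key l q ⟨b, hc.lt b (by simp)⟩
  rw [ha] at h1
  rw [hb] at h2
  simp only [mu, h1, h2]

theorem ngS_mem {i : ℕ} (hi : i ∈ J) (t : F) : ng hD F (D.simple i) t ∈ gen hD F {s | s ∈ S} :=
  mul_mem (mul_mem (xg_mem_gen hD (hc.fixJ i hi).2.2.2.1 _) (xg_mem_gen hD (hc.fixJ i hi).2.2.2.2 _))
    (xg_mem_gen hD (hc.fixJ i hi).2.2.2.1 _)

/-- Torus elements split off the factors at `j₁`, `j₂`. -/
theorem exists_split {h : GL D.Idx F} (hh : h ∈ D.diagonalSubgroup F) :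
    ∃ k ∈ gen hD F {s | s ∈ S}, k ∈ D.diagonalSubgroup F ∧ ∃ c c' : F, c ≠ 0 ∧ c' ≠ 0 ∧
      h = k * (hg hD F (D.simple j₁) c * hg hD F (D.simple j₂) c') := by
  have hgd : ∀ i < D.rank, ∀ c : F, c ≠ 0 → hg hD F (D.simple i) c ∈ D.diagonalSubgroup F :=
    fun i hi c hc' => Subgroup.subset_closure ⟨_, c, hD.simple_lt i hi, hc', coe_hg hD _ _⟩
  have h1 : ∀ i, hg hD F (D.simple i) (1 : F) = 1 := fun i => by rw [hg, ← ng_inv, mul_inv_cancel]
  have hinv : ∀ i < D.rank, ∀ c : F, c ≠ 0 →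
      hg hD F (D.simple i) c⁻¹ = (hg hD F (D.simple i) c)⁻¹ := fun i hi c hc0 => by
    refine eq_inv_of_mul_eq_one_left ?_
    rw [← hg_mul hD _ (hD.simple_lt i hi) (inv_ne_zero hc0) hc0, inv_mul_cancel₀ hc0, h1]
  have hj₁ := hc.j_lt.1
  have hj₂ := hc.j_lt.2
  have h' := diag_le_simple hD hh
  induction h' using Subgroup.closure_induction with
  | mem x hx =>
    obtain ⟨i, hi, c, hc0, rfl⟩ := hx
    rcases hc.cover i hi with hJ | rfl | rfl
    · exact ⟨_, mul_mem (ngS_mem hD hc hR hJ _) (ngS_mem hD hc hR hJ _), hgd i hi c hc0, 1, 1, one_ne_zero,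
        one_ne_zero, by rw [h1, h1, mul_one, mul_one]; rfl⟩
    · exact ⟨1, one_mem _, one_mem _, c, 1, hc0, one_ne_zero, by rw [h1, mul_one, one_mul]⟩
    · exact ⟨1, one_mem _, one_mem _, 1, c, one_ne_zero, hc0, by rw [h1, one_mul, one_mul]⟩
  | one => exact ⟨1, one_mem _, one_mem _, 1, 1, one_ne_zero, one_ne_zero, by rw [h1, h1, mul_one, mul_one]⟩
  | mul x y hx hy ihx ihy =>
    have hd : ∀ z ∈ Subgroup.closure {g : GL D.Idx F | ∃ i, i < D.rank ∧ ∃ c : F, c ≠ 0 ∧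
        g = hg hD F (D.simple i) c}, z ∈ D.diagonalSubgroup F := fun z hz =>
      (Subgroup.closure_le _).2 (fun g hg' => by
        obtain ⟨i, hi, c, hc0, rfl⟩ := hg'; exact hgd i hi c hc0) hz
    obtain ⟨k, hk, hkd, c, c', hc0, hc0', rfl⟩ := ihx (hd _ hx)
    obtain ⟨k₂, hk₂, hkd₂, e₁, e₂, he₁, he₂, rfl⟩ := ihy (hd _ hy)
    refine ⟨k * k₂, mul_mem hk hk₂, mul_mem hkd hkd₂, c * e₁, c' * e₂, mul_ne_zero hc0 he₁,
      mul_ne_zero hc0' he₂, ?_⟩
    rw [hg_mul hD _ (hD.simple_lt _ hj₁) hc0 he₁, hg_mul hD _ (hD.simple_lt _ hj₂) hc0' he₂]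
    set A := hg hD F (D.simple j₁) c
    set B := hg hD F (D.simple j₂) c'
    set A' := hg hD F (D.simple j₁) e₁
    set B' := hg hD F (D.simple j₂) e₂
    have c1 : A * B * k₂ = k₂ * (A * B) :=
      diag_commute hD (mul_mem (hgd _ hj₁ c hc0) (hgd _ hj₂ c' hc0')) hkd₂
    have c2 : B * A' = A' * B := diag_commute hD (hgd _ hj₂ c' hc0') (hgd _ hj₁ e₁ he₁)
    calc k * (A * B) * (k₂ * (A' * B')) = k * (A * B * k₂) * (A' * B') := by group
      _ = k * (k₂ * (A * B)) * (A' * B') := by rw [c1]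
      _ = k * k₂ * (A * (B * A') * B') := by group
      _ = k * k₂ * (A * A' * (B * B')) := by rw [c2]; group
  | inv x hx ihx =>
    obtain ⟨k, hk, hkd, c, c', hc0, hc0', rfl⟩ := ihx (by simpa using inv_mem hh)
    refine ⟨k⁻¹, inv_mem hk, inv_mem hkd, c⁻¹, c'⁻¹, inv_ne_zero hc0, inv_ne_zero hc0', ?_⟩
    rw [hinv _ hj₁ c hc0, hinv _ hj₂ c' hc0', ← _root_.mul_inv_rev, ← _root_.mul_inv_rev]
    congr 1
    have d1 := hgd _ hj₁ c hc0
    have d2 := hgd _ hj₂ c' hc0'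
    rw [diag_commute hD d1 d2]
    exact diag_commute hD hkd (mul_mem d2 d1)

variable [CharP F 2]

/-- Weyl words fixing both roots can be taken in `gen S`. -/
theorem exists_nw_pair {l : List (Fin D.rank)}
    (ha : ((chevRGD hD hR F).ww l ⟨a, hc.lt a (by simp)⟩).val = a)
    (hb : ((chevRGD hD hR F).ww l ⟨b, hc.lt b (by simp)⟩).val = b) :
    ∃ k ∈ D.diagonalSubgroup F, ∃ m ∈ gen hD F {s | s ∈ S}, (chevRGD hD hR F).nw l = k * m := by
  induction hn : l.length using Nat.strong_induction_on generalizing l with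
  | _ n ih =>
    set R := chevRGD hD hR F with hRdef
    by_cases hall : ∀ i : Fin D.rank, R.pos (R.ww l (R.simple i))
    · refine ⟨R.nw l, R.mem_H_of_pos ?_, 1, one_mem _, (mul_one _).symm⟩
      intro q hq
      obtain ⟨g, hg', e⟩ := lin_comp hD hR F l (isLin_ht hD M)
      simp only [← hRdef] at e
      by_contra hneg
      have hneg' : IsLin D fun q => -1 * g q := hg'.smul (-1)
      have h1 := lin_neg hD hR hneg' (fun i hi => by
        have h2 := hR.ht_pos _ (R.ww l (R.simple ⟨i, hi⟩)).isLt (hall ⟨i, hi⟩)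
        have h3 := e ⟨D.simple i, hD.simple_lt i hi⟩
        change g (D.simple i) = ht D M (R.ww l (R.simple ⟨i, hi⟩)).val at h3
        omega) q.isLt hq
      have h4 := hR.ht_pos _ (hD.neg_lt _ (R.ww l q).isLt) ((pos_or_neg hD (R.ww l q).isLt).2 hneg)
      rw [(isLin_ht hD M).neg _ (R.ww l q).isLt] at h4
      have h5 := e q
      omega
    push Not at hall
    obtain ⟨i, hi⟩ := hall
    have hiJ : i.val ∈ J := by
      by_contra hiJ
      have h1 := mu_ww hD hc hR l ha hb (R.simple i)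
      simp only [← hRdef] at h1
      have h2 := hc.mu_out i.val i.isLt hiJ
      have h3 := hc.mu_neg _ (R.ww l (R.simple i)).isLt hi
      change _ = mu D ca cb a b (D.simple i.val) at h1
      omega
    obtain ⟨-, hfa, hfb, -, -⟩ := hc.fixJ i.val hiJ
    obtain ⟨l', hlen, k, hk, e⟩ := R.exists_shorter hi
    have hfix : ∀ r ∈ [a, b], ∀ hr : r < D.nroots, (R.ww l ⟨r, hr⟩).val = r →
        (R.ww l' ⟨r, hr⟩).val = r := by
      intro r hr' hr hl
      have hw : R.w i ⟨r, hr⟩ = ⟨r, hr⟩ := Fin.ext (by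
        rcases List.mem_pair.1 hr' with rfl | rfl
        · exact hfa
        · exact hfb)
      have h1 : (R.U ⟨r, hr⟩).map (MulAut.conj (R.nw l')).toMonoidHom = R.U (R.ww l ⟨r, hr⟩) := by
        rw [show R.nw l' = k⁻¹ * R.nw (l ++ [i]) by rw [e]; group, RGD.RootData.map_conj_mul, R.map_conj_U,
          R.map_conj_H_U (inv_mem hk), R.ww_append, R.ww_cons, R.ww_nil, hw]
      rw [R.map_conj_U] at h1
      have h2 : xg hD F r 1 ∈ R.U (R.ww l' ⟨r, hr⟩) := by
        rw [h1]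
        show xg hD F r 1 ∈ D.rootSubgroup F (R.ww l ⟨r, hr⟩).val
        rw [hl]
        exact xg_mem_rootSubgroup hD r 1
      obtain ⟨v, hv⟩ := (mem_rootSubgroup hD _).1 h2
      obtain ⟨j, hj, hodd⟩ := hc.odd r (by simp at hr' ⊢; tauto)
      exact xg_inj hD hr (R.ww l' ⟨r, hr⟩).isLt hj hodd hv
    obtain ⟨k', hk', m, hm, e'⟩ := ih l'.length (by omega) (hfix a (by simp) _ ha) (hfix b (by simp) _ hb) rfl
    refine ⟨k * k', mul_mem hk hk', m * (ng hD F (D.simple i.val) 1)⁻¹,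
      mul_mem hm (inv_mem (ngS_mem hD hc hR hiJ _)), ?_⟩
    rw [R.nw_append, R.nw_cons, R.nw_nil, mul_one, e'] at e
    rw [show k * k' * (m * (ng hD F (D.simple i.val) 1)⁻¹) = k * (k' * m) * (ng hD F (D.simple i.val) 1)⁻¹ by
      group, ← e]
    exact (mul_inv_cancel_right _ _).symm

/-- The centraliser of `x_a(1) x_b(1)`. -/
theorem centralizer_pair {C : Set ℕ} (hC : ∀ q ∈ C, q < D.nroots ∧ D.IsPosRoot q ∧ 0 < mu D ca cb a b q)
    (hSU : ∀ u ∈ D.posUnipotent F, ∃ c ∈ gen hD F C, c⁻¹ * u ∈ gen hD F {s | s ∈ S})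
    (hker : ∀ u ∈ D.posUnipotent F, Commute u (xg hD F a 1 * xg hD F b 1) →
      u ∈ gen hD F {s | s ∈ S})
    {t : GL D.Idx F} (ht : (t : Matrix D.Idx D.Idx F) = D.x F a 1 * D.x F b 1) :
    D.group F ⊓ Subgroup.centralizer {t} = gen hD F {s | s ∈ S} := by
  obtain rfl : t = xg hD F a 1 * xg hD F b 1 := Units.ext ht
  set v := xg hD F a 1 * xg hD F b 1 with hv
  set R := chevRGD hD hR F with hRdef
  set W := gen hD F {z | z ∈ Z} with hW
  have halt := hc.lt a (by simp)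
  have hblt := hc.lt b (by simp)
  have hcomm : ∀ g ∈ gen hD F {s | s ∈ S}, Commute g v := by
    intro g hg'
    have : gen hD F {s | s ∈ S} ≤ Subgroup.centralizer {v} := gen_le hD fun s hs c =>
      Subgroup.mem_centralizer_singleton_iff.2
        (((xg_comm hD (hc.comm s hs a (by simp)) halt (hc.S_lt s hs) 1 c).mul_right
          (xg_comm hD (hc.comm s hs b (by simp)) hblt (hc.S_lt s hs) 1 c)).eq)
    exact Subgroup.mem_centralizer_singleton_iff.1 (this hg')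
  have hnorm : ∀ s < D.nroots, (D.IsPosRoot s ∨ s ∈ S) → ∀ c : F,
      xg hD F s c ∈ Subgroup.normalizer (W : Set (GL D.Idx F)) := by
    intro s hs hgen c
    have hconj : ∀ c : F, ∀ w ∈ W, (xg hD F s c)⁻¹ * w * xg hD F s c ∈ W := by
      intro c w hw
      have : W ≤ W.comap (MulAut.conj (xg hD F s c)⁻¹).toMonoidHom := gen_le hD fun z hz t => by
        rw [Subgroup.mem_comap]
        show (xg hD F s c)⁻¹ * xg hD F z t * (xg hD F s c)⁻¹⁻¹ ∈ W
        rw [inv_inv]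
        by_cases hzs : z = s
        · subst hzs
          rw [mul_assoc, xg_add hD hs, add_comm, ← xg_add hD hs, inv_mul_cancel_left]
          exact xg_mem_gen hD hz t
        obtain ⟨h2, h3⟩ := (hc.normZ s hs hgen z hz).resolve_left hzs
        rw [mul_assoc, xg_pass hD hs (hc.lt z (by simp [show z ∈ Z from hz])) hzs h2, mul_assoc (xg hD F s c),
          inv_mul_cancel_left]
        exact mul_mem (xg_mem_gen hD hz t) (word_mem hD h3 c t)
      have h := this hw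
      rw [Subgroup.mem_comap] at h
      simpa using h
    rw [Subgroup.mem_normalizer_iff]
    intro w
    refine ⟨fun hw => ?_, fun hw => ?_⟩
    · have := hconj (-c) w hw
      rwa [← xg_inv, inv_inv] at this
    · simpa [mul_assoc] using hconj c _ hw
  have hvN : v ∈ Subgroup.normalizer (W : Set (GL D.Idx F)) :=
    mul_mem (hnorm a halt (Or.inl hc.pos.1) 1) (hnorm b hblt (Or.inl hc.pos.2) 1)
  -- conjugates of `v` under `U` stay in `v W`
  let K : Subgroup (GL D.Idx F) :=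
    { carrier := {g | g ∈ Subgroup.normalizer (W : Set (GL D.Idx F)) ∧ v⁻¹ * g * v * g⁻¹ ∈ W}
      one_mem' := ⟨one_mem _, by simp⟩
      mul_mem' := by
        rintro x y ⟨hx, hx'⟩ ⟨hy, hy'⟩
        refine ⟨mul_mem hx hy, ?_⟩
        rw [show v⁻¹ * (x * y) * v * (x * y)⁻¹ = (v⁻¹ * x * v * x⁻¹) * (x * (v⁻¹ * y * v * y⁻¹) * x⁻¹) by group]
        exact mul_mem hx' ((Subgroup.mem_normalizer_iff.1 hx _).1 hy')
      inv_mem' := by
        rintro x ⟨hx, hx'⟩
        refine ⟨inv_mem hx, ?_⟩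
        rw [show v⁻¹ * x⁻¹ * v * x⁻¹⁻¹ = x⁻¹ * (v⁻¹ * x * v * x⁻¹)⁻¹ * x⁻¹⁻¹ by group]
        exact (Subgroup.mem_normalizer_iff.1 (inv_mem hx) _).1 (inv_mem hx') }
  have hUK : D.posUnipotent F ≤ K := by
    rw [posUnipotent_eq_gen hD]
    refine gen_le hD fun s hs c => ⟨hnorm s hs.1 (Or.inl hs) c, ?_⟩
    set x := xg hD F s c
    have pass : ∀ q ∈ [a, b], q < D.nroots → ∃ w ∈ W, x * xg hD F q 1 = xg hD F q 1 * x * w := by
      intro q hq hqlt
      by_cases hsq : s = q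
      · subst hsq
        exact ⟨1, one_mem _, by rw [mul_one, xg_add hD hqlt, xg_add hD hqlt, add_comm]⟩
      obtain ⟨h2, h3⟩ := (hc.step s hs.1 (Or.inl hs) q hq).resolve_left hsq
      exact ⟨_, word_mem hD h3 1 c, xg_pass hD hqlt hs.1 hsq h2 1 c⟩
    obtain ⟨wa, hwa, ea⟩ := pass a (by simp) halt
    obtain ⟨wb, hwb, eb⟩ := pass b (by simp) hblt
    have hxb := hnorm b hblt (Or.inl hc.pos.2) 1
    have e : v⁻¹ * x * v * x⁻¹ = x * (wb * ((xg hD F b 1)⁻¹ * wa * xg hD F b 1)) * x⁻¹ := by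
      calc v⁻¹ * x * v * x⁻¹ = v⁻¹ * ((x * xg hD F a 1) * xg hD F b 1) * x⁻¹ := by rw [hv]; group
        _ = v⁻¹ * (xg hD F a 1 * (x * xg hD F b 1) * ((xg hD F b 1)⁻¹ * wa * xg hD F b 1)) * x⁻¹ := by
          rw [ea]; group
        _ = _ := by rw [eb, hv]; group
    rw [e]
    have h4 := (Subgroup.mem_normalizer_iff.1 (inv_mem hxb) wa).1 hwa
    rw [inv_inv] at h4
    exact (Subgroup.mem_normalizer_iff.1 (hnorm s hs.1 (Or.inl hs) c) _).1 (mul_mem hwb h4)
  have hconjv : ∀ g ∈ D.posUnipotent F, v⁻¹ * (g * v * g⁻¹) ∈ W := by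
    intro g hg'
    have h := (hUK hg').2
    rwa [show v⁻¹ * g * v * g⁻¹ = v⁻¹ * (g * v * g⁻¹) by group] at h
  have hsub : W ≤ gen hD F {z | z ∈ a :: b :: Z} :=
    gen_le hD fun s hs t => xg_mem_gen hD (by simp_all) t
  have hunipW : ∀ w ∈ W, Unip D (a :: b :: Z) w := fun w hw => unip_gen hD hc (hsub hw)
  have hva : xg hD F a 1 ∈ gen hD F {z | z ∈ a :: b :: Z} := xg_mem_gen hD (by simp) 1
  have hvb : xg hD F b 1 ∈ gen hD F {z | z ∈ a :: b :: Z} := xg_mem_gen hD (by simp) 1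
  obtain ⟨ia, hia, hoa⟩ := hc.odd a (by simp)
  obtain ⟨ib, hib, hob⟩ := hc.odd b (by simp)
  have hka : ∀ (s t : F), ∀ w ∈ W,
      kap ⟨a, halt⟩ ⟨ia, hia⟩ (xg hD F a s * xg hD F b t * w) = s ∧
      kap ⟨b, hblt⟩ ⟨ib, hib⟩ (xg hD F a s * xg hD F b t * w) = t := by
    intro s t w hw
    have u1 := unip_gen hD hc (xg_mem_gen (F := F) hD (show a ∈ {z | z ∈ a :: b :: Z} by simp) s)
    have u2 := unip_gen hD hc (xg_mem_gen (F := F) hD (show b ∈ {z | z ∈ a :: b :: Z} by simp) t)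
    have u12 := unip_gen hD hc (mul_mem (xg_mem_gen (F := F) hD (show a ∈ {z | z ∈ a :: b :: Z} by simp) s)
      (xg_mem_gen (F := F) hD (show b ∈ {z | z ∈ a :: b :: Z} by simp) t))
    constructor
    · rw [kap_mul u12 (hunipW w hw), kap_mul u1 u2, kap_Z hD hc hc.ne.2.1 halt _ hw,
        kap_xg hD hc halt _ (by simp), kap_xg hD hc halt _ (by simp), if_pos rfl, if_neg hc.ne.1]
      simp [intCast_eq_one hoa, CharTwo.neg_eq]
    · rw [kap_mul u12 (hunipW w hw), kap_mul u1 u2, kap_Z hD hc hc.ne.2.2 hblt _ hw,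
        kap_xg hD hc hblt _ (by simp), kap_xg hD hc hblt _ (by simp), if_pos rfl, if_neg (Ne.symm hc.ne.1)]
      simp [intCast_eq_one hob, CharTwo.neg_eq]
  refine le_antisymm ?_ (le_inf (gen_le_group hD _) fun g hg' =>
    Subgroup.mem_centralizer_singleton_iff.2 (hcomm g hg').eq)
  rintro g ⟨hgG, hgC⟩
  replace hgC : Commute g v := Subgroup.mem_centralizer_singleton_iff.1 hgC
  replace hgG : g ∈ R.G := by rw [hRdef, chev_G hD hR]; exact hgG
  obtain ⟨β, hβ, l, u, hu, rfl⟩ := R.exists_normalForm hgG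
  obtain ⟨u₁, hu₁, h, hh, rfl⟩ := R.exists_B hβ
  replace hu₁ : u₁ ∈ D.posUnipotent F := by rw [← chev_Upos hD hR]; exact hu₁
  replace hu : u ∈ D.posUnipotent F := by rw [← chev_Upos hD hR]; exact R.Uminus_le_Upos l hu
  set n := h * R.nw l with hn
  obtain ⟨w, hw, ew⟩ : ∃ w ∈ W, u * v * u⁻¹ = v * w := ⟨_, hconjv u hu, by group⟩
  obtain ⟨w', hw', ew'⟩ : ∃ w' ∈ W, u₁⁻¹ * v * u₁ = v * w' :=
    ⟨_, by simpa using hconjv u₁⁻¹ (inv_mem hu₁), by group⟩
  have hny : n * (v * w) = v * w' * n := by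
    have h2 : u₁⁻¹ * ((u₁ * h * R.nw l * u) * v) * u⁻¹ = u₁⁻¹ * (v * (u₁ * h * R.nw l * u)) * u⁻¹ :=
      congrArg (fun z => u₁⁻¹ * z * u⁻¹) hgC.eq
    rw [← ew, ← ew', hn]
    calc h * R.nw l * (u * v * u⁻¹) = u₁⁻¹ * ((u₁ * h * R.nw l * u) * v) * u⁻¹ := by group
      _ = _ := h2
      _ = _ := by group
  have huy : Unip D (a :: b :: Z) (v * w) := unip_gen hD hc (mul_mem (mul_mem hva hvb) (hsub hw))
  have huy' : Unip D (a :: b :: Z) (v * w') := unip_gen hD hc (mul_mem (mul_mem hva hvb) (hsub hw'))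
  have hmema := ww_mem hD hc hR hh l huy huy' hny (q := ⟨a, halt⟩) ⟨ia, hia⟩
    (by rw [hv, (hka 1 1 w hw).1]; exact one_ne_zero)
  have hmemb := ww_mem hD hc hR hh l huy huy' hny (q := ⟨b, hblt⟩) ⟨ib, hib⟩
    (by rw [hv, (hka 1 1 w hw).2]; exact one_ne_zero)
  have hO : ∀ l : List (Fin D.rank), ((R.ww l ⟨a, halt⟩).val, (R.ww l ⟨b, hblt⟩).val) ∈ O := by
    intro l
    induction l with
    | nil => exact hc.memO
    | cons i l ih => exact hc.closedO _ ih i.val i.isLt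
  have hpair := hc.onlyO _ (hO l) hmema hmemb
  have hla : (R.ww l ⟨a, halt⟩).val = a := congrArg Prod.fst hpair
  have hlb : (R.ww l ⟨b, hblt⟩).val = b := congrArg Prod.snd hpair
  obtain ⟨k, hk, m, hm, em⟩ := exists_nw_pair hD hc hR hla hlb
  obtain ⟨k₀, hk₀, -, c, c', hc0, hc0', ek⟩ := exists_split hD hc hR (h := h * k) (mul_mem hh hk)
  set e := hg hD F (D.simple j₁) c * hg hD F (D.simple j₂) c' with he
  have hn' : n = k₀ * e * m := by
    rw [hn, ← ek, em, mul_assoc]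
  have hj₁ := hD.simple_lt j₁ hc.j_lt.1
  have hj₂ := hD.simple_lt j₂ hc.j_lt.2
  have hed : e ∈ D.diagonalSubgroup F := mul_mem
    (Subgroup.subset_closure ⟨_, c, hj₁, hc0, coe_hg hD _ _⟩)
    (Subgroup.subset_closure ⟨_, c', hj₂, hc0', coe_hg hD _ _⟩)
  have hgenN : ∀ x ∈ gen hD F {s | s ∈ S}, x ∈ Subgroup.normalizer (W : Set (GL D.Idx F)) :=
    fun x hx => gen_le hD (fun s hs t => hnorm s (hc.S_lt s hs) (Or.inr hs) t) hx
  have heN : e ∈ Subgroup.normalizer (W : Set (GL D.Idx F)) := by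
    have hto : ∀ x ∈ D.diagonalSubgroup F, ∀ z ∈ W, x * z * x⁻¹ ∈ W := by
      intro x hx z hz
      have : W ≤ W.comap (MulAut.conj x).toMonoidHom := gen_le hD fun s hs t => by
        rw [Subgroup.mem_comap]
        obtain ⟨t', ht'⟩ := (mem_rootSubgroup hD s).1
          (toral_conj_rootSubgroup hD hx (xg_mem_rootSubgroup hD s t))
        show x * xg hD F s t * x⁻¹ ∈ W
        rw [ht']
        exact xg_mem_gen hD hs t'
      exact this hz
    rw [Subgroup.mem_normalizer_iff]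
    exact fun z => ⟨hto e hed z, fun hz => by simpa [mul_assoc] using hto e⁻¹ (inv_mem hed) _ hz⟩
  have hnN : n ∈ Subgroup.normalizer (W : Set (GL D.Idx F)) :=
    hn' ▸ mul_mem (mul_mem (hgenN k₀ hk₀) heN) (hgenN m hm)
  have hev : v⁻¹ * (e * v * e⁻¹) ∈ W := by
    have h5 : n * v * n⁻¹ = v * w' * (n * w⁻¹ * n⁻¹) :=
      calc n * v * n⁻¹ = n * (v * w) * w⁻¹ * n⁻¹ := by group
        _ = _ := by rw [hny]; group
    have h6 : v⁻¹ * (n * v * n⁻¹) ∈ W := by
      rw [h5, ← mul_assoc, inv_mul_cancel_left]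
      exact mul_mem hw' ((Subgroup.mem_normalizer_iff.1 hnN _).1 (inv_mem hw))
    have c₀ := hcomm k₀ hk₀
    have cm := hcomm m hm
    have h7 : v⁻¹ * (e * v * e⁻¹) = k₀⁻¹ * (v⁻¹ * (n * v * n⁻¹)) * k₀⁻¹⁻¹ :=
      calc v⁻¹ * (e * v * e⁻¹) = k₀⁻¹ * ((k₀ * v⁻¹) * (e * (v * m) * m⁻¹ * e⁻¹)) := by group
        _ = k₀⁻¹ * ((v⁻¹ * k₀) * (e * (m * v) * m⁻¹ * e⁻¹)) := by
          rw [← cm.eq, (Commute.inv_right c₀).eq]
        _ = _ := by rw [hn']; group
    rw [h7]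
    exact (Subgroup.mem_normalizer_iff.1 (inv_mem (hgenN k₀ hk₀)) _).1 h6
  set χ : ℕ → F := fun q => c ^ D.cartan j₁ q * c' ^ D.cartan j₂ q with hχ
  have hee : ∀ q : ℕ, e * xg hD F q 1 * e⁻¹ = xg hD F q (χ q) := by
    intro q
    rw [mul_inv_eq_iff_eq_mul, he, mul_assoc, hg_conj hD hj₂ hc0', ← mul_assoc,
      hg_conj hD hj₁ hc0, pairing_simple hD hc.j_lt.1, pairing_simple hD hc.j_lt.2, mul_one, mul_assoc]
  have hev' : e * v * e⁻¹ = v * (v⁻¹ * (e * v * e⁻¹)) := by group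
  have hev'' : e * v * e⁻¹ = xg hD F a (χ a) * xg hD F b (χ b) := by
    rw [← hee a, ← hee b, hv]; group
  obtain ⟨hχa, hχb⟩ : χ a = 1 ∧ χ b = 1 := by
    have ka := hka 1 1 _ hev
    rw [← hv, ← hev', hev''] at ka
    have kb := hka (χ a) (χ b) 1 (one_mem _)
    rw [mul_one] at kb
    exact ⟨kb.1.symm.trans ka.1, kb.2.symm.trans ka.2⟩
  obtain ⟨rfl, rfl⟩ : c = 1 ∧ c' = 1 := by
    set A := D.cartan j₁ a
    set B := D.cartan j₂ a
    set A' := D.cartan j₁ b
    set B' := D.cartan j₂ b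
    have e1 : Units.mk0 c hc0 ^ A * Units.mk0 c' hc0' ^ B = 1 := Units.ext (by simpa using hχa)
    have e2 : Units.mk0 c hc0 ^ A' * Units.mk0 c' hc0' ^ B' = 1 := Units.ext (by simpa using hχb)
    set U := Units.mk0 c hc0
    set V := Units.mk0 c' hc0'
    have hU : U ^ (A * B' - B * A') = 1 := by
      have h3 : (U ^ A * V ^ B) ^ B' * ((U ^ A' * V ^ B') ^ B)⁻¹ = 1 := by simp [e1, e2]
      rw [mul_zpow, mul_zpow, ← zpow_mul, ← zpow_mul, ← zpow_mul, ← zpow_mul, mul_inv, mul_comm B' B] at h3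
      rw [zpow_sub, mul_comm B A', ← h3]
      rw [mul_mul_mul_comm, mul_inv_cancel, mul_one]
    have hV : V ^ (A * B' - B * A') = 1 := by
      have h3 : (U ^ A' * V ^ B') ^ A * ((U ^ A * V ^ B) ^ A')⁻¹ = 1 := by simp [e1, e2]
      rw [mul_zpow, mul_zpow, ← zpow_mul, ← zpow_mul, ← zpow_mul, ← zpow_mul, mul_inv, mul_comm A' A] at h3
      rw [zpow_sub, mul_comm A B', ← h3]
      rw [mul_mul_mul_comm, mul_inv_cancel, one_mul]
    have hU1 : U = 1 := by
      rcases Int.natAbs_eq_iff.1 hc.det with hd | hd <;> rw [hd] at hU <;> simpa using hU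
    have hV1 : V = 1 := by
      rcases Int.natAbs_eq_iff.1 hc.det with hd | hd <;> rw [hd] at hV <;> simpa using hV
    exact ⟨by simpa [U] using congrArg Units.val hU1, by simpa [V] using congrArg Units.val hV1⟩
  have hnS : n ∈ gen hD F {s | s ∈ S} := by
    rw [hn', he, hg, hg, ← ng_inv, ← ng_inv, mul_inv_cancel, mul_inv_cancel, mul_one, mul_one]
    exact mul_mem hk₀ hm
  obtain ⟨c₂, hc₂, hp⟩ := hSU u hu
  have hc₂' : n * c₂ * n⁻¹ ∈ D.posUnipotent F := by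
    have : gen hD F C ≤ (D.posUnipotent F).comap (MulAut.conj n).toMonoidHom := gen_le hD fun q hq t => by
      obtain ⟨hql, -, hμ⟩ := hC q hq
      rw [Subgroup.mem_comap]
      have hpos : R.pos (R.ww l ⟨q, hql⟩) := by
        by_contra hneg
        have h1 := mu_ww hD hc hR l hla hlb ⟨q, hql⟩
        simp only [← hRdef] at h1
        have h2 := hc.mu_neg _ (R.ww l ⟨q, hql⟩).isLt hneg
        omega
      have h3 : n * xg hD F q t * n⁻¹ ∈ R.U (R.ww l ⟨q, hql⟩) :=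
        R.conj_U_mem (R.map_conj_H_nw hh l ⟨q, hql⟩) (xg_mem_rootSubgroup hD q t)
      have h4 := R.U_le_Upos hpos h3
      rw [hRdef, chev_Upos] at h4
      exact h4
    exact this hc₂
  have hcp := hcomm _ hp
  have hu' : u₁ * (n * c₂ * n⁻¹) ∈ gen hD F {s | s ∈ S} := by
    refine hker _ (mul_mem hu₁ hc₂') ?_
    rw [show u₁ * (n * c₂ * n⁻¹) = u₁ * h * R.nw l * u * (c₂⁻¹ * u)⁻¹ * n⁻¹ by rw [hn]; group]
    exact (hgC.mul_left hcp.inv_left).mul_left (hcomm n hnS).inv_left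
  rw [show u₁ * h * R.nw l * u = u₁ * (n * c₂ * n⁻¹) * n * (c₂⁻¹ * u) by rw [hn]; group]
  exact mul_mem (mul_mem hu' hnS) hp

end

end Cfsg.Agent.ChevCentralizer
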