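import Cfsg.Agent.Lib.ChevCentralizer.Monomial
import Cfsg.Agent.Lib.ChevCentralizer.Pair

/-!
# Involution classes in characteristic two from certificates

* `Op`, `run`: rewriting of products of root elements `x_q(1)`; `run_sound`.
* `Case`, `CaseOK`: certificate for one set of fixed fundamental roots.
* `exists_conj_rep`: every involution is conjugate to one of the representatives.
-/

set_option autoImplicit false

namespace Cfsg.Agent.ChevInvolution

open Cfsg.Lie Cfsg.Lie.ChevalleyDatum Cfsg.Agent.Chev Cfsg.Agent.ChevSt Cfsg.Agent.ChevBN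
open Cfsg.Agent.ChevCentralizer (xg_comm xg_pass)

/-- A step: conjugation by `n_i` or `x_s(1)`, exchange or cancellation of neighbours. -/
inductive Op
  | n (i : ℕ)
  | x (s : ℕ)
  | swap (p : ℕ)
  | cancel (p : ℕ)
  deriving DecidableEq

/-- The roots of the correcting word with odd coefficient. -/
def oddT (D : ChevalleyDatum) (a b : ℕ) : List ℕ :=
  ((D.commTerms a b).filter fun τ => decide (τ.2.1 % 2 ≠ 0)).map (·.1)

/-- One rewriting step. -/
def stepOp (D : ChevalleyDatum) : Op → List ℕ → Option (List ℕ)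
  | Op.n i, L => if i < D.rank ∧ ∀ q ∈ L, q < D.nroots then some (L.map (wN D i)) else none
  | Op.x s, L => some (s :: L ++ [s])
  | Op.swap p, L =>
    match L.drop p with
    | b :: a :: rest =>
      if a < D.nroots ∧ b < D.nroots ∧ b ≠ a ∧ b ≠ D.neg a then
        some (L.take p ++ a :: b :: (oddT D a b ++ rest))
      else none
    | _ => none
  | Op.cancel p, L =>
    match L.drop p with
    | b :: a :: rest => if a = b then some (L.take p ++ rest) else none
    | _ => none

/-- Apply the steps in order. -/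
def run (D : ChevalleyDatum) : List Op → List ℕ → Option (List ℕ)
  | [], L => some L
  | o :: os, L =>
    match stepOp D o L with
    | some L' => run D os L'
    | none => none

/-- The action of a word on root indices. -/
def wW (D : ChevalleyDatum) (l : List ℕ) (q : ℕ) : ℕ := l.foldr (wN D) q

/-- The product of the reflections in the roots of `S`. -/
def sigma (D : ChevalleyDatum) (S : List ℕ) (q : ℕ) : ℕ := S.foldr (fun b q => Chev.refl D (D.neg b) q) q

/-- A case: the fixed fundamental roots, a word in them, and either nothing (impossible case) or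
orthogonal roots with steps. -/
structure Case where
  K : List ℕ
  lK : List ℕ
  cert : Option (List ℕ × List Op)

/-- The validity of a case. -/
def CaseOK (D : ChevalleyDatum) (M : List (List ℤ)) (tau : List ℕ) (reps : List (List ℕ)) (c : Case) : Prop :=
  (∀ i ∈ c.lK, i ∈ c.K) ∧ (∀ k ∈ c.K, k < D.rank) ∧
  (∀ k ∈ c.K, ∃ k' ∈ c.K, wW D c.lK (D.simple k) = D.neg (D.simple k')) ∧
  match c.cert with
  | none => ∃ k ∈ c.K, ∃ k' ∈ c.K, wW D c.lK (D.simple k) = D.neg (D.simple k') ∧ tau.getD k' 0 ≠ k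
  | some (S, ops) =>
    (∀ b ∈ S, b < D.nroots) ∧ S.Nodup ∧
    (∀ b ∈ S, ∀ b' ∈ S, b' ≠ b → ∀ p ∈ [b, D.neg b], ∀ p' ∈ [b', D.neg b'],
      p' = p ∨ (p' ≠ D.neg p ∧ ∀ τ ∈ D.commTerms p p', τ.2.1 % 2 = 0)) ∧
    (∀ i < D.rank, ∀ a < D.rank,
      co D M a (sigma D S (D.simple i)) = - co D M (tau.getD a 0) (wW D c.lK (D.simple i))) ∧
    (S = [] ∨ ∃ R ∈ reps, run D ops S = some R)

instance (D : ChevalleyDatum) (M : List (List ℤ)) (tau : List ℕ) (reps : List (List ℕ)) (c : Case) :
    Decidable (CaseOK D M tau reps c) := by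
  unfold CaseOK
  rcases c.cert with _ | ⟨S, ops⟩ <;> infer_instance

/-- The longest word and its action on fundamental roots. -/
structure W0OK (D : ChevalleyDatum) (l0 tau : List ℕ) : Prop where
  lt : ∀ i ∈ l0, i < D.rank
  tau_lt : ∀ i < D.rank, tau.getD i 0 < D.rank ∧ tau.getD (tau.getD i 0) 0 = i
  act : ∀ i < D.rank, wW D l0 (D.simple i) = D.neg (D.simple (tau.getD i 0))

variable {D : ChevalleyDatum} (hD : Good D) (F : Type*) [Field F]

/-- The product of the root elements `x_q(1)`. -/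
def prodL (L : List ℕ) : GL D.Idx F := (L.map fun q => xg hD F q 1).prod

variable {F}
include hD

theorem prodL_cons (a : ℕ) (L : List ℕ) : prodL hD F (a :: L) = xg hD F a 1 * prodL hD F L := by
  simp [prodL]

theorem prodL_append (L L' : List ℕ) : prodL hD F (L ++ L') = prodL hD F L * prodL hD F L' := by
  simp [prodL]

theorem prodL_mem_group (L : List ℕ) : prodL hD F L ∈ D.group F := by
  induction L with
  | nil => simp [prodL]
  | cons a L ih => rw [prodL_cons hD]; exact mul_mem (xg_mem_group hD _ _) ih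

variable [CharP F 2]

theorem xg_sq (q : ℕ) : xg hD F q 1 * xg hD F q 1 = 1 := by
  by_cases hq : q < D.nroots
  · rw [xg_add hD hq, CharTwo.add_self_eq_zero, xg_zero]
  · rw [xg_out hD hq, mul_one]

theorem swap_eq {a b : ℕ} (ha : a < D.nroots) (hb : b < D.nroots) (h₁ : b ≠ a) (h₂ : b ≠ D.neg a) :
    xg hD F b 1 * xg hD F a 1 = xg hD F a 1 * xg hD F b 1 * prodL hD F (oddT D a b) := by
  rw [xg_pass hD ha hb h₁ h₂]
  congr 1
  simp only [ChevalleyDatum.commWord, oddT, prodL, List.map_map]
  generalize D.commTerms a b = T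
  induction T with
  | nil => simp
  | cons τ T ih =>
    rw [List.map_cons, List.prod_cons, ih]
    by_cases h : τ.2.1 % 2 = 0
    · have h0 : ((τ.2.1 : ℤ) : F) = 0 := (CharP.intCast_eq_zero_iff F 2 _).2 (Int.dvd_of_emod_eq_zero h)
      simp [h, h0, xg_zero]
    · have h1 : τ.2.1 % 2 = 1 := by omega
      simp [List.filter_cons, h1, ChevCentralizer.intCast_eq_one h, CharTwo.neg_eq]

variable {M : List (List ℤ)} {d : ℤ} (hR : Roots D M d)
include hR

theorem stepOp_sound {o : Op} {L L' : List ℕ} (h : stepOp D o L = some L') :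
    ∃ c ∈ D.group F, c * prodL hD F L * c⁻¹ = prodL hD F L' := by
  cases o with
  | n i =>
    simp only [stepOp] at h
    split_ifs at h with hi
    obtain ⟨hi, hlt⟩ := hi
    cases h
    set R := chevRGD hD hR F
    refine ⟨R.n ⟨i, hi⟩, chev_G hD hR (F := F) ▸ R.n_mem_G _, ?_⟩
    induction L with
    | nil => simp [prodL]
    | cons a L ih =>
      rw [List.map_cons, prodL_cons hD, prodL_cons hD, ← ih fun q hq => hlt q (List.mem_cons_of_mem _ hq)]
      have h1 := nw_conj_xg hD hR [⟨i, hi⟩] ⟨a, hlt a (by simp)⟩ (1 : F)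
      simp only [RGD.RootData.nw_cons, RGD.RootData.nw_nil, mul_one] at h1
      rw [show xg hD F (wN D i a) 1 = R.n ⟨i, hi⟩ * xg hD F a 1 * (R.n ⟨i, hi⟩)⁻¹ from h1.symm]
      group
  | x s =>
    cases h
    refine ⟨xg hD F s 1, xg_mem_group hD s 1, ?_⟩
    rw [inv_eq_of_mul_eq_one_right (xg_sq hD s), prodL_append hD, prodL_cons hD]
    simp [prodL]
  | swap p =>
    simp only [stepOp] at h
    revert h
    generalize hL : L.drop p = T
    match T with
    | [] => simp
    | [_] => simp
    | b :: a :: rest =>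
      intro h
      simp only at h
      split_ifs at h with hc
      cases h
      refine ⟨1, one_mem _, ?_⟩
      conv_lhs => rw [← List.take_append_drop p L, hL]
      simp only [prodL_append hD, prodL_cons hD, one_mul, inv_one, mul_one]
      congr 1
      rw [← mul_assoc, swap_eq hD hc.1 hc.2.1 hc.2.2.1 hc.2.2.2]
      simp [mul_assoc]
  | cancel p =>
    simp only [stepOp] at h
    revert h
    generalize hL : L.drop p = T
    match T with
    | [] => simp
    | [_] => simp
    | b :: a :: rest =>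
      intro h
      simp only at h
      split_ifs at h with hab
      subst hab
      cases h
      refine ⟨1, one_mem _, ?_⟩
      conv_lhs => rw [← List.take_append_drop p L, hL]
      simp only [prodL_append hD, prodL_cons hD, one_mul, inv_one, mul_one]
      rw [← mul_assoc (xg hD F a 1), xg_sq hD, one_mul]

theorem run_sound : ∀ (ops : List Op) {L L' : List ℕ}, run D ops L = some L' →
    ∃ c ∈ D.group F, c * prodL hD F L * c⁻¹ = prodL hD F L'
  | [], L, L', h => ⟨1, one_mem _, by simp only [run, Option.some.injEq] at h; subst h; group⟩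
  | o :: os, L, L', h => by
    simp only [run] at h
    cases hs : stepOp D o L with
    | none => rw [hs] at h; simp at h
    | some L₁ =>
      rw [hs] at h
      obtain ⟨c, hc, e⟩ := stepOp_sound hD hR hs (F := F)
      obtain ⟨c', hc', e'⟩ := run_sound os h
      refine ⟨c' * c, mul_mem hc' hc, ?_⟩
      rw [← e', ← e]
      group

omit hR in
/-- In characteristic two over a finite field the torus has odd exponent. -/
theorem diag_pow [Fintype F] {h : GL D.Idx F} (hh : h ∈ D.diagonalSubgroup F) :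
    h ^ (Fintype.card F - 1) = 1 := by
  induction hh using Subgroup.closure_induction with
  | mem x hx =>
    obtain ⟨r, t, hr, ht, e⟩ := hx
    apply Units.ext
    rw [Units.val_pow_eq_pow_val, e, hMat_eq_diag hD hr ht, dg, Matrix.diagonal_pow, Units.val_one,
      ← Matrix.diagonal_one]
    congr 1
    ext a
    rcases a with i | s
    · simp
    · show ((Units.mk0 t ht ^ D.pairing r s.val : Fˣ) : F) ^ (Fintype.card F - 1) = 1
      exact FiniteField.pow_card_sub_one_eq_one _ (Units.ne_zero _)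
  | one => simp
  | mul x y hx hy ihx ihy =>
    rw [Commute.mul_pow (diag_commute hD hx hy), ihx, ihy, one_mul]
  | inv x _ ihx => rw [inv_pow, ihx, inv_one]

omit hR in
/-- Two involutions in the same coset of the torus are conjugate. -/
theorem conj_of_coset [Fintype F] {m s : GL D.Idx F} (hm : m * m = 1) (hs : s * s = 1)
    (hms : m * s ∈ D.diagonalSubgroup F) :
    ∃ e ∈ D.diagonalSubgroup F, e * s * e⁻¹ = m := by
  obtain ⟨k, hk⟩ : 2 ∣ Fintype.card F := by
    obtain ⟨n, -, hn⟩ := FiniteField.card F 2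
    rw [hn]
    exact dvd_pow_self 2 n.ne_zero
  have hpos := Fintype.card_pos (α := F)
  set h₀ := m * s with hh₀
  set e := h₀ ^ k
  have hsq : e * e = h₀ := by
    rw [show e * e = h₀ ^ (Fintype.card F - 1 + 1) by rw [← pow_add]; congr 1; omega, pow_succ,
      diag_pow hD hms, one_mul]
  have hinv : s * h₀ * s⁻¹ = h₀⁻¹ := by
    have hs' : s⁻¹ = s := inv_eq_of_mul_eq_one_right hs
    have hm' : m⁻¹ = m := inv_eq_of_mul_eq_one_right hm
    rw [hh₀, _root_.mul_inv_rev, hs', hm', show s * (m * s) * s = s * m * (s * s) by group, hs, mul_one]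
  have hse : s * e * s⁻¹ = e⁻¹ :=
    calc s * h₀ ^ k * s⁻¹ = (s * h₀ * s⁻¹) ^ k := conj_pow.symm
      _ = e⁻¹ := by rw [hinv, inv_pow]
  refine ⟨e, pow_mem hms k, ?_⟩
  calc e * s * e⁻¹ = e * (s * e⁻¹ * s⁻¹) * s := by group
    _ = e * (s * e * s⁻¹)⁻¹ * s := by group
    _ = h₀ * s := by rw [hse, inv_inv, hsq]
    _ = m := by rw [hh₀, mul_assoc, hs, mul_one]

theorem wW_eq (l : List (Fin D.rank)) (q : Fin D.nroots) :
    wW D (l.map Fin.val) q.val = ((chevRGD hD hR F).ww l q).val := by
  induction l with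
  | nil => rfl
  | cons i l ih =>
    rw [List.map_cons, RGD.RootData.ww_cons]
    show wN D i.val (wW D (l.map Fin.val) q.val) = _
    rw [ih]
    rfl

omit [CharP F 2] in
theorem mem_H_of_fix {l : List (Fin D.rank)}
    (h : ∀ i, (chevRGD hD hR F).pos ((chevRGD hD hR F).ww l ((chevRGD hD hR F).simple i))) :
    (chevRGD hD hR F).nw l ∈ D.diagonalSubgroup F := by
  set R := chevRGD hD hR F with hRdef
  refine R.mem_H_of_pos fun q hq => ?_
  obtain ⟨g, hg', e⟩ := lin_comp hD hR F l (isLin_ht hD M)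
  simp only [← hRdef] at e
  by_contra hneg
  have h1 := lin_neg hD hR (hg'.smul (-1)) (fun i hi => by
    have h2 := hR.ht_pos _ (R.ww l (R.simple ⟨i, hi⟩)).isLt (h ⟨i, hi⟩)
    have h3 := e (R.simple ⟨i, hi⟩)
    change g (D.simple i) = _ at h3
    omega) q.isLt hq
  have h4 := hR.ht_pos _ (hD.neg_lt _ (R.ww l q).isLt) ((pos_or_neg hD (R.ww l q).isLt).2 hneg)
  rw [(isLin_ht hD M).neg _ (R.ww l q).isLt] at h4
  have h5 := e q
  omega

variable [Fintype F]

/-- Reduction of a monomial involution by a valid case. -/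
theorem conj_rep_of_case {l0 tau : List ℕ} (h0 : W0OK D l0 tau) {reps : List (List ℕ)} {c : Case}
    (hc : CaseOK D M tau reps c) {h : GL D.Idx F} (hh : h ∈ D.diagonalSubgroup F) {l : List (Fin D.rank)}
    (hm : h * (chevRGD hD hR F).nw l * (h * (chevRGD hD hR F).nw l) = 1)
    (hl : ∀ i, ¬ (chevRGD hD hR F).pos ((chevRGD hD hR F).ww l ((chevRGD hD hR F).simple i)) ∨
      (chevRGD hD hR F).ww l ((chevRGD hD hR F).simple i) = (chevRGD hD hR F).simple i)
    (hK : ∀ i : Fin D.rank, i.val ∈ c.K ↔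
      (chevRGD hD hR F).ww l ((chevRGD hD hR F).simple i) = (chevRGD hD hR F).simple i) :
    h * (chevRGD hD hR F).nw l = 1 ∨
      ∃ R ∈ reps, ∃ x ∈ D.group F, x * (h * (chevRGD hD hR F).nw l) * x⁻¹ = prodL hD F R := by
  set R := chevRGD hD hR F with hRdef
  obtain ⟨hlK, hKlt, hlong, hcert⟩ := hc
  have hsq : ∀ q, R.ww l (R.ww l q) = q :=
    ww_sq hD hR hh (hm.symm ▸ one_mem _)
  obtain ⟨lK, elK⟩ : ∃ lK : List (Fin D.rank), lK.map Fin.val = c.lK :=
    ⟨c.lK.pmap Fin.mk (fun i hi => hKlt i (hlK i hi)), by simp [List.map_pmap]⟩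
  obtain ⟨w0, ew0⟩ : ∃ w0 : List (Fin D.rank), w0.map Fin.val = l0 :=
    ⟨l0.pmap Fin.mk h0.lt, by simp [List.map_pmap]⟩
  -- coordinates after the longest element
  have hco0 : ∀ q : Fin D.nroots, ∀ a < D.rank,
      co D M a (R.ww w0 q).val = - co D M (tau.getD a 0) q.val := by
    intro q a ha
    obtain ⟨g, hg', e⟩ := lin_comp hD hR F w0 (isLin_co hD M a)
    simp only [← hRdef] at e
    rw [← e]
    refine lin_ext hD hR hg' (g := fun q => - co D M (tau.getD a 0) q)
      (by simpa using (isLin_co hD M (tau.getD a 0)).smul (-1)) ?_ q.isLt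
    intro i hi
    have e1 := e ⟨D.simple i, hD.simple_lt i hi⟩
    rw [← wW_eq hD hR, ew0] at e1
    change g (D.simple i) = co D M a (wW D l0 (D.simple i)) at e1
    rw [e1, h0.act i hi, hR.co_neg hD (hD.simple_lt _ (h0.tau_lt i hi).1),
      hR.dual a ha _ (h0.tau_lt i hi).1, hR.dual _ (h0.tau_lt a ha).1 i hi]
    by_cases hai : a = tau.getD i 0
    · rw [if_pos hai, if_pos (by rw [hai, (h0.tau_lt i hi).2])]
    · rw [if_neg hai, if_neg (fun e2 => hai (by rw [← e2, (h0.tau_lt a ha).2]))]
  -- words in `K` keep the coordinates outside `K`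
  have hcoK : ∀ (q : Fin D.nroots) (j : ℕ), j < D.rank → j ∉ c.K →
      co D M j (R.ww lK q).val = co D M j q.val := by
    intro q j hj hjK
    have : ∀ lK : List (Fin D.rank), (∀ i ∈ lK, i.val ∈ c.K) → co D M j (R.ww lK q).val = co D M j q.val := by
      intro lK hsub
      induction lK with
      | nil => rfl
      | cons i lK ih =>
        rw [R.ww_cons]
        show co D M j (wN D i.val (R.ww lK q).val) = _
        rw [hR.co_refl hD i.isLt (R.ww lK q).isLt hj, if_neg, sub_zero,
          ih fun i hi => hsub i (List.mem_cons_of_mem _ hi)]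
        rintro rfl
        exact hjK (hsub i (by simp))
    exact this lK fun i hi => hlK _ (by rw [← elK]; exact List.mem_map.2 ⟨i, hi, rfl⟩)
  set l' := w0 ++ lK with hl'
  -- the images of the fundamental roots under `l'`
  have hK' : ∀ k : Fin D.rank, k.val ∈ c.K → ∃ k' : Fin D.rank, k'.val ∈ c.K ∧
      (R.ww lK (R.simple k)) = R.neg (R.simple k') ∧
      R.ww l' (R.simple k) = R.simple ⟨tau.getD k'.val 0, (h0.tau_lt _ k'.isLt).1⟩ := by
    intro k hk
    obtain ⟨k', hk', e⟩ := hlong k.val hk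
    have e1 : R.ww lK (R.simple k) = R.neg (R.simple ⟨k', hKlt k' hk'⟩) := by
      refine Fin.ext ?_
      rw [← wW_eq hD hR, elK]
      exact e
    refine ⟨⟨k', hKlt k' hk'⟩, hk', e1, ?_⟩
    rw [hl', R.ww_append, e1, R.ww_neg]
    have e2 : R.ww w0 (R.simple ⟨k', hKlt k' hk'⟩) =
        R.neg (R.simple ⟨tau.getD k' 0, (h0.tau_lt _ (hKlt k' hk')).1⟩) := by
      refine Fin.ext ?_
      rw [← wW_eq hD hR, ew0]
      exact h0.act k' (hKlt k' hk')
    rw [e2, R.neg_neg]
  -- a root outside the span of `K` changes sign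
  have houtside : ∀ (p : Fin D.nroots) (j : ℕ), j < D.rank → j ∉ c.K → 0 < co D M j p.val →
      ¬ R.pos (R.ww l' p) := by
    intro p j hj hjK hp hpos
    have h1 := (hR.sgn _ (R.ww l' p).isLt).1 hpos (tau.getD j 0) (h0.tau_lt j hj).1
    rw [hl', R.ww_append, hco0 _ _ (h0.tau_lt j hj).1, (h0.tau_lt j hj).2, hcoK p j hj hjK] at h1
    omega
  -- `l'` inverts the action of `l` up to the torus
  have hpos : ∀ i, R.pos (R.ww (l' ++ l) (R.simple i)) := by
    intro i
    rw [R.ww_append]
    by_cases hi : R.ww l (R.simple i) = R.simple i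
    · rw [hi]
      obtain ⟨k', -, -, e⟩ := hK' i ((hK i).2 hi)
      rw [e]
      exact R.pos_simple _
    · have hn : R.pos (R.neg (R.ww l (R.simple i))) := (R.pos_neg _).2 ((hl i).resolve_right hi)
      set p := R.neg (R.ww l (R.simple i)) with hp
      by_cases hsupp : ∀ j < D.rank, j ∉ c.K → co D M j p.val ≤ 0
      · exfalso
        apply (R.pos_neg _).1 (?_ : R.pos (R.neg (R.simple i))) (R.pos_simple i)
        have hfix : R.ww l p = p := by
          refine Fin.ext (hR.root_ext (R.ww l p).isLt p.isLt fun a ha => ?_)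
          obtain ⟨g, hg', e⟩ := lin_comp hD hR F l (isLin_co hD M a)
          simp only [← hRdef] at e
          have h1 := lin_expand hD hR hg' p.isLt
          have h2 := lin_expand hD hR (isLin_co hD M a) p.isLt
          have h3 : ((List.range D.rank).map fun i => g (D.simple i) * co D M i p.val) =
              (List.range D.rank).map fun i => co D M a (D.simple i) * co D M i p.val := by
            refine List.map_congr_left fun b hb => ?_
            have hb' := List.mem_range.1 hb
            by_cases hbK : b ∈ c.K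
            · have h4 := e (R.simple ⟨b, hb'⟩)
              rw [(hK ⟨b, hb'⟩).1 hbK] at h4
              change g (D.simple b) = co D M a (D.simple b) at h4
              rw [h4]
            · rw [le_antisymm (hsupp b hb' hbK) ((hR.sgn _ p.isLt).1 hn b hb'), mul_zero, mul_zero]
          rw [h3, ← h2] at h1
          rw [← e p]
          exact mul_left_cancel₀ hR.d_pos.ne' h1
        rw [hp, R.ww_neg, hsq] at hfix
        rw [hfix]
        exact hn
      · push Not at hsupp
        obtain ⟨j, hj, hjK, hjp⟩ := hsupp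
        have h1 := houtside p j hj hjK hjp
        rw [← R.neg_neg (R.ww l (R.simple i)), ← hp, R.ww_neg]
        exact (R.pos_neg _).2 h1
  have hcos := mem_H_of_fix hD hR hpos
  rw [R.nw_append] at hcos
  have hww : ∀ q, R.ww l' q = R.ww l q := by
    intro q
    have h1 := R.map_conj_U (l' ++ l) (R.ww l q)
    rw [R.nw_append, R.map_conj_H_U hcos, R.ww_append, hsq] at h1
    exact (U_inj hD hR h1).symm
  rcases hcase : c.cert with _ | ⟨S, ops⟩ <;> rw [hcase] at hcert
  · obtain ⟨k, hk, k', hk', e, hne⟩ := hcert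
    obtain ⟨k'', -, e1, e2⟩ := hK' ⟨k, hKlt k hk⟩ hk
    exfalso
    apply hne
    have e3 : R.simple k'' = R.simple ⟨k', hKlt k' hk'⟩ := by
      have e4 : R.neg (R.simple k'') = R.neg (R.simple ⟨k', hKlt k' hk'⟩) := by
        rw [← e1]
        refine Fin.ext ?_
        rw [← wW_eq hD hR, elK]
        exact e
      rw [← R.neg_neg (R.simple k''), e4, R.neg_neg]
    have e5 := hww (R.simple ⟨k, hKlt k hk⟩)
    rw [e2, (hK ⟨k, hKlt k hk⟩).1 hk] at e5
    have e6 := congrArg Fin.val (R.simple_inj e5)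
    simp only [R.simple_inj e3] at e6
    exact e6
  obtain ⟨hSlt, hnd, hcomm, hsig, hfin⟩ := hcert
  set m := h * R.nw l with hm0
  -- the product of the reflections
  set y : ℕ → GL D.Idx F := fun b => ng hD F (D.neg b) 1 with hy
  set s₀ := (S.map y).prod with hs₀
  have hyeq : ∀ b ∈ S, y b = xg hD F (D.neg b) 1 * xg hD F b 1 * xg hD F (D.neg b) 1 := fun b hb => by
    simp [hy, ng, hD.neg_neg b (hSlt b hb), CharTwo.neg_eq]
  have hpc : ∀ b ∈ S, ∀ b' ∈ S, b' ≠ b → ∀ p ∈ [b, D.neg b], ∀ p' ∈ [b', D.neg b'],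
      Commute (xg hD F p' 1) (xg hD F p 1) := by
    intro b hb b' hb' hne p hp p' hp'
    refine xg_comm hD (hcomm b hb b' hb' hne p hp p' hp') ?_ ?_ 1 1
    · rcases List.mem_pair.1 hp with rfl | rfl
      exacts [hSlt _ hb, hD.neg_lt _ (hSlt _ hb)]
    · rcases List.mem_pair.1 hp' with rfl | rfl
      exacts [hSlt _ hb', hD.neg_lt _ (hSlt _ hb')]
  obtain ⟨cj, hcjG, hcje⟩ : ∃ cj ∈ D.group F, cj * s₀ * cj⁻¹ = prodL hD F S := by
    refine ⟨(S.map fun b => xg hD F (D.neg b) 1).prod, list_prod_mem fun x hx => by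
      obtain ⟨b, -, rfl⟩ := List.mem_map.1 hx; exact xg_mem_group hD _ _, ?_⟩
    rw [hs₀]
    clear hfin hsig hcase
    clear_value m
    clear hs₀
    induction S with
    | nil => simp [prodL]
    | cons b S ih =>
      rw [List.nodup_cons] at hnd
      have hne : ∀ b' ∈ S, b' ≠ b := fun b' hb' e => hnd.1 (e ▸ hb')
      have hIH := ih (fun b' hb' => hSlt b' (List.mem_cons_of_mem _ hb')) hnd.2
        (fun b₁ h₁ b₂ h₂ => hcomm b₁ (List.mem_cons_of_mem _ h₁) b₂ (List.mem_cons_of_mem _ h₂))
        (fun b' hb' => hyeq b' (List.mem_cons_of_mem _ hb'))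
        (fun b₁ h₁ b₂ h₂ => hpc b₁ (List.mem_cons_of_mem _ h₁) b₂ (List.mem_cons_of_mem _ h₂))
      rw [List.map_cons, List.map_cons, List.prod_cons, List.prod_cons, prodL_cons hD, ← hIH]
      set a := xg hD F (D.neg b) 1
      set x := xg hD F b 1
      set P := (S.map fun b => xg hD F (D.neg b) 1).prod
      set Q := (S.map y).prod
      have hy' : y b = a * x * a := hyeq b (by simp)
      have hc1 : ∀ p' ∈ [b, D.neg b], Commute (xg hD F p' 1) P ∧ Commute (xg hD F p' 1) Q := by
        intro p' hp'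
        refine ⟨Commute.list_prod_right _ _ fun z hz => ?_, Commute.list_prod_right _ _ fun z hz => ?_⟩
        · obtain ⟨b', hb', rfl⟩ := List.mem_map.1 hz
          exact (hpc b (by simp) b' (List.mem_cons_of_mem _ hb') (hne b' hb') p' hp' _ (by simp)).symm
        · obtain ⟨b', hb', rfl⟩ := List.mem_map.1 hz
          have h1 := fun q (hq : q ∈ [b', D.neg b']) =>
            (hpc b (by simp) b' (List.mem_cons_of_mem _ hb') (hne b' hb') p' hp' q hq).symm
          rw [hyeq b' (List.mem_cons_of_mem _ hb')]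
          exact ((h1 _ (by simp)).mul_right (h1 _ (by simp))).mul_right (h1 _ (by simp))
      have caP : Commute a P := (hc1 _ (by simp)).1
      have cxP : Commute x P := (hc1 _ (by simp)).1
      have caQ : Commute a Q := (hc1 _ (by simp)).2
      have haa : a * a = 1 := xg_sq hD _
      have ha' : a⁻¹ = a := inv_eq_of_mul_eq_one_right haa
      rw [hy']
      calc a * P * (a * x * a * Q) * (a * P)⁻¹ = a * (P * (a * x * a)) * Q * P⁻¹ * a⁻¹ := by group
        _ = a * ((a * x * a) * P) * Q * P⁻¹ * a⁻¹ := by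
          rw [((caP.mul_left cxP).mul_left caP).eq]
        _ = a * a * x * (a * (P * Q * P⁻¹) * a⁻¹) := by group
        _ = x * (P * Q * P⁻¹) := by
          rw [((caP.mul_right caQ).mul_right caP.inv_right).eq, haa, one_mul, mul_inv_cancel_right]
  have hs2 : s₀ * s₀ = 1 := by
    have h1 : prodL hD F S * prodL hD F S = 1 := by
      clear hcje hs₀ hsig hfin hcase
      induction S with
      | nil => simp [prodL]
      | cons b S ih =>
        rw [List.nodup_cons] at hnd
        have hne : ∀ b' ∈ S, b' ≠ b := fun b' hb' e => hnd.1 (e ▸ hb')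
        have hIH := ih (fun b' hb' => hSlt b' (List.mem_cons_of_mem _ hb')) hnd.2
          (fun b₁ h₁ b₂ h₂ => hcomm b₁ (List.mem_cons_of_mem _ h₁) b₂ (List.mem_cons_of_mem _ h₂))
          (fun b' hb' => hyeq b' (List.mem_cons_of_mem _ hb'))
          (fun b₁ h₁ b₂ h₂ => hpc b₁ (List.mem_cons_of_mem _ h₁) b₂ (List.mem_cons_of_mem _ h₂))
        have cx : Commute (xg hD F b 1) (prodL hD F S) := by
          refine Commute.list_prod_right _ _ fun z hz => ?_
          obtain ⟨b', hb', rfl⟩ := List.mem_map.1 hz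
          exact (hpc b (by simp) b' (List.mem_cons_of_mem _ hb') (hne b' hb') b (by simp) b' (by simp)).symm
        rw [prodL_cons hD, mul_assoc, ← mul_assoc (prodL hD F S), ← cx.eq, mul_assoc, hIH, mul_one, xg_sq hD]
    calc s₀ * s₀ = cj⁻¹ * ((cj * s₀ * cj⁻¹) * (cj * s₀ * cj⁻¹)) * cj := by group
      _ = 1 := by rw [hcje, h1]; group
  -- `s₀` is monomial with the same action as `m`
  have hs₀N : s₀ ∈ R.N := by
    refine list_prod_mem fun x hx => ?_
    obtain ⟨b, hb, rfl⟩ := List.mem_map.1 hx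
    exact ng_mem_monomial hD hR (hD.neg_lt b (hSlt b hb))
  have hs₀act : ∀ (q : Fin D.nroots) (t : F), ∃ (hlt : sigma D S q.val < D.nroots),
      s₀ * xg hD F q.val t * s₀⁻¹ = xg hD F (⟨sigma D S q.val, hlt⟩ : Fin D.nroots).val t := by
    intro q t
    clear hfin hsig hnd hcomm hcje hs2 hs₀N hpc hyeq hcase
    rw [hs₀]
    clear hs₀
    induction S with
    | nil => exact ⟨q.isLt, by simp [sigma]⟩
    | cons b S ih =>
      obtain ⟨hlt, e⟩ := ih fun b' hb' => hSlt b' (List.mem_cons_of_mem _ hb')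
      have hb := hD.neg_lt b (hSlt b (by simp))
      refine ⟨refl_lt hD hb hlt, ?_⟩
      rw [List.map_cons, List.prod_cons, show y b * (S.map y).prod * xg hD F q.val t * (y b * (S.map y).prod)⁻¹ =
        y b * ((S.map y).prod * xg hD F q.val t * ((S.map y).prod)⁻¹) * (y b)⁻¹ by group, e, mul_inv_eq_iff_eq_mul]
      apply Units.ext
      simp only [hy, Units.val_mul, coe_ng, coe_xg, nMat_conj hD hb hlt one_ne_zero, one_zpow, mul_one]
      rcases (nSign_cases hD hb hlt).1 with e1 | e1 <;> simp only [sigma] at e1 <;>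
        simp [e1, CharTwo.neg_eq, sigma]
  obtain ⟨h₁, hh₁, l₁, el₁⟩ := R.mem_N_iff.1 hs₀N
  have hact : ∀ i, R.ww l₁ (R.simple i) = R.ww l (R.simple i) := by
    intro i
    obtain ⟨hlt, e⟩ := hs₀act (R.simple i) 1
    have h1 : R.ww l₁ (R.simple i) = ⟨sigma D S (D.simple i.val), hlt⟩ := by
      have h2 : s₀ * xg hD F (R.simple i).val 1 * s₀⁻¹ ∈ R.U (R.ww l₁ (R.simple i)) := by
        rw [el₁]
        exact R.conj_U_mem (R.map_conj_H_nw hh₁ l₁ _) (xg_mem_rootSubgroup hD _ _)
      rw [e] at h2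
      obtain ⟨t, ht⟩ := (mem_rootSubgroup hD _).1 h2
      exact Fin.ext (root_eq_of_xg hD hlt (R.ww l₁ (R.simple i)).isLt ht).symm
    rw [h1, ← hww]
    refine Fin.ext (hR.root_ext hlt (R.ww l' _).isLt fun a ha => ?_)
    rw [hl', R.ww_append, hco0 _ a ha, hsig i.val i.isLt a ha, ← wW_eq hD hR (F := F) lK, elK]
    rfl
  have hsq₁ : ∀ q, R.ww l₁ (R.ww l₁ q) = q :=
    ww_sq hD hR hh₁ (by rw [← el₁, hs2]; exact one_mem _)
  have hcos₁ : R.nw l * R.nw l₁ ∈ D.diagonalSubgroup F := by
    rw [← R.nw_append]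
    refine mem_H_of_fix hD hR fun i => ?_
    rw [R.ww_append, hact, hsq]
    exact R.pos_simple i
  have hms : m * s₀ ∈ D.diagonalSubgroup F := by
    rw [hm0, el₁, show h * R.nw l * (h₁ * R.nw l₁) =
      h * (R.nw l * h₁ * (R.nw l)⁻¹) * (R.nw l * R.nw l₁) by group]
    exact mul_mem (mul_mem hh (R.nw_conj_H l hh₁)) hcos₁
  obtain ⟨e, he, hee⟩ := conj_of_coset hD hm hs2 hms
  have heG : e ∈ D.group F := borel_le_group hD hR (Subgroup.mem_sup_right he)
  rcases hfin with rfl | ⟨Rp, hRp, hrun⟩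
  · left
    rw [← hee]
    have h1 : s₀ = 1 := by simp [hs₀]
    rw [h1, mul_one, mul_inv_cancel]
  · right
    obtain ⟨c₁, hc₁, e₁⟩ := run_sound hD hR ops hrun (F := F)
    refine ⟨Rp, hRp, c₁ * cj * e⁻¹, mul_mem (mul_mem hc₁ hcjG) (inv_mem heG), ?_⟩
    rw [← e₁, ← hcje, ← hee]
    group

/-- Every involution is conjugate to one of the representatives. -/
theorem exists_conj_rep {l0 tau : List ℕ} (h0 : W0OK D l0 tau) {reps : List (List ℕ)} {cases : List Case}
    (hcases : ∀ c ∈ cases, CaseOK D M tau reps c)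
    (hcover : ∀ K ∈ (List.range D.rank).sublists, K ∈ cases.map (·.K))
    {t : GL D.Idx F} (ht : t ∈ D.group F) (ht1 : t ≠ 1) (htt : t * t = 1) :
    ∃ R ∈ reps, ∃ x ∈ D.group F, x * t * x⁻¹ = prodL hD F R := by
  classical
  set R := chevRGD hD hR F with hRdef
  rw [← chev_G hD hR (F := F)] at ht
  obtain ⟨b, hb, l, u, hu, et⟩ := R.exists_normalForm ht
  have huU : u ∈ R.Upos := R.Uminus_le_Upos l hu
  obtain ⟨v, hv, h, hh, evh⟩ := R.exists_B (show u * b ∈ R.B from mul_mem (R.Upos_le_B huU) hb)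
  have huG : u ∈ D.group F := by
    rw [← chev_G hD hR (F := F)]; exact R.B_le_G (R.Upos_le_B huU)
  have et' : u * t * u⁻¹ = v * (h * R.nw l) := by
    rw [et, ← mul_assoc v h, ← evh]
    group
  obtain ⟨c, hc, h', hh', l', e, hm, hl⟩ := reduced_aux hD hR _ (u * t * u⁻¹) v h l
    (by rw [show u * t * u⁻¹ * (u * t * u⁻¹) = u * (t * t) * u⁻¹ by group, htt]; group) hv hh et' rfl
  set K := (List.range D.rank).filter fun i =>
    decide (∃ hi : i < D.rank, R.ww l' (R.simple ⟨i, hi⟩) = R.simple ⟨i, hi⟩) with hKdef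
  obtain ⟨cs, hcs, hcsK⟩ := List.mem_map.1 (hcover K (List.mem_sublists.2 List.filter_sublist))
  have hKiff : ∀ i : Fin D.rank, i.val ∈ cs.K ↔ R.ww l' (R.simple i) = R.simple i := by
    intro i
    rw [hcsK, hKdef, List.mem_filter]
    simp [i.isLt]
  rcases conj_rep_of_case hD hR h0 (hcases cs hcs) hh' hm hl hKiff with h1 | ⟨Rp, hRp, x, hx, ex⟩
  · exfalso
    apply ht1
    rw [h1] at e
    calc t = (c * u)⁻¹ * (c * (u * t * u⁻¹) * c⁻¹) * (c * u) := by group
      _ = 1 := by rw [e]; group
  · refine ⟨Rp, hRp, x * c * u, mul_mem (mul_mem hx hc) huG, ?_⟩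
    rw [← ex, ← e]
    group

end Cfsg.Agent.ChevInvolution
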