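import Cfsg.Agent.Lib.ChevCentralizer.Classify

/-!
# The case check on packed tables

The fundamental reflections and the coefficients are read from two numerals, verified once (`TabOK`).
-/

set_option autoImplicit false

namespace Cfsg.Agent.ChevInvolution

open Cfsg.Lie Cfsg.Lie.ChevalleyDatum Cfsg.Agent.Chev Cfsg.Agent.ChevBN

/-- Packed tables: eight bits for each pair (fundamental index, root); coefficients have offset 128. -/
structure Tab where
  n : ℕ
  w : ℕ
  c : ℕ

/-- The fundamental reflection. -/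
def Tab.wn (T : Tab) (i q : ℕ) : ℕ := (T.w >>> (8 * (T.n * i + q))) % 256

/-- The coefficient. -/
def Tab.co (T : Tab) (a q : ℕ) : ℤ := Int.subNatNat ((T.c >>> (8 * (T.n * a + q))) % 256) 128

/-- Correctness of the tables. -/
structure TabOK (D : ChevalleyDatum) (M : List (List ℤ)) (T : Tab) : Prop where
  wn : ∀ i < D.rank, ∀ q < D.nroots, wN D i q = T.wn i q
  lt : ∀ i < D.rank, ∀ q < D.nroots, T.wn i q < D.nroots
  simple_lt : ∀ i < D.rank, D.simple i < D.nroots
  co_eq : ∀ a < D.rank, ∀ q < D.nroots, Cfsg.Agent.ChevBN.co D M a q = T.co a q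

/-- One rewriting step on the tables. -/
def stepF (D : ChevalleyDatum) (T : Tab) : Op → List ℕ → Option (List ℕ)
  | Op.n i, L => if i < D.rank ∧ ∀ q ∈ L, q < D.nroots then some (L.map (T.wn i)) else none
  | o, L => stepOp D o L

/-- The steps in order. -/
def runF (D : ChevalleyDatum) (T : Tab) : List Op → List ℕ → Option (List ℕ)
  | [], L => some L
  | o :: os, L =>
    match stepF D T o L with
    | some L' => runF D T os L'
    | none => none

/-- A word on the tables. -/
def wWF (T : Tab) (l : List ℕ) (q : ℕ) : ℕ := l.foldr T.wn q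

/-- The validity of a case, on the tables. -/
def CaseOKF (D : ChevalleyDatum) (T : Tab) (tau : List ℕ) (reps : List (List ℕ)) (c : Case) : Prop :=
  (∀ i ∈ c.lK, i ∈ c.K) ∧ (∀ k ∈ c.K, k < D.rank) ∧
  (∀ k ∈ c.K, ∃ k' ∈ c.K, wWF T c.lK (D.simple k) = D.neg (D.simple k')) ∧
  match c.cert with
  | none => ∃ k ∈ c.K, ∃ k' ∈ c.K, wWF T c.lK (D.simple k) = D.neg (D.simple k') ∧ tau.getD k' 0 ≠ k
  | some (S, ops) =>
    (∀ b ∈ S, b < D.nroots) ∧ S.Nodup ∧
    (∀ b ∈ S, ∀ b' ∈ S, b' ≠ b → ∀ p ∈ [b, D.neg b], ∀ p' ∈ [b', D.neg b'],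
      p' = p ∨ (p' ≠ D.neg p ∧ ∀ τ ∈ D.commTerms p p', τ.2.1 % 2 = 0)) ∧
    (∀ i < D.rank, sigma D S (D.simple i) < D.nroots ∧ ∀ a < D.rank, tau.getD a 0 < D.rank ∧
      T.co a (sigma D S (D.simple i)) = - T.co (tau.getD a 0) (wWF T c.lK (D.simple i))) ∧
    (S = [] ∨ ∃ R ∈ reps, runF D T ops S = some R)

instance (D : ChevalleyDatum) (T : Tab) (tau : List ℕ) (reps : List (List ℕ)) (c : Case) :
    Decidable (CaseOKF D T tau reps c) := by
  unfold CaseOKF
  rcases c.cert with _ | ⟨S, ops⟩ <;> infer_instance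

variable {D : ChevalleyDatum} {M : List (List ℤ)} {T : Tab} (hT : TabOK D M T)
include hT

theorem stepF_eq (o : Op) (L : List ℕ) : stepF D T o L = stepOp D o L := by
  cases o with
  | n i =>
    simp only [stepF, stepOp]
    split_ifs with h
    · rw [List.map_congr_left fun q hq => hT.wn i h.1 q (h.2 q hq)]
    · rfl
  | x s => rfl
  | swap p => rfl
  | cancel p => rfl

theorem runF_eq : ∀ (ops : List Op) (L : List ℕ), runF D T ops L = run D ops L
  | [], L => rfl
  | o :: os, L => by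
    simp only [runF, run, stepF_eq hT]
    cases stepOp D o L with
    | none => rfl
    | some L' => exact runF_eq os L'

theorem wWF_eq : ∀ (l : List ℕ), (∀ i ∈ l, i < D.rank) → ∀ q < D.nroots,
    wW D l q = wWF T l q ∧ wWF T l q < D.nroots
  | [], _, q, hq => ⟨rfl, hq⟩
  | i :: l, hl, q, hq => by
    obtain ⟨e, hlt⟩ := wWF_eq l (fun x hx => hl x (List.mem_cons_of_mem _ hx)) q hq
    constructor
    · simp only [wW, wWF, List.foldr_cons] at e ⊢
      rw [e]
      exact hT.wn i (hl i (by simp)) _ hlt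
    · simp only [wWF, List.foldr_cons] at hlt ⊢
      exact hT.lt i (hl i (by simp)) _ hlt

/-- The table check implies the check. -/
theorem caseOK_of_F {tau : List ℕ} {reps : List (List ℕ)} {c : Case} (h : CaseOKF D T tau reps c) :
    CaseOK D M tau reps c := by
  obtain ⟨h1, h2, h3, h4⟩ := h
  have hl : ∀ i ∈ c.lK, i < D.rank := fun i hi => h2 i (h1 i hi)
  have hw : ∀ k < D.rank, wW D c.lK (D.simple k) = wWF T c.lK (D.simple k) ∧
      wWF T c.lK (D.simple k) < D.nroots := fun k hk => wWF_eq hT c.lK hl _ (hT.simple_lt k hk)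
  refine ⟨h1, h2, fun k hk => ?_, ?_⟩
  · rw [(hw k (h2 k hk)).1]
    exact h3 k hk
  · rcases hc : c.cert with _ | ⟨S, ops⟩
    · rw [hc] at h4
      obtain ⟨k, hk, k', hk', e, ne⟩ := h4
      exact ⟨k, hk, k', hk', by rw [(hw k (h2 k hk)).1]; exact e, ne⟩
    · rw [hc] at h4
      obtain ⟨a1, a2, a3, a4, a5⟩ := h4
      refine ⟨a1, a2, a3, fun i hi a ha => ?_, ?_⟩
      · obtain ⟨hs, b⟩ := a4 i hi
        obtain ⟨hta, e⟩ := b a ha
        rw [(hw i hi).1, hT.co_eq a ha _ hs, hT.co_eq _ hta _ (hw i hi).2]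
        exact e
      · rcases a5 with a5 | ⟨R, hR, e⟩
        · exact Or.inl a5
        · exact Or.inr ⟨R, hR, by rw [← runF_eq hT]; exact e⟩

end Cfsg.Agent.ChevInvolution
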