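import Cfsg.Agent.Lib.ChevCentralizer.Classify

/-!
# Non-conjugacy of products of commuting root elements

* `Supp D S T`: the conjugates of `∏_{a ∈ S} x_a(1)` under `U` are supported on `T`;
* `exists_map`: conjugate products give a Weyl word carrying `S` into the support of the other;
* `not_conj`: the commutation criterion `Separated`.
-/

set_option autoImplicit false

namespace Cfsg.Agent.ChevInvolution

open Cfsg.Lie Cfsg.Lie.ChevalleyDatum Cfsg.Agent.Chev Cfsg.Agent.ChevSt Cfsg.Agent.ChevBN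
open Cfsg.Agent.ChevCentralizer (xg_comm xg_pass gen gen_le xg_mem_gen word_mem posUnipotent_eq_gen OnZ Unip
  kap kap_mul onZ_inl onZ_inr monomial_mulVec ww_injective xg_mulVec_inl intCast_eq_one)
open scoped Matrix

/-- Support conditions. -/
structure Supp (D : ChevalleyDatum) (S T : List ℕ) : Prop where
  sub : ∀ a ∈ S, a ∈ T
  lt : ∀ q ∈ T, q < D.nroots
  nd : S.Nodup
  pos : ∀ a ∈ S, D.IsPosRoot a
  fix : ∀ z ∈ T, ∀ z' ∈ T, z' = z ∨ (z' ≠ D.neg z ∧ D.chainEntry z z' = [])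
  odd : ∀ z ∈ T, ∃ i < D.rank, D.cartan i z % 2 ≠ 0
  closed : ∀ s < D.nroots, D.IsPosRoot s → ∀ q ∈ T, s = q ∨ (s ≠ D.neg q ∧ q ≠ D.neg s ∧
    ∀ τ ∈ D.commTerms q s ++ D.commTerms s q, (τ.1 ∈ T ∧ τ.1 ∉ S) ∨ τ.2.1 % 2 = 0)

/-- A visible reason for `x_p(1)`, `x_q(±)` not to commute. -/
def Adj (D : ChevalleyDatum) (p q : ℕ) : Prop :=
  (p ≠ q ∧ q ≠ D.neg p ∧ (oddT D p q).length = 1 ∧ ∀ z ∈ oddT D p q, z < D.nroots) ∨
  (p ≠ D.neg q ∧ D.neg q ≠ D.neg p ∧ (oddT D p (D.neg q)).length = 1 ∧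
    ∀ z ∈ oddT D p (D.neg q), z < D.nroots)

instance (D : ChevalleyDatum) (p q : ℕ) : Decidable (Adj D p q) := by unfold Adj; infer_instance

/-- Both `x_{±q}` commute with `x_p`. -/
def Orth (D : ChevalleyDatum) (p q : ℕ) : Prop :=
  (q = p ∨ (q ≠ D.neg p ∧ ∀ τ ∈ D.commTerms p q, τ.2.1 % 2 = 0)) ∧
  (D.neg q = p ∨ (D.neg q ≠ D.neg p ∧ ∀ τ ∈ D.commTerms p (D.neg q), τ.2.1 % 2 = 0))

instance (D : ChevalleyDatum) (p q : ℕ) : Decidable (Orth D p q) := by unfold Orth; infer_instance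

/-- No Weyl word carries `S` into `T`. -/
def Separated (D : ChevalleyDatum) (S T : List ℕ) : Prop :=
  T.Nodup ∧ (∀ a ∈ S, ∀ a' ∈ S, a ≠ a' → Orth D a a') ∧
  ∀ L ∈ List.sublistsLen S.length T,
    (∃ p ∈ L, ∃ p' ∈ L, p ≠ p' ∧ Adj D p p') ∨
    ((∃ δ < D.nroots, ∀ p ∈ L, Adj D p δ) ∧ ∀ δ < D.nroots, ∃ a ∈ S, Orth D a δ)

variable {D : ChevalleyDatum} (hD : Good D) {F : Type*} [Field F] [CharP F 2]
include hD

theorem unip_supp {S T : List ℕ} (hs : Supp D S T) {g : GL D.Idx F}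
    (hg' : g ∈ gen hD F {z | z ∈ T}) : Unip D T g := by
  induction hg' using Subgroup.closure_induction with
  | mem y hy =>
    obtain ⟨z, hz, t, rfl⟩ := hy
    change Unip D T (xg hD F z t)
    have hzlt := hs.lt z hz
    refine ⟨fun x hx => ?_, fun x hx c hcb => ?_⟩
    · conv_lhs => rw [pi_eq_sum_univ' x]
      conv_rhs => rw [pi_eq_sum_univ' x]
      simp only [Matrix.mulVec_sum, Matrix.mulVec_smul]
      refine Finset.sum_congr rfl fun c _ => ?_
      rcases c with i | u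
      · simp [onZ_inl hx i]
      by_cases hu : u.val ∈ T
      swap
      · simp [onZ_inr hx hu]
      congr 1
      rw [show (Pi.single (Sum.inr u) (1 : F) : D.Idx → F) = ev D F u.val from (ev_of_lt D F u.isLt).symm,
        coe_xg, x_eq_xR D hzlt]
      rcases hs.fix z hz u.val hu with e | ⟨h1, h2⟩
      · rw [e, xR_self D z t hzlt]
      · by_cases h0 : u.val = z
        · rw [h0, xR_self D z t hzlt]
        rw [xR_gen D z t (hD.keys z hzlt) u.isLt h0 h1, h2]
        simp [sumCol]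
    · rw [xg_mulVec_inl hD hzlt t hx, add_sub_cancel_left]
      rcases c with i | u
      · simp [ev]
      · have : u.val ≠ z := fun e => hcb u (e ▸ hz) rfl
        simp [ev, this]
  | one => exact ⟨fun x _ => by simp, fun x _ c _ => by simp⟩
  | mul g g' _ _ hg₁ hg₂ =>
    refine ⟨fun x hx => by rw [Units.val_mul, ← Matrix.mulVec_mulVec, hg₂.1 x hx, hg₁.1 x hx],
      fun x hx c hcb => ?_⟩
    have h2 := hg₂.2 x hx
    have e := hg₁.1 _ h2
    rw [Matrix.mulVec_sub] at e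
    have e' := congrFun e c
    have h1 := hg₁.2 x hx c hcb
    have h3 := h2 c hcb
    simp only [Pi.sub_apply] at e' h1 h3
    simp only [Units.val_mul, ← Matrix.mulVec_mulVec, Pi.sub_apply]
    linear_combination e' + h1 + h3
  | inv g _ hg₁ =>
    have hinv : ∀ x, ((g⁻¹ : GL D.Idx F) : Matrix D.Idx D.Idx F) *ᵥ ((g : Matrix D.Idx D.Idx F) *ᵥ x) = x := by
      intro x
      rw [Matrix.mulVec_mulVec, ← Units.val_mul, inv_mul_cancel, Units.val_one, Matrix.one_mulVec]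
    have hfix : ∀ x, OnZ D T x → ((g⁻¹ : GL D.Idx F) : Matrix D.Idx D.Idx F) *ᵥ x = x := by
      intro x hx
      conv_lhs => rw [← hg₁.1 x hx]
      exact hinv x
    refine ⟨hfix, fun x hx c hcb => ?_⟩
    have h2 := hg₁.2 x hx
    have e := hfix _ h2
    rw [Matrix.mulVec_sub, hinv] at e
    have e' := congrFun e c
    have h3 := h2 c hcb
    simp only [Pi.sub_apply] at e' h3 ⊢
    linear_combination -e' - h3

theorem kap_prodL {S T : List ℕ} (hs : Supp D S T) {a : ℕ} (ha : a ∈ S) {i : Fin D.rank}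
    (hi : D.cartan i.val a % 2 ≠ 0) {w : GL D.Idx F} (hw : w ∈ gen hD F {z | z ∈ T ∧ z ∉ S}) :
    kap ⟨a, hs.lt a (hs.sub a ha)⟩ i (prodL hD F S * w) = 1 := by
  set za : Fin D.nroots := ⟨a, hs.lt a (hs.sub a ha)⟩ with hza
  have sub : ∀ {g : GL D.Idx F}, g ∈ gen hD F {z | z ∈ T ∧ z ∉ S} → Unip D T g := fun h =>
    unip_supp hD hs (gen_le hD (fun q hq t => xg_mem_gen hD (show q ∈ {z | z ∈ T} from hq.1) t) h)
  have kx : ∀ q ∈ T, ∀ t : F, kap za i (xg hD F q t) = if a = q then t else 0 := by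
    intro q hq t
    simp only [kap, hza, coe_xg, x_eq_xR D (hs.lt q hq), xR_inl]
    by_cases h : a = q
    · subst h; simp [ev, intCast_eq_one hi, CharTwo.neg_eq]
    · simp [ev, h]
  have k1 : kap za i (1 : GL D.Idx F) = 0 := by simp [kap]
  have hwz : kap za i w = 0 := by
    induction hw using Subgroup.closure_induction with
    | mem y hy =>
      obtain ⟨z, hz, t, rfl⟩ := hy
      change kap za i (xg hD F z t) = 0
      rw [kx z hz.1, if_neg]
      rintro rfl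
      exact hz.2 ha
    | one => exact k1
    | mul g g' h h' e e' => rw [kap_mul (sub h) (sub h'), e, e', add_zero]
    | inv g h e =>
      have e2 := kap_mul (sub (inv_mem h)) (sub h) za i
      rw [inv_mul_cancel, k1, e, add_zero] at e2
      exact e2.symm
  have hpm : ∀ L : List ℕ, (∀ q ∈ L, q ∈ T) → prodL hD F L ∈ gen hD F {z | z ∈ T} := by
    intro L hL
    refine list_prod_mem fun x hx => ?_
    obtain ⟨q, hq, rfl⟩ := List.mem_map.1 hx
    exact xg_mem_gen hD (show q ∈ {z | z ∈ T} from hL q hq) 1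
  have hP : ∀ L : List ℕ, (∀ q ∈ L, q ∈ T) → L.Nodup →
      kap za i (prodL hD F L) = if a ∈ L then 1 else 0 := by
    intro L hL hnd
    induction L with
    | nil => simp [prodL, k1]
    | cons q L ih =>
      rw [List.nodup_cons] at hnd
      rw [prodL_cons hD, kap_mul (unip_supp hD hs (xg_mem_gen hD (show q ∈ {z | z ∈ T} from hL q (by simp)) 1))
        (unip_supp hD hs (hpm L fun x hx => hL x (List.mem_cons_of_mem _ hx))),
        ih (fun x hx => hL x (List.mem_cons_of_mem _ hx)) hnd.2, kx q (hL q (by simp))]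
      by_cases h : a = q
      · subst h; simp [hnd.1]
      · simp [h]
  rw [kap_mul (unip_supp hD hs (hpm S hs.sub)) (sub hw), hwz, hP S hs.sub hs.nd, if_pos ha, add_zero]

/-- Conjugates of the product under `U`. -/
theorem conj_supp {S T : List ℕ} (hs : Supp D S T) {u : GL D.Idx F} (hu : u ∈ D.posUnipotent F) :
    ∃ w ∈ gen hD F {z | z ∈ T ∧ z ∉ S}, u * prodL hD F S * u⁻¹ = prodL hD F S * w := by
  set W := gen hD F {z | z ∈ T ∧ z ∉ S} with hW
  set P := prodL hD F S with hP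
  have hnorm : ∀ s < D.nroots, D.IsPosRoot s → ∀ c : F,
      xg hD F s c ∈ Subgroup.normalizer (W : Set (GL D.Idx F)) := by
    intro s hsl hsp c
    have hconj : ∀ c : F, ∀ w ∈ W, (xg hD F s c)⁻¹ * w * xg hD F s c ∈ W := by
      intro c w hw
      have : W ≤ W.comap (MulAut.conj (xg hD F s c)⁻¹).toMonoidHom := gen_le hD fun z hz t => by
        rw [Subgroup.mem_comap]
        show (xg hD F s c)⁻¹ * xg hD F z t * (xg hD F s c)⁻¹⁻¹ ∈ W
        rw [inv_inv]
        by_cases hzs : z = s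
        · subst hzs
          rw [mul_assoc, xg_add hD hsl, add_comm, ← xg_add hD hsl, inv_mul_cancel_left]
          exact xg_mem_gen hD hz t
        obtain ⟨-, h2, h3⟩ := (hs.closed s hsl hsp z hz.1).resolve_left (Ne.symm hzs)
        rw [mul_assoc, xg_pass hD hsl (hs.lt z hz.1) hzs h2, mul_assoc (xg hD F s c), inv_mul_cancel_left]
        exact mul_mem (xg_mem_gen hD hz t)
          (word_mem hD (fun τ hτ => h3 τ (List.mem_append_right _ hτ)) c t)
      have h := this hw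
      rw [Subgroup.mem_comap] at h
      simpa using h
    rw [Subgroup.mem_normalizer_iff]
    intro w
    refine ⟨fun hw => ?_, fun hw => ?_⟩
    · have := hconj (-c) w hw
      rwa [← xg_inv, inv_inv] at this
    · simpa [mul_assoc] using hconj c _ hw
  have hpass : ∀ L : List ℕ, (∀ q ∈ L, q ∈ S) → ∀ s < D.nroots, D.IsPosRoot s → ∀ c : F,
      ∃ w ∈ W, xg hD F s c * prodL hD F L = prodL hD F L * xg hD F s c * w := by
    intro L
    induction L with
    | nil => exact fun _ s _ _ c => ⟨1, one_mem _, by simp [prodL]⟩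
    | cons q L ih =>
      intro hL s hsl hsp c
      have hqS := hL q (by simp)
      have hqlt := hs.lt q (hs.sub q hqS)
      obtain ⟨w, hw, e⟩ : ∃ w ∈ W, xg hD F s c * xg hD F q 1 = xg hD F q 1 * xg hD F s c * w := by
        by_cases hsq : s = q
        · subst hsq
          exact ⟨1, one_mem _, by rw [mul_one, xg_add hD hqlt, xg_add hD hqlt, add_comm]⟩
        obtain ⟨h2, -, h3⟩ := (hs.closed s hsl hsp q (hs.sub q hqS)).resolve_left hsq
        exact ⟨_, word_mem hD (fun τ hτ => h3 τ (List.mem_append_left _ hτ)) 1 c, xg_pass hD hqlt hsl hsq h2 1 c⟩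
      obtain ⟨w', hw', e'⟩ := ih (fun x hx => hL x (List.mem_cons_of_mem _ hx)) s hsl hsp c
      have hnP : prodL hD F L ∈ Subgroup.normalizer (W : Set (GL D.Idx F)) := by
        refine list_prod_mem fun x hx => ?_
        obtain ⟨r, hr, rfl⟩ := List.mem_map.1 hx
        have hrS := hL r (List.mem_cons_of_mem _ hr)
        exact hnorm r (hs.lt r (hs.sub r hrS)) (hs.pos r hrS) 1
      refine ⟨w' * ((prodL hD F L)⁻¹ * w * (prodL hD F L)), mul_mem hw' ?_, ?_⟩
      · have := (Subgroup.mem_normalizer_iff.1 (inv_mem hnP) w).1 hw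
        rwa [inv_inv] at this
      · rw [prodL_cons hD]
        calc xg hD F s c * (xg hD F q 1 * prodL hD F L)
            = xg hD F q 1 * (xg hD F s c * prodL hD F L) * ((prodL hD F L)⁻¹ * w * prodL hD F L) := by
              rw [← mul_assoc, e]; group
          _ = _ := by rw [e']; group
  let K : Subgroup (GL D.Idx F) :=
    { carrier := {g | g ∈ Subgroup.normalizer (W : Set (GL D.Idx F)) ∧ P⁻¹ * g * P * g⁻¹ ∈ W}
      one_mem' := ⟨one_mem _, by simp⟩
      mul_mem' := by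
        rintro x y ⟨hx, hx'⟩ ⟨hy, hy'⟩
        refine ⟨mul_mem hx hy, ?_⟩
        rw [show P⁻¹ * (x * y) * P * (x * y)⁻¹ = (P⁻¹ * x * P * x⁻¹) * (x * (P⁻¹ * y * P * y⁻¹) * x⁻¹) by group]
        exact mul_mem hx' ((Subgroup.mem_normalizer_iff.1 hx _).1 hy')
      inv_mem' := by
        rintro x ⟨hx, hx'⟩
        refine ⟨inv_mem hx, ?_⟩
        rw [show P⁻¹ * x⁻¹ * P * x⁻¹⁻¹ = x⁻¹ * (P⁻¹ * x * P * x⁻¹)⁻¹ * x⁻¹⁻¹ by group]
        exact (Subgroup.mem_normalizer_iff.1 (inv_mem hx) _).1 (inv_mem hx') }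
  have hUK : D.posUnipotent F ≤ K := by
    rw [posUnipotent_eq_gen hD]
    refine gen_le hD fun s hs' c => ⟨hnorm s hs'.1 hs' c, ?_⟩
    obtain ⟨w, hw, e⟩ := hpass S (fun q hq => hq) s hs'.1 hs' c
    have e1 : P⁻¹ * xg hD F s c * P * (xg hD F s c)⁻¹ = xg hD F s c * w * (xg hD F s c)⁻¹ := by
      rw [mul_assoc P⁻¹ (xg hD F s c) P, hP, e]
      group
    rw [e1]
    exact (Subgroup.mem_normalizer_iff.1 (hnorm s hs'.1 hs' c) _).1 hw
  exact ⟨_, (hUK hu).2, by group⟩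

variable {M : List (List ℤ)} {d : ℤ} (hR : Roots D M d)
include hR

/-- Conjugate products: the Weyl word of a normal form carries one support into the other. -/
theorem map_of_form {S₁ T₁ S₂ T₂ : List ℕ} (h₁ : Supp D S₁ T₁) (h₂ : Supp D S₂ T₂)
    {u₁ h u : GL D.Idx F} (hu₁ : u₁ ∈ D.posUnipotent F) (hh : h ∈ D.diagonalSubgroup F)
    (hu : u ∈ D.posUnipotent F) (l : List (Fin D.rank))
    (e : u₁ * h * (chevRGD hD hR F).nw l * u * prodL hD F S₁ * (u₁ * h * (chevRGD hD hR F).nw l * u)⁻¹ =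
      prodL hD F S₂) (a : ℕ) (ha : a ∈ S₁) :
    ((chevRGD hD hR F).ww l ⟨a, h₁.lt a (h₁.sub a ha)⟩).val ∈ T₂ := by
  set R := chevRGD hD hR F with hRdef
  obtain ⟨w, hw, ew⟩ := conj_supp hD h₁ hu
  obtain ⟨w', hw', ew'⟩ := conj_supp hD h₂ (inv_mem hu₁)
  rw [inv_inv] at ew'
  by_contra hout
  obtain ⟨i, hi, hodd⟩ := h₁.odd a (h₁.sub a ha)
  set n := h * R.nw l with hn
  set y := prodL hD F S₁ * w
  set y' := prodL hD F S₂ * w'
  have eny : n * y = y' * n := by
    rw [show y = u * prodL hD F S₁ * u⁻¹ from ew.symm, show y' = u₁⁻¹ * prodL hD F S₂ * u₁ from ew'.symm,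
      ← e, hn]
    group
  have hpm : ∀ {S T : List ℕ}, Supp D S T → prodL hD F S ∈ gen hD F {z | z ∈ T} := fun {S T} hs => by
    refine list_prod_mem fun x hx => ?_
    obtain ⟨q, hq, rfl⟩ := List.mem_map.1 hx
    exact xg_mem_gen hD (show q ∈ {z | z ∈ T} from hs.sub q hq) 1
  have hy : Unip D T₁ y := unip_supp hD h₁ (mul_mem (hpm h₁)
    (gen_le hD (fun q hq t => xg_mem_gen hD (show q ∈ {z | z ∈ T₁} from hq.1) t) hw))
  have hy' : Unip D T₂ y' := unip_supp hD h₂ (mul_mem (hpm h₂)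
    (gen_le hD (fun q hq t => xg_mem_gen hD (show q ∈ {z | z ∈ T₂} from hq.1) t) hw'))
  have hk := kap_prodL hD h₁ ha (i := ⟨i, hi⟩) hodd hw
  set q : Fin D.nroots := ⟨a, h₁.lt a (h₁.sub a ha)⟩
  obtain ⟨g1, g2⟩ := monomial_mulVec hD hR hh l
  set x : D.Idx → F := Pi.single (Sum.inl ⟨i, hi⟩) 1
  have hx : ∀ u, x (Sum.inr u) = 0 := fun u => by simp [x]
  set v := (y : Matrix D.Idx D.Idx F) *ᵥ x - x with hv
  have hvZ : OnZ D T₁ v := hy.2 x hx
  have hgx := g2 x hx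
  have hr : ((n : Matrix D.Idx D.Idx F) *ᵥ ((y : Matrix D.Idx D.Idx F) *ᵥ x)) (Sum.inr (R.ww l q)) = 0 := by
    rw [Matrix.mulVec_mulVec, ← Units.val_mul, eny, Units.val_mul, ← Matrix.mulVec_mulVec]
    have := onZ_inr (hy'.2 _ hgx) hout
    rwa [Pi.sub_apply, hgx, sub_zero] at this
  rw [show (y : Matrix D.Idx D.Idx F) *ᵥ x = x + v by rw [hv]; abel, Matrix.mulVec_add, Pi.add_apply,
    hgx, zero_add, pi_eq_sum_univ' v, Matrix.mulVec_sum, Finset.sum_apply,
    Finset.sum_eq_single (Sum.inr q)] at hr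
  · obtain ⟨η, hη, eη⟩ := g1 q
    have hvq : v (Sum.inr q) = 1 := by
      rw [hv, Pi.sub_apply, hx, sub_zero]
      exact hk
    rw [Matrix.mulVec_smul, ← ev_of_lt D F q.isLt, eη, hvq] at hr
    simp [ev, hRdef] at hr
    exact hη hr
  · intro c _ hcq
    rcases c with k | u
    · simp [onZ_inl hvZ k]
    · obtain ⟨η, -, eη⟩ := g1 u
      rw [Matrix.mulVec_smul, ← ev_of_lt D F u.isLt, eη]
      have hne : R.ww l q ≠ R.ww l u := fun h' => hcq (by rw [ww_injective hD hR l h'])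
      simp [ev]
      exact fun h' => absurd (Fin.ext h') hne
  · simp

/-- Conjugate products: some Weyl word carries one support into the other. -/
theorem exists_map {S₁ T₁ S₂ T₂ : List ℕ} (h₁ : Supp D S₁ T₁) (h₂ : Supp D S₂ T₂) {g : GL D.Idx F}
    (hg' : g ∈ D.group F) (e : g * prodL hD F S₁ * g⁻¹ = prodL hD F S₂) :
    ∃ l : List (Fin D.rank), ∀ (a : ℕ) (ha : a ∈ S₁),
      ((chevRGD hD hR F).ww l ⟨a, h₁.lt a (h₁.sub a ha)⟩).val ∈ T₂ := by
  set R := chevRGD hD hR F with hRdef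
  rw [← chev_G hD hR (F := F)] at hg'
  obtain ⟨β, hβ, l, u, hu, rfl⟩ := R.exists_normalForm hg'
  obtain ⟨u₁, hu₁, h, hh, rfl⟩ := R.exists_B hβ
  replace hu₁ : u₁ ∈ D.posUnipotent F := by rw [← chev_Upos hD hR]; exact hu₁
  replace hu : u ∈ D.posUnipotent F := by rw [← chev_Upos hD hR]; exact R.Uminus_le_Upos l hu
  exact ⟨l, map_of_form hD hR h₁ h₂ hu₁ hh hu l e⟩

omit hR in
theorem not_commute_of_adj {p q : ℕ} (hp : p < D.nroots) (hq : q < D.nroots) (h : Adj D p q) :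
    ¬ (Commute (xg hD F p 1) (xg hD F q 1) ∧ Commute (xg hD F p 1) (xg hD F (D.neg q) 1)) := by
  have key : ∀ r, r < D.nroots → p ≠ r → r ≠ D.neg p → (oddT D p r).length = 1 →
      (∀ z ∈ oddT D p r, z < D.nroots) → ¬ Commute (xg hD F p 1) (xg hD F r 1) := by
    intro r hr h1 h2 hlen hzlt hc
    obtain ⟨z, hz⟩ := List.length_eq_one_iff.1 hlen
    have e := swap_eq hD hp hr (Ne.symm h1) h2 (F := F)
    rw [← hc.eq, left_eq_mul, hz] at e
    exact one_ne_zero (xg_eq_one hD (hzlt z (by simp [hz])) (by simpa [prodL] using e))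
  rintro ⟨hc1, hc2⟩
  rcases h with ⟨h1, h2, h3, h4⟩ | ⟨h1, h2, h3, h4⟩
  · exact key q hq h1 h2 h3 h4 hc1
  · exact key _ (hD.neg_lt q hq) h1 h2 h3 h4 hc2

omit hR in
theorem commute_of_orth {p q : ℕ} (hp : p < D.nroots) (hq : q < D.nroots) (h : Orth D p q) :
    Commute (xg hD F p 1) (xg hD F q 1) ∧ Commute (xg hD F p 1) (xg hD F (D.neg q) 1) :=
  ⟨(xg_comm hD h.1 hp hq 1 1).symm, (xg_comm hD h.2 hp (hD.neg_lt q hq) 1 1).symm⟩

/-- The commutation criterion. -/
theorem not_conj {S₁ T₁ S₂ T₂ : List ℕ} (h₁ : Supp D S₁ T₁) (h₂ : Supp D S₂ T₂)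
    (hsep : Separated D S₁ T₂) {g : GL D.Idx F} (hg' : g ∈ D.group F) :
    g * prodL hD F S₁ * g⁻¹ ≠ prodL hD F S₂ := by
  intro e
  obtain ⟨l, hl⟩ := exists_map hD hR h₁ h₂ hg' e
  set R := chevRGD hD hR F with hRdef
  obtain ⟨hTnd, horth, hsub⟩ := hsep
  set f : ℕ → ℕ := fun a => if ha : a < D.nroots then (R.ww l ⟨a, ha⟩).val else 0 with hf
  have hlt₁ : ∀ a ∈ S₁, a < D.nroots := fun a ha => h₁.lt a (h₁.sub a ha)
  have hflt : ∀ a ∈ S₁, f a < D.nroots := fun a ha => by simp [hf, hlt₁ a ha]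
  have hfT : ∀ a ∈ S₁, f a ∈ T₂ := fun a ha => by simpa [hf, hlt₁ a ha] using hl a ha
  have hinj : ∀ a ∈ S₁, ∀ a' ∈ S₁, f a = f a' → a = a' := by
    intro a ha a' ha' h'
    simp only [hf, hlt₁ a ha, hlt₁ a' ha', dite_true] at h'
    exact congrArg Fin.val (ww_injective hD hR l (Fin.ext h'))
  -- transport of commutation
  have htr : ∀ a < D.nroots, ∀ b < D.nroots, Orth D a b →
      Commute (xg hD F (f a) 1) (xg hD F (f b) 1) ∧ Commute (xg hD F (f a) 1) (xg hD F (D.neg (f b)) 1) := by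
    intro a ha b hb hab
    obtain ⟨c1, c2⟩ := commute_of_orth hD ha hb hab (F := F)
    have ea := nw_conj_xg hD hR l ⟨a, ha⟩ (1 : F)
    have eb := nw_conj_xg hD hR l ⟨b, hb⟩ (1 : F)
    have enb := nw_conj_xg hD hR l ⟨D.neg b, hD.neg_lt b hb⟩ (1 : F)
    rw [show (⟨D.neg b, hD.neg_lt b hb⟩ : Fin D.nroots) = R.neg ⟨b, hb⟩ from rfl, R.ww_neg] at enb
    have d1 := c1.map (MulAut.conj (R.nw l)).toMonoidHom
    have d2 := c2.map (MulAut.conj (R.nw l)).toMonoidHom
    simp only [MulEquiv.coe_toMonoidHom, MulAut.conj_apply] at d1 d2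
    simp only [hf, ha, hb, dite_true]
    exact ⟨by rw [← ea, ← eb]; exact d1, by
      rw [← ea]; exact enb ▸ d2⟩
  set L := T₂.filter fun p => decide (p ∈ S₁.map f) with hL
  have hmemL : ∀ p, p ∈ L ↔ ∃ a ∈ S₁, f a = p := by
    intro p
    rw [hL, List.mem_filter]
    simp only [decide_eq_true_eq, List.mem_map]
    exact ⟨fun h => h.2, fun ⟨a, ha, e⟩ => ⟨e ▸ hfT a ha, a, ha, e⟩⟩
  have hlen : L.length = S₁.length := by
    rw [← List.length_map (f := f) (as := S₁)]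
    refine List.Perm.length_eq ((List.perm_ext_iff_of_nodup (hTnd.filter _)
      (h₁.nd.map_on hinj)).2 fun p => ?_)
    rw [← hL, hmemL, List.mem_map]
  rcases hsub L (List.mem_sublistsLen.2 ⟨List.filter_sublist, hlen⟩) with
    ⟨p, hp, p', hp', hne, hadj⟩ | ⟨⟨δ, hδ, hadj⟩, hall⟩
  · obtain ⟨a, ha, rfl⟩ := (hmemL p).1 hp
    obtain ⟨a', ha', rfl⟩ := (hmemL p').1 hp'
    exact not_commute_of_adj hD (hflt a ha) (hflt a' ha') hadj
      (htr a (hlt₁ a ha) a' (hlt₁ a' ha') (horth a ha a' ha' fun e => hne (by rw [e])))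
  · set δ' := (R.ww l.reverse ⟨δ, hδ⟩) with hδ'
    obtain ⟨a, ha, hor⟩ := hall δ'.val δ'.isLt
    have hfδ : f δ'.val = δ := by
      simp only [hf]
      rw [dif_pos δ'.isLt]
      exact congrArg Fin.val (ww_reverse hD hR l ⟨δ, hδ⟩).2
    have h := htr a (hlt₁ a ha) δ'.val δ'.isLt hor
    rw [hfδ] at h
    exact not_commute_of_adj hD (hflt a ha) hδ (hadj _ ((hmemL _).2 ⟨a, ha, rfl⟩)) h

end Cfsg.Agent.ChevInvolution
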