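import Cfsg.Agent.Lib.ChevCentralizer.E6Base
import Cfsg.Agent.Lib.ChevBN.RootTables

/-!
# Certificates for the involution classes of E6 in characteristic two
-/

set_option autoImplicit false
set_option maxRecDepth 100000
set_option synthInstance.maxSize 4000

namespace Cfsg.Agent.ChevInvolution.E6

open Cfsg.Lie Cfsg.Agent.ChevBN

/-- Certificates. -/
def cases0 : List Case := [
  ⟨[], [], some ([71, 60, 44, 39], [.swap 0, .swap 1, .swap 0, .swap 2, .swap 1, .swap 0, .n 1, .x 46, .swap 4, .swap 3, .swap 2, .swap 1, .cancel 0, .x 60, .swap 0, .swap 2, .swap 1, .swap 3, .swap 5, .swap 4, .swap 3, .swap 6, .cancel 7, .swap 6, .swap 5, .swap 4, .swap 3, .cancel 2, .x 39, .swap 6, .swap 5, .swap 4, .swap 3, .swap 2, .swap 1, .cancel 0, .cancel 4, .cancel 5, .x 44, .swap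 5, .swap 4, .swap 3, .swap 2, .swap 1, .cancel 0, .swap 1, .cancel 2, .cancel 3, .n 3, .n 2, .n 0, .n 4, .n 3, .n 2, .n 5, .n 4, .n 3, .n 0, .swap 0, .n 2, .swap 1, .n 0, .swap 0])⟩,
  ⟨[1, 2], [1, 2], none⟩,
  ⟨[0, 3], [0, 3], none⟩,
  ⟨[0, 1, 3], [0, 1, 3, 1], none⟩,
  ⟨[0, 2, 3], [0, 2, 0, 3, 2, 0], none⟩,
  ⟨[0, 1, 2, 3], [0, 1, 2, 0, 3, 1, 2, 0, 3, 2], none⟩,
  ⟨[0, 4], [0, 4], none⟩,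
  ⟨[0, 1, 4], [0, 1, 4], none⟩,
  ⟨[0, 2, 4], [0, 2, 0, 4], none⟩,
  ⟨[0, 1, 2, 4], [0, 1, 2, 0, 4], none⟩,
  ⟨[0, 3, 4], [0, 3, 4, 3], none⟩,
  ⟨[0, 1, 3, 4], [0, 1, 3, 1, 4, 3, 1], none⟩,
  ⟨[1, 2, 3, 4], [1, 2, 3, 1, 2, 3, 4, 3, 1, 2, 3, 4], none⟩,
  ⟨[5], [5], none⟩,
  ⟨[1, 5], [1, 5], none⟩,
  ⟨[2, 5], [2, 5], none⟩,
  ⟨[1, 2, 5], [1, 2, 5], none⟩,
  ⟨[3, 5], [3, 5], none⟩,
  ⟨[1, 3, 5], [1, 3, 1, 5], none⟩,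
  ⟨[2, 3, 5], [2, 3, 2, 5], none⟩,
  ⟨[1, 2, 3, 5], [1, 2, 3, 1, 2, 3, 5], none⟩,
  ⟨[4, 5], [4, 5, 4], none⟩,
  ⟨[1, 4, 5], [1, 4, 5, 4], none⟩,
  ⟨[2, 4, 5], [2, 4, 5, 4], none⟩,
  ⟨[1, 2, 4, 5], [1, 2, 4, 5, 4], none⟩,
  ⟨[3, 4, 5], [3, 4, 3, 5, 4, 3], none⟩,
  ⟨[1, 3, 4, 5], [1, 3, 1, 4, 3, 1, 5, 4, 3, 1], none⟩,
  ⟨[2, 3, 4, 5], [2, 3, 2, 4, 3, 2, 5, 4, 3, 2], none⟩,
  ⟨[0, 1, 2, 3, 4, 5], [0, 1, 2, 0, 3, 1, 2, 0, 3, 2, 4, 3, 1, 2, 0, 3, 2, 4, 3, 1, 5, 4, 3, 1, 2, 0, 3, 2, 4, 3, 1, 5, 4, 3, 2, 0], some ([], [])⟩]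

theorem cases0_ok : ∀ c ∈ cases0, CaseOK chevE6 adjE6 tau reps c := by
  decide +kernel

end Cfsg.Agent.ChevInvolution.E6
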