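import Cfsg.Agent.Lib.ChevCentralizer.E6Base
import Cfsg.Agent.Lib.ChevBN.RootTables

/-!
# Certificates for the involution classes of E6 in characteristic two
-/

set_option autoImplicit false
set_option maxRecDepth 100000
set_option synthInstance.maxSize 4000

namespace Cfsg.Agent.ChevInvolution.E6

open Cfsg.Lie Cfsg.Agent.ChevBN

/-- Certificates. -/
def cases1 : List Case := [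
  ⟨[3], [3], some ([71, 60, 44], [.swap 0, .swap 1, .swap 0, .n 1, .n 3, .n 0, .swap 0, .n 2, .swap 1, .n 0, .swap 0])⟩,
  ⟨[1], [1], some ([69, 65, 53], [.swap 0, .swap 1, .swap 0, .n 0, .swap 0, .n 2, .swap 1, .n 0, .swap 0])⟩,
  ⟨[2, 3, 4], [2, 3, 2, 4, 3, 2], some ([71, 60], [.swap 0, .n 1, .n 3, .n 2, .swap 0, .swap 0])⟩,
  ⟨[0, 2, 3, 4, 5], [0, 2, 0, 3, 2, 0, 4, 3, 2, 0, 5, 4, 3, 2, 0], some ([71], [])⟩,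
  ⟨[0], [0], none⟩,
  ⟨[0, 1], [0, 1], none⟩,
  ⟨[2], [2], none⟩,
  ⟨[0, 2], [0, 2, 0], none⟩,
  ⟨[0, 1, 2], [0, 1, 2, 0], none⟩,
  ⟨[1, 3], [1, 3, 1], none⟩,
  ⟨[2, 3], [2, 3, 2], none⟩,
  ⟨[1, 2, 3], [1, 2, 3, 1, 2, 3], none⟩,
  ⟨[4], [4], none⟩,
  ⟨[1, 4], [1, 4], none⟩,
  ⟨[2, 4], [2, 4], none⟩,
  ⟨[1, 2, 4], [1, 2, 4], none⟩,
  ⟨[3, 4], [3, 4, 3], none⟩,
  ⟨[1, 3, 4], [1, 3, 1, 4, 3, 1], none⟩,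
  ⟨[0, 2, 3, 4], [0, 2, 0, 3, 2, 0, 4, 3, 2, 0], none⟩,
  ⟨[0, 1, 2, 3, 4], [0, 1, 2, 0, 3, 1, 2, 0, 3, 2, 4, 3, 1, 2, 0, 3, 2, 4, 3, 1], none⟩,
  ⟨[0, 5], [0, 5], none⟩,
  ⟨[0, 1, 5], [0, 1, 5], none⟩,
  ⟨[0, 2, 5], [0, 2, 0, 5], none⟩,
  ⟨[0, 1, 2, 5], [0, 1, 2, 0, 5], none⟩,
  ⟨[0, 3, 5], [0, 3, 5], none⟩,
  ⟨[0, 1, 3, 5], [0, 1, 3, 1, 5], none⟩,
  ⟨[0, 2, 3, 5], [0, 2, 0, 3, 2, 0, 5], none⟩,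
  ⟨[0, 1, 2, 3, 5], [0, 1, 2, 0, 3, 1, 2, 0, 3, 2, 5], none⟩,
  ⟨[0, 4, 5], [0, 4, 5, 4], none⟩,
  ⟨[0, 1, 4, 5], [0, 1, 4, 5, 4], none⟩,
  ⟨[0, 2, 4, 5], [0, 2, 0, 4, 5, 4], none⟩,
  ⟨[0, 1, 2, 4, 5], [0, 1, 2, 0, 4, 5, 4], none⟩,
  ⟨[0, 3, 4, 5], [0, 3, 4, 3, 5, 4, 3], none⟩,
  ⟨[0, 1, 3, 4, 5], [0, 1, 3, 1, 4, 3, 1, 5, 4, 3, 1], none⟩,
  ⟨[1, 2, 3, 4, 5], [1, 2, 3, 1, 2, 3, 4, 3, 1, 2, 3, 4, 5, 4, 3, 1, 2, 3, 4, 5], none⟩]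

theorem cases1_ok : ∀ c ∈ cases1, CaseOK chevE6 adjE6 tau reps c := by
  decide +kernel

end Cfsg.Agent.ChevInvolution.E6
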