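import Cfsg.Agent.Lib.ChevCentralizer.E6Cases0
import Cfsg.Agent.Lib.ChevCentralizer.E6Cases1
import Cfsg.Agent.Lib.ChevCentralizer.Distinct
import Cfsg.Agent.Lib.ChevBN.RootTables

/-!
# Certificates for the involution classes of E6 in characteristic two
-/

set_option autoImplicit false
set_option maxRecDepth 100000
set_option synthInstance.maxSize 4000

namespace Cfsg.Agent.ChevInvolution.E6

open Cfsg.Lie Cfsg.Agent.ChevBN

/-- All certificates. -/
def cases : List Case := cases0 ++ cases1

theorem cases_ok : ∀ c ∈ cases, CaseOK chevE6 adjE6 tau reps c := by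
  intro c hc
  simp only [cases, List.mem_append, or_assoc] at hc
  rcases hc with h | h
  exacts [cases0_ok c h, cases1_ok c h]

theorem cover : ∀ K ∈ (List.range chevE6.rank).sublists, K ∈ cases.map (·.K) := by
  decide +kernel

/-- Support of representative 0. -/
def supp0 : List ℕ := [71]

theorem supp0_ok : Supp chevE6 [71] supp0 := by
  constructor <;> decide +kernel

/-- Support of representative 1. -/
def supp1 : List ℕ := [66, 68, 69, 70, 71]

theorem supp1_ok : Supp chevE6 [68, 66] supp1 := by
  constructor <;> decide +kernel

/-- Support of representative 2. -/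
def supp2 : List ℕ := [55, 65, 66, 67, 68, 69, 70, 71]

theorem supp2_ok : Supp chevE6 [55, 65, 67] supp2 := by
  constructor <;> decide +kernel

theorem sep10 : Separated chevE6 [68, 66] supp0 := by
  unfold Separated
  decide +kernel

theorem sep20 : Separated chevE6 [55, 65, 67] supp0 := by
  unfold Separated
  decide +kernel

theorem sep21 : Separated chevE6 [55, 65, 67] supp1 := by
  unfold Separated
  decide +kernel

end Cfsg.Agent.ChevInvolution.E6
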