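import Cfsg.Agent.Lib.ChevCentralizer.E7Base
import Cfsg.Agent.Lib.ChevBN.RootTables

/-!
# Certificates for the involution classes of E7 in characteristic two
-/

set_option autoImplicit false
set_option maxRecDepth 100000
set_option synthInstance.maxSize 4000
set_option Elab.async false

namespace Cfsg.Agent.ChevInvolution.E7

open Cfsg.Lie Cfsg.Agent.ChevBN

/-- Certificates, part 0. -/
def cases0_0 : List Case := [
  ⟨[], [], some ([125, 92, 87, 63, 66, 73, 78], [.swap 0, .swap 1, .swap 0, .swap 2, .swap 1, .swap 0, .swap 3, .swap 2, .swap 1, .swap 4, .swap 3, .swap 2, .swap 5, .swap 4, .swap 3, .n 0, .swap 2, .n 3, .n 1, .swap 1, .swap 3, .n 2, .n 3, .n 4, .n 5, .n 4, .n 3, .n 2, .swap 0, .swap 4, .n 1, .n 3, .n 0, .swap 2, .swap 1, .swap 3, .swap 2, .x 63, .swap 7, .swap 6, .swap 5, .swap 4, .swap 3, .swap 2, .swap 1, .cancel 0, .x 66, .swap 9, .swap 8, .swap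 7, .swap 6, .swap 5, .swap 4, .swap 3, .swap 2, .swap 1, .cancel 0, .swap 4, .cancel 5, .swap 6, .cancel 8, .x 73, .swap 8, .swap 7, .swap 6, .swap 5, .swap 4, .swap 3, .swap 2, .swap 1, .cancel 0, .swap 4, .swap 6, .swap 7, .swap 6, .swap 5, .swap 8, .swap 7, .cancel 6, .swap 7, .cancel 6, .x 107, .swap 0, .swap 1, .swap 2, .swap 3, .swap 4, .swap 7, .swap 6, .cancel 5, .cancel 6, .x 70, .swap 6, .swap 5, .swap 4, .swap 3, .swap 2, .swap 1, .cancel 0, .x 74, .swap 8, .swap 7, .swap 6, .swap 5, .swap 4, .swap 3, .swap 2, .swap 1, .cancel 0, .swap 1, .cancel 3, .swap 6, .cancel 7, .x 97, .swap 0, .swap 2, .swap 1, .swap 3, .swap 4, .swap 3, .swap 2, .swap 4, .swap 5, .swap 7, .swap 6, .swap 5, .swap 4, .swap 3, .swap 8, .swap 7, .swap 6, .swap 9, .swap 8, .cancel 7, .swap 8, .cancel 7, .swap 7, .swap 6, .swap 5, .cancel 4, .x 87, .swap 0, .swap 1, .swap 2, .swap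 7, .swap 6, .swap 5, .swap 4, .cancel 3, .swap 5, .cancel 6, .n 3, .swap 4, .n 4, .swap 0, .n 3, .x 70, .swap 6, .swap 5, .swap 4, .swap 3, .swap 2, .swap 1, .cancel 0, .cancel 1, .x 65, .swap 5, .swap 4, .swap 3, .swap 2, .swap 1, .cancel 0, .x 67, .swap 7, .swap 6, .swap 5, .swap 4, .swap 3, .swap 2, .swap 1, .cancel 0, .swap 2, .cancel 4, .swap 5, .cancel 6, .x 93, .swap 0, .swap 1, .swap 3, .swap 2, .swap 4, .swap 5, .swap 4, .swap 3, .swap 5, .swap 6, .swap 8, .swap 7, .cancel 6, .swap 7, .cancel 6, .swap 6, .swap 5, .cancel 4, .x 92, .swap 0, .swap 1, .swap 2, .swap 3, .swap 6, .swap 5, .cancel 4, .cancel 5, .n 5, .n 6, .swap 1, .n 5, .x 65, .swap 5, .swap 4, .swap 3, .swap 2, .swap 1, .cancel 0, .cancel 2, .n 0, .swap 2, .swap 1, .n 2, .n 0, .n 3, .n 4, .n 5, .n 3, .n 2, .swap 1, .n 4, .n 3, .swap 2, .n 1, .n 6, .n 0, .swap 0, .n 2, .swap 1, .n 0, .swap 0,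 .swap 2, .swap 1, .swap 0, .swap 2, .swap 1, .swap 2])⟩]

theorem cases0_0_ok : cases0_0.Forall (CaseOKF chevE7 tab tau reps) := by
  decide +kernel

/-- Certificates, part 1. -/
def cases0_1 : List Case := [
  ⟨[5], [5], some ([125, 89, 90, 68, 73, 78], [.swap 0, .swap 1, .swap 2, .swap 1, .swap 0, .swap 3, .swap 2, .swap 1, .swap 4, .swap 3, .swap 2, .x 72, .swap 0, .swap 6, .swap 5, .swap 4, .swap 3, .swap 2, .cancel 1, .x 74, .swap 0, .swap 2, .swap 1, .cancel 3, .swap 7, .swap 6, .swap 5, .swap 4, .swap 3, .cancel 2, .swap 3, .cancel 5, .x 79, .swap 0, .swap 2, .swap 1, .swap 3, .swap 5, .swap 4, .swap 3, .swap 2, .swap 6, .swap 5, .cancel 4, .swap 5, .cancel 4, .swap 6, .swap 5, .swap 4, .cancel 3, .x 77, .swap 0, .swap 1, .swap 6, .swap 5, .swap 4, .swap 3, .cancel 2, .cancel 3, .n 0, .swap 1, .n 2, .n 3, .n 2, .n 0, .swap 1, .swap 0, .x 68, .swap 5, .swap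 4, .swap 3, .swap 2, .swap 1, .cancel 0, .x 78, .swap 0, .swap 7, .swap 6, .swap 5, .swap 4, .swap 3, .swap 2, .cancel 1, .swap 2, .cancel 3, .swap 4, .cancel 6, .x 90, .swap 0, .swap 6, .swap 5, .swap 4, .swap 3, .swap 2, .cancel 1, .swap 2, .swap 4, .swap 5, .swap 4, .swap 3, .swap 6, .swap 5, .cancel 4, .swap 5, .cancel 4, .x 102, .swap 0, .swap 1, .swap 2, .swap 5, .swap 4, .cancel 3, .cancel 4, .n 1, .swap 1, .n 3, .n 4, .n 5, .n 6, .n 3, .n 1, .n 4, .n 3, .n 2, .swap 2, .swap 1, .n 5, .n 4, .swap 2, .n 3, .n 1, .n 0, .swap 0, .swap 2, .swap 1, .swap 0, .swap 2, .swap 1, .swap 2])⟩]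

theorem cases0_1_ok : cases0_1.Forall (CaseOKF chevE7 tab tau reps) := by
  decide +kernel

/-- Certificates, part 2. -/
def cases0_2 : List Case := [
  ⟨[1, 4], [1, 4], some ([125, 92, 87, 63, 73], [.swap 0, .swap 1, .swap 0, .swap 2, .swap 1, .swap 0, .swap 3, .swap 2, .swap 1, .n 0, .n 2, .x 73, .swap 0, .swap 5, .swap 4, .swap 3, .swap 2, .cancel 1, .x 87, .swap 0, .swap 7, .swap 6, .swap 5, .swap 4, .swap 3, .swap 2, .cancel 1, .swap 2, .cancel 4, .swap 5, .cancel 6, .x 92, .swap 0, .swap 6, .swap 5, .swap 4, .swap 3, .swap 2, .cancel 1, .swap 2, .swap 4, .swap 3, .swap 6, .swap 7, .swap 6, .cancel 5, .swap 6, .cancel 5, .x 109, .swap 0, .swap 1, .swap 2, .swap 3, .swap 4, .cancel 6, .cancel 5, .n 2, .swap 1, .x 73, .swap 0, .swap 5, .swap 4, .swap 3, .swap 2, .cancel 1, .cancel 2, .n 3, .n 1, .n 4, .n 5, .n 3, .n 4, .n 2, .n 3, .n 1, .n 2, .n 3, .n 4, .n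 5, .n 6, .n 3, .n 2, .swap 1, .swap 2, .swap 1, .swap 0, .swap 2, .swap 1, .swap 2])⟩]

theorem cases0_2_ok : cases0_2.Forall (CaseOKF chevE7 tab tau reps) := by
  decide +kernel

/-- Certificates, part 3. -/
def cases0_3 : List Case := [
  ⟨[2, 4], [2, 4], some ([125, 92, 87, 63, 78], [.swap 0, .swap 1, .swap 0, .swap 2, .swap 1, .swap 0, .swap 3, .swap 2, .swap 1, .n 0, .n 2, .n 3, .n 4, .n 5, .n 4, .n 3, .swap 2, .n 2, .n 0, .swap 1, .swap 0, .x 63, .swap 5, .swap 4, .swap 3, .swap 2, .swap 1, .cancel 0, .x 78, .swap 7, .swap 6, .swap 5, .swap 4, .swap 3, .swap 2, .swap 1, .cancel 0, .swap 2, .cancel 3, .swap 4, .cancel 6, .x 87, .swap 6, .swap 5, .swap 4, .swap 3, .swap 2, .swap 1, .cancel 0, .swap 2, .swap 4, .swap 5, .swap 4, .swap 3, .swap 6, .swap 5, .cancel 4, .swap 5, .cancel 4, .x 102, .swap 0, .swap 1, .swap 2, .swap 5, .swap 4, .cancel 3, .cancel 4,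 .n 1, .swap 1, .n 3, .n 2, .n 4, .n 3, .n 1, .swap 2, .n 6, .n 3, .n 2, .swap 1, .swap 2, .swap 1, .swap 0, .swap 2, .swap 1, .swap 2])⟩]

theorem cases0_3_ok : cases0_3.Forall (CaseOKF chevE7 tab tau reps) := by
  decide +kernel

/-- Certificates, part 4. -/
def cases0_4 : List Case := [
  ⟨[0, 6], [0, 6], some ([123, 114, 109, 66, 78], [.swap 0, .swap 1, .swap 0, .swap 2, .swap 1, .swap 0, .swap 3, .swap 2, .swap 1, .x 70, .swap 0, .swap 5, .swap 4, .swap 3, .swap 2, .cancel 1, .x 79, .swap 0, .swap 2, .swap 1, .cancel 3, .swap 6, .swap 5, .swap 4, .swap 3, .cancel 2, .swap 4, .cancel 6, .x 117, .swap 0, .swap 2, .swap 1, .swap 3, .swap 5, .swap 4, .swap 3, .swap 2, .swap 6, .swap 5, .swap 4, .swap 3, .swap 7, .swap 6, .cancel 5, .swap 6, .cancel 5, .swap 5, .cancel 4, .x 80, .swap 0, .swap 1, .swap 5, .swap 4, .swap 3, .cancel 2, .cancel 4, .n 3, .n 1, .swap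 0, .n 2, .n 0, .swap 1, .swap 0, .n 4, .n 5, .n 6, .n 4, .n 3, .n 2, .n 5, .n 4, .n 3, .n 1, .swap 2, .n 3, .n 2, .swap 1, .swap 2, .swap 1, .swap 0, .swap 2, .swap 1, .swap 2])⟩]

theorem cases0_4_ok : cases0_4.Forall (CaseOKF chevE7 tab tau reps) := by
  decide +kernel

/-- Certificates, part 5. -/
def cases0_5 : List Case := [
  ⟨[1, 2, 6], [1, 2, 6], some ([125, 92, 87, 66], [.swap 0, .swap 1, .swap 0, .swap 2, .swap 1, .swap 0, .n 0, .n 2, .n 3, .n 1, .swap 2, .n 5, .n 6, .n 2, .n 0, .swap 0, .n 4, .n 3, .n 2, .swap 1, .n 0, .swap 0, .swap 2, .swap 1, .swap 0, .swap 2, .swap 1, .swap 2])⟩]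

theorem cases0_5_ok : cases0_5.Forall (CaseOKF chevE7 tab tau reps) := by
  decide +kernel

/-- Certificates, part 6. -/
def cases0_6 : List Case := [
  ⟨[2, 4, 6], [2, 4, 6], some ([125, 92, 87, 78], [.swap 0, .swap 1, .swap 0, .swap 2, .swap 1, .swap 0, .n 0, .n 2, .n 3, .n 4, .n 5, .n 6, .n 2, .n 0, .swap 0, .n 4, .n 3, .n 2, .swap 1, .n 0, .swap 0, .swap 2, .swap 1, .swap 0, .swap 2, .swap 1, .swap 2])⟩]

theorem cases0_6_ok : cases0_6.Forall (CaseOKF chevE7 tab tau reps) := by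
  decide +kernel

/-- Certificates, part 7. -/
def cases0_7 : List Case := [
  ⟨[0, 1, 5], [0, 1, 5], some ([123, 111, 112, 68], [.swap 0, .swap 1, .swap 2, .swap 1, .swap 0, .n 3, .n 1, .swap 2, .n 2, .n 0, .swap 0, .n 4, .n 3, .n 2, .swap 1, .n 0, .swap 0, .swap 2, .swap 1, .swap 0, .swap 2, .swap 1, .swap 2])⟩]

theorem cases0_7_ok : cases0_7.Forall (CaseOKF chevE7 tab tau reps) := by
  decide +kernel

/-- Certificates, part 8. -/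
def cases0_8 : List Case := [
  ⟨[0, 3, 5], [0, 3, 5], some ([118, 119, 111, 82], [.swap 1, .swap 0, .swap 2, .swap 1, .swap 0, .n 2, .n 0, .swap 0, .n 4, .n 3, .n 2, .swap 1, .n 0, .swap 0, .swap 2, .swap 1, .swap 0, .swap 2, .swap 1, .swap 2])⟩]

theorem cases0_8_ok : cases0_8.Forall (CaseOKF chevE7 tab tau reps) := by
  decide +kernel

/-- Certificates, part 9. -/
def cases0_9 : List Case := [
  ⟨[0, 1, 2], [0, 1, 2, 0], none⟩,
  ⟨[2, 3], [2, 3, 2], none⟩,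
  ⟨[0, 2, 4], [0, 2, 0, 4], none⟩,
  ⟨[1, 3, 4], [1, 3, 1, 4, 3, 1], none⟩,
  ⟨[0, 1, 2, 3, 4], [0, 1, 2, 0, 3, 1, 2, 0, 3, 2, 4, 3, 1, 2, 0, 3, 2, 4, 3, 1], none⟩,
  ⟨[0, 1, 3, 5], [0, 1, 3, 1, 5], none⟩,
  ⟨[0, 1, 2, 3, 5], [0, 1, 2, 0, 3, 1, 2, 0, 3, 2, 5], none⟩,
  ⟨[0, 1, 4, 5], [0, 1, 4, 5, 4], none⟩,
  ⟨[0, 1, 2, 4, 5], [0, 1, 2, 0, 4, 5, 4], none⟩,
  ⟨[0, 1, 3, 4, 5], [0, 1, 3, 1, 4, 3, 1, 5, 4, 3, 1], none⟩,
  ⟨[0, 1, 2, 3, 4, 5], [0, 1, 2, 0, 3, 1, 2, 0, 3, 2, 4, 3, 1, 2, 0, 3, 2, 4, 3, 1, 5, 4, 3, 1, 2, 0, 3, 2, 4, 3, 1, 5, 4, 3, 2, 0], none⟩,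
  ⟨[0, 1, 3, 6], [0, 1, 3, 1, 6], none⟩,
  ⟨[0, 1, 2, 3, 6], [0, 1, 2, 0, 3, 1, 2, 0, 3, 2, 6], none⟩,
  ⟨[0, 3, 4, 6], [0, 3, 4, 3, 6], none⟩,
  ⟨[0, 2, 3, 4, 6], [0, 2, 0, 3, 2, 0, 4, 3, 2, 0, 6], none⟩,
  ⟨[1, 5, 6], [1, 5, 6, 5], none⟩,
  ⟨[1, 2, 5, 6], [1, 2, 5, 6, 5], none⟩,
  ⟨[1, 3, 5, 6], [1, 3, 1, 5, 6, 5], none⟩,
  ⟨[1, 2, 3, 5, 6], [1, 2, 3, 1, 2, 3, 5, 6, 5], none⟩,
  ⟨[1, 4, 5, 6], [1, 4, 5, 4, 6, 5, 4], none⟩,
  ⟨[1, 2, 4, 5, 6], [1, 2, 4, 5, 4, 6, 5, 4], none⟩,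
  ⟨[1, 3, 4, 5, 6], [1, 3, 1, 4, 3, 1, 5, 4, 3, 1, 6, 5, 4, 3, 1], none⟩,
  ⟨[0, 1, 2, 3, 4, 5, 6], [0, 1, 2, 0, 3, 1, 2, 0, 3, 2, 4, 3, 1, 2, 0, 3, 2, 4, 3, 1, 5, 4, 3, 1, 2, 0, 3, 2, 4, 3, 1, 5, 4, 3, 2, 0, 6, 5, 4, 3, 1, 2, 0, 3, 2, 4, 3, 1, 5, 4, 3, 2, 0, 6, 5, 4, 3, 1, 2, 3, 4, 5, 6], some ([], [])⟩]

theorem cases0_9_ok : cases0_9.Forall (CaseOKF chevE7 tab tau reps) := by
  decide +kernel

/-- Certificates. -/
def cases0 : List Case :=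
  [cases0_0, cases0_1, cases0_2, cases0_3, cases0_4, cases0_5, cases0_6, cases0_7, cases0_8, cases0_9].flatten

theorem cases0_ok : ∀ c ∈ cases0, CaseOK chevE7 adjE7 tau reps c := by
  intro c hc
  obtain ⟨L, hL, hcL⟩ := List.mem_flatten.1 hc
  simp only [List.mem_cons, List.not_mem_nil, or_false] at hL
  rcases hL with rfl | rfl | rfl | rfl | rfl | rfl | rfl | rfl | rfl | rfl
  · exact caseOK_of_F tabOK (List.forall_iff_forall_mem.1 cases0_0_ok c hcL)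
  · exact caseOK_of_F tabOK (List.forall_iff_forall_mem.1 cases0_1_ok c hcL)
  · exact caseOK_of_F tabOK (List.forall_iff_forall_mem.1 cases0_2_ok c hcL)
  · exact caseOK_of_F tabOK (List.forall_iff_forall_mem.1 cases0_3_ok c hcL)
  · exact caseOK_of_F tabOK (List.forall_iff_forall_mem.1 cases0_4_ok c hcL)
  · exact caseOK_of_F tabOK (List.forall_iff_forall_mem.1 cases0_5_ok c hcL)
  · exact caseOK_of_F tabOK (List.forall_iff_forall_mem.1 cases0_6_ok c hcL)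
  · exact caseOK_of_F tabOK (List.forall_iff_forall_mem.1 cases0_7_ok c hcL)
  · exact caseOK_of_F tabOK (List.forall_iff_forall_mem.1 cases0_8_ok c hcL)
  · exact caseOK_of_F tabOK (List.forall_iff_forall_mem.1 cases0_9_ok c hcL)

end Cfsg.Agent.ChevInvolution.E7
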