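import Cfsg.Agent.Lib.ChevCentralizer.E7Base
import Cfsg.Agent.Lib.ChevBN.RootTables

/-!
# Certificates for the involution classes of E7 in characteristic two
-/

set_option autoImplicit false
set_option maxRecDepth 100000
set_option synthInstance.maxSize 4000
set_option Elab.async false

namespace Cfsg.Agent.ChevInvolution.E7

open Cfsg.Lie Cfsg.Agent.ChevBN

/-- Certificates, part 0. -/
def cases1_0 : List Case := [
  ⟨[1], [1], some ([125, 92, 87, 63, 66, 73], [.swap 0, .swap 1, .swap 0, .swap 2, .swap 1, .swap 0, .swap 3, .swap 2, .swap 1, .swap 4, .swap 3, .swap 2, .n 0, .n 3, .n 1, .swap 2, .n 2, .n 3, .n 4, .n 5, .n 4, .n 3, .n 2, .swap 3, .n 1, .n 3, .n 0, .swap 1, .swap 0, .swap 2, .swap 1, .x 63, .swap 6, .swap 5, .swap 4, .swap 3, .swap 2, .swap 1, .cancel 0, .x 66, .swap 8, .swap 7, .swap 6, .swap 5, .swap 4, .swap 3, .swap 2, .swap 1, .cancel 0, .swap 3, .cancel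 4, .swap 5, .cancel 7, .x 73, .swap 7, .swap 6, .swap 5, .swap 4, .swap 3, .swap 2, .swap 1, .cancel 0, .swap 3, .swap 5, .swap 6, .swap 5, .swap 4, .swap 7, .swap 6, .cancel 5, .swap 6, .cancel 5, .x 107, .swap 0, .swap 1, .swap 2, .swap 3, .swap 6, .swap 5, .cancel 4, .cancel 5, .x 65, .swap 5, .swap 4, .swap 3, .swap 2, .swap 1, .cancel 0, .x 67, .swap 7, .swap 6, .swap 5, .swap 4, .swap 3, .swap 2, .swap 1, .cancel 0, .swap 1, .cancel 3, .swap 4, .cancel 5, .x 93, .swap 0, .swap 2, .swap 1, .swap 3, .swap 4, .swap 3, .swap 2, .swap 4, .swap 5, .swap 7, .swap 6, .cancel 5, .swap 6, .cancel 5, .swap 5, .swap 6, .swap 5, .swap 4, .cancel 3, .x 92, .swap 0, .swap 1, .swap 2, .swap 6, .swap 5, .swap 4, .cancel 3, .swap 4, .cancel 5, .n 5, .n 6, .swap 0, .n 5, .x 65, .swap 5, .swap 4, .swap 3, .swap 2, .swap 1, .cancel 0, .cancel 1, .n 4, .n 0, .swap 1, .swap 0, .n 2, .swap 2,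 .swap 1, .n 3, .n 1, .n 5, .n 6, .swap 2, .swap 1, .swap 0, .swap 2, .swap 1, .swap 2])⟩]

theorem cases1_0_ok : cases1_0.Forall (CaseOKF chevE7 tab tau reps) := by
  decide +kernel

/-- Certificates, part 1. -/
def cases1_1 : List Case := [
  ⟨[0], [0], some ([123, 114, 109, 63, 66, 78], [.swap 0, .swap 1, .swap 0, .swap 2, .swap 1, .swap 0, .swap 3, .swap 2, .swap 1, .swap 4, .swap 3, .swap 2, .x 65, .swap 0, .swap 6, .swap 5, .swap 4, .swap 3, .swap 2, .cancel 1, .x 67, .swap 0, .swap 2, .swap 1, .cancel 3, .swap 7, .swap 6, .swap 5, .swap 4, .swap 3, .cancel 2, .swap 4, .cancel 6, .x 110, .swap 0, .swap 2, .swap 1, .swap 3, .swap 5, .swap 4, .swap 3, .swap 2, .swap 6, .swap 5, .swap 4, .swap 3, .swap 7, .swap 6, .cancel 5, .swap 6, .cancel 5, .swap 6, .swap 5, .cancel 4, .x 68, .swap 0, .swap 1, .swap 6, .swap 5, .swap 4, .swap 3, .cancel 2, .cancel 4, .x 72, .swap 0, .swap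 1, .swap 5, .swap 4, .swap 3, .cancel 2, .x 81, .swap 0, .swap 2, .swap 1, .swap 3, .swap 2, .cancel 4, .swap 6, .swap 5, .swap 4, .cancel 3, .swap 4, .cancel 6, .x 115, .swap 0, .swap 2, .swap 1, .swap 3, .swap 2, .swap 4, .swap 6, .swap 5, .swap 4, .swap 3, .swap 7, .swap 6, .cancel 5, .swap 6, .cancel 5, .swap 5, .cancel 4, .x 82, .swap 0, .swap 1, .swap 2, .swap 5, .swap 4, .cancel 3, .cancel 4, .n 5, .n 3, .n 4, .n 2, .n 3, .n 1, .n 0, .swap 2, .swap 1, .n 2, .n 3, .n 0, .swap 1, .swap 0, .n 2, .swap 2, .swap 1, .n 4, .swap 2, .n 5, .n 6, .n 5, .n 4, .swap 2, .n 3, .n 1, .swap 2, .swap 1, .swap 0, .swap 2, .swap 1, .swap 2])⟩]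

theorem cases1_1_ok : cases1_1.Forall (CaseOKF chevE7 tab tau reps) := by
  decide +kernel

/-- Certificates, part 2. -/
def cases1_2 : List Case := [
  ⟨[4, 6], [4, 6], some ([125, 92, 87, 73, 78], [.swap 0, .swap 1, .swap 0, .swap 2, .swap 1, .swap 0, .swap 3, .swap 2, .swap 1, .n 0, .swap 0, .n 2, .x 73, .swap 5, .swap 4, .swap 3, .swap 2, .swap 1, .cancel 0, .x 87, .swap 0, .swap 7, .swap 6, .swap 5, .swap 4, .swap 3, .swap 2, .cancel 1, .swap 2, .cancel 4, .swap 5, .cancel 6, .x 92, .swap 0, .swap 6, .swap 5, .swap 4, .swap 3, .swap 2, .cancel 1, .swap 2, .swap 4, .swap 3, .swap 6, .swap 7, .swap 6, .cancel 5, .swap 6, .cancel 5, .x 109, .swap 0, .swap 1, .swap 2, .swap 3, .swap 4, .cancel 6, .cancel 5, .n 2, .swap 1, .x 73, .swap 5, .swap 4, .swap 3, .swap 2, .swap 1, .cancel 0, .cancel 2, .n 3, .n 4, .n 5, .n 6, .n 2, .n 3, .n 1, .swap 1, .n 4, .n 3, .n 2, .n 5, .n 4,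 .n 3, .n 1, .swap 2, .n 3, .n 2, .swap 1, .swap 2, .swap 1, .swap 0, .swap 2, .swap 1, .swap 2])⟩]

theorem cases1_2_ok : cases1_2.Forall (CaseOKF chevE7 tab tau reps) := by
  decide +kernel

/-- Certificates, part 3. -/
def cases1_3 : List Case := [
  ⟨[1, 5], [1, 5], some ([125, 89, 90, 68, 73], [.swap 0, .swap 1, .swap 2, .swap 1, .swap 0, .swap 3, .swap 2, .swap 1, .n 0, .n 2, .x 73, .swap 0, .swap 5, .swap 4, .swap 3, .swap 2, .cancel 1, .x 89, .swap 0, .swap 7, .swap 6, .swap 5, .swap 4, .swap 3, .swap 2, .cancel 1, .swap 2, .cancel 4, .swap 5, .cancel 6, .x 90, .swap 0, .swap 6, .swap 5, .swap 4, .swap 3, .swap 2, .cancel 1, .swap 2, .swap 4, .swap 3, .swap 6, .swap 7, .swap 6, .cancel 5, .swap 6, .cancel 5, .x 111, .swap 0, .swap 1, .swap 2, .swap 3, .swap 4, .cancel 6, .cancel 5, .n 2, .swap 1, .x 73, .swap 0, .swap 5, .swap 4, .swap 3, .swap 2, .cancel 1, .cancel 2,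 .n 3, .n 1, .n 2, .n 3, .n 4, .n 5, .n 3, .n 2, .n 4, .n 3, .n 1, .swap 2, .n 6, .n 3, .n 2, .swap 1, .swap 2, .swap 1, .swap 0, .swap 2, .swap 1, .swap 2])⟩]

theorem cases1_3_ok : cases1_3.Forall (CaseOKF chevE7 tab tau reps) := by
  decide +kernel

/-- Certificates, part 4. -/
def cases1_4 : List Case := [
  ⟨[1, 4, 6], [1, 4, 6], some ([125, 92, 87, 73], [.swap 0, .swap 1, .swap 0, .swap 2, .swap 1, .swap 0, .n 0, .n 2, .x 73, .swap 4, .swap 3, .swap 2, .swap 1, .cancel 0, .x 87, .swap 6, .swap 5, .swap 4, .swap 3, .swap 2, .swap 1, .cancel 0, .swap 1, .cancel 3, .swap 4, .cancel 5, .x 92, .swap 5, .swap 4, .swap 3, .swap 2, .swap 1, .cancel 0, .swap 1, .swap 3, .swap 2, .swap 5, .swap 6, .swap 5, .cancel 4, .swap 5, .cancel 4, .x 109, .swap 0, .swap 1, .swap 2, .swap 3, .cancel 5, .cancel 4, .n 2, .swap 0, .x 73, .swap 4, .swap 3, .swap 2, .swap 1, .cancel 0, .cancel 1,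 .n 3, .n 1, .n 4, .n 3, .n 2, .n 5, .n 4, .n 3, .n 1, .n 6, .n 5, .n 4, .n 3, .n 2, .n 3, .n 1, .swap 1, .n 5, .n 4, .n 3, .swap 0, .n 1, .swap 1, .swap 1, .swap 0, .swap 1])⟩]

theorem cases1_4_ok : cases1_4.Forall (CaseOKF chevE7 tab tau reps) := by
  decide +kernel

/-- Certificates, part 5. -/
def cases1_5 : List Case := [
  ⟨[2, 5], [2, 5], some ([125, 89, 90, 68, 78], [.swap 0, .swap 1, .swap 2, .swap 1, .swap 0, .swap 3, .swap 2, .swap 1, .n 0, .n 2, .n 3, .n 2, .n 0, .swap 1, .swap 0, .x 68, .swap 5, .swap 4, .swap 3, .swap 2, .swap 1, .cancel 0, .x 78, .swap 7, .swap 6, .swap 5, .swap 4, .swap 3, .swap 2, .swap 1, .cancel 0, .swap 2, .cancel 3, .swap 4, .cancel 6, .x 90, .swap 0, .swap 6, .swap 5, .swap 4, .swap 3, .swap 2, .cancel 1, .swap 2, .swap 4, .swap 5, .swap 4, .swap 3, .swap 6, .swap 5, .cancel 4, .swap 5, .cancel 4, .x 102, .swap 0, .swap 1, .swap 2, .swap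 5, .swap 4, .cancel 3, .cancel 4, .n 4, .n 5, .n 1, .swap 1, .n 3, .n 2, .n 4, .n 3, .n 1, .swap 2, .n 6, .n 3, .n 2, .swap 1, .swap 2, .swap 1, .swap 0, .swap 2, .swap 1, .swap 2])⟩]

theorem cases1_5_ok : cases1_5.Forall (CaseOKF chevE7 tab tau reps) := by
  decide +kernel

/-- Certificates, part 6. -/
def cases1_6 : List Case := [
  ⟨[0, 1, 4], [0, 1, 4], some ([123, 114, 109, 63], [.swap 0, .swap 1, .swap 0, .swap 2, .swap 1, .swap 0, .n 5, .n 4, .swap 1, .n 3, .n 1, .swap 2, .n 2, .n 0, .swap 0, .n 4, .n 3, .n 2, .swap 1, .n 0, .swap 0, .swap 2, .swap 1, .swap 0, .swap 2, .swap 1, .swap 2])⟩]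

theorem cases1_6_ok : cases1_6.Forall (CaseOKF chevE7 tab tau reps) := by
  decide +kernel

/-- Certificates, part 7. -/
def cases1_7 : List Case := [
  ⟨[1, 2, 5], [1, 2, 5], some ([125, 89, 90, 68], [.swap 0, .swap 1, .swap 2, .swap 1, .swap 0, .n 0, .n 2, .n 3, .n 1, .swap 2, .n 2, .n 0, .swap 0, .n 4, .n 3, .n 2, .swap 1, .n 0, .swap 0, .swap 2, .swap 1, .swap 0, .swap 2, .swap 1, .swap 2])⟩]

theorem cases1_7_ok : cases1_7.Forall (CaseOKF chevE7 tab tau reps) := by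
  decide +kernel

/-- Certificates, part 8. -/
def cases1_8 : List Case := [
  ⟨[0, 3, 6], [0, 3, 6], some ([118, 121, 109, 80], [.swap 1, .swap 0, .swap 2, .swap 1, .swap 0, .n 5, .n 6, .n 2, .n 0, .swap 0, .n 4, .n 3, .n 2, .swap 1, .n 0, .swap 0, .swap 2, .swap 1, .swap 0, .swap 2, .swap 1, .swap 2])⟩]

theorem cases1_8_ok : cases1_8.Forall (CaseOKF chevE7 tab tau reps) := by
  decide +kernel

/-- Certificates, part 9. -/
def cases1_9 : List Case := [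
  ⟨[1, 2, 4, 6], [1, 2, 4, 6], some ([125, 92, 87], [.swap 0, .swap 1, .swap 0, .n 0, .n 2, .n 3, .n 1, .swap 1, .n 5, .n 4, .n 3, .swap 0, .n 1, .swap 1, .swap 1, .swap 0, .swap 1])⟩]

theorem cases1_9_ok : cases1_9.Forall (CaseOKF chevE7 tab tau reps) := by
  decide +kernel

/-- Certificates, part 10. -/
def cases1_10 : List Case := [
  ⟨[0, 2], [0, 2, 0], none⟩,
  ⟨[0, 1, 3], [0, 1, 3, 1], none⟩,
  ⟨[0, 1, 2, 3], [0, 1, 2, 0, 3, 1, 2, 0, 3, 2], none⟩,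
  ⟨[0, 3, 4], [0, 3, 4, 3], none⟩,
  ⟨[0, 2, 3, 4], [0, 2, 0, 3, 2, 0, 4, 3, 2, 0], none⟩,
  ⟨[1, 3, 5], [1, 3, 1, 5], none⟩,
  ⟨[1, 2, 3, 5], [1, 2, 3, 1, 2, 3, 5], none⟩,
  ⟨[1, 4, 5], [1, 4, 5, 4], none⟩,
  ⟨[1, 2, 4, 5], [1, 2, 4, 5, 4], none⟩,
  ⟨[1, 3, 4, 5], [1, 3, 1, 4, 3, 1, 5, 4, 3, 1], none⟩,
  ⟨[1, 2, 3, 4, 5], [1, 2, 3, 1, 2, 3, 4, 3, 1, 2, 3, 4, 5, 4, 3, 1, 2, 3, 4, 5], none⟩,
  ⟨[1, 3, 6], [1, 3, 1, 6], none⟩,
  ⟨[1, 2, 3, 6], [1, 2, 3, 1, 2, 3, 6], none⟩,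
  ⟨[3, 4, 6], [3, 4, 3, 6], none⟩,
  ⟨[2, 3, 4, 6], [2, 3, 2, 4, 3, 2, 6], none⟩,
  ⟨[0, 5, 6], [0, 5, 6, 5], none⟩,
  ⟨[0, 2, 5, 6], [0, 2, 0, 5, 6, 5], none⟩,
  ⟨[0, 3, 5, 6], [0, 3, 5, 6, 5], none⟩,
  ⟨[0, 2, 3, 5, 6], [0, 2, 0, 3, 2, 0, 5, 6, 5], none⟩,
  ⟨[0, 4, 5, 6], [0, 4, 5, 4, 6, 5, 4], none⟩,
  ⟨[0, 2, 4, 5, 6], [0, 2, 0, 4, 5, 4, 6, 5, 4], none⟩,
  ⟨[0, 3, 4, 5, 6], [0, 3, 4, 3, 5, 4, 3, 6, 5, 4, 3], none⟩,
  ⟨[0, 2, 3, 4, 5, 6], [0, 2, 0, 3, 2, 0, 4, 3, 2, 0, 5, 4, 3, 2, 0, 6, 5, 4, 3, 2, 0], none⟩]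

theorem cases1_10_ok : cases1_10.Forall (CaseOKF chevE7 tab tau reps) := by
  decide +kernel

/-- Certificates. -/
def cases1 : List Case :=
  [cases1_0, cases1_1, cases1_2, cases1_3, cases1_4, cases1_5, cases1_6, cases1_7, cases1_8, cases1_9, cases1_10].flatten

theorem cases1_ok : ∀ c ∈ cases1, CaseOK chevE7 adjE7 tau reps c := by
  intro c hc
  obtain ⟨L, hL, hcL⟩ := List.mem_flatten.1 hc
  simp only [List.mem_cons, List.not_mem_nil, or_false] at hL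
  rcases hL with rfl | rfl | rfl | rfl | rfl | rfl | rfl | rfl | rfl | rfl | rfl
  · exact caseOK_of_F tabOK (List.forall_iff_forall_mem.1 cases1_0_ok c hcL)
  · exact caseOK_of_F tabOK (List.forall_iff_forall_mem.1 cases1_1_ok c hcL)
  · exact caseOK_of_F tabOK (List.forall_iff_forall_mem.1 cases1_2_ok c hcL)
  · exact caseOK_of_F tabOK (List.forall_iff_forall_mem.1 cases1_3_ok c hcL)
  · exact caseOK_of_F tabOK (List.forall_iff_forall_mem.1 cases1_4_ok c hcL)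
  · exact caseOK_of_F tabOK (List.forall_iff_forall_mem.1 cases1_5_ok c hcL)
  · exact caseOK_of_F tabOK (List.forall_iff_forall_mem.1 cases1_6_ok c hcL)
  · exact caseOK_of_F tabOK (List.forall_iff_forall_mem.1 cases1_7_ok c hcL)
  · exact caseOK_of_F tabOK (List.forall_iff_forall_mem.1 cases1_8_ok c hcL)
  · exact caseOK_of_F tabOK (List.forall_iff_forall_mem.1 cases1_9_ok c hcL)
  · exact caseOK_of_F tabOK (List.forall_iff_forall_mem.1 cases1_10_ok c hcL)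

end Cfsg.Agent.ChevInvolution.E7
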