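import Cfsg.Agent.Lib.ChevCentralizer.E7Base
import Cfsg.Agent.Lib.ChevBN.RootTables

/-!
# Certificates for the involution classes of E7 in characteristic two
-/

set_option autoImplicit false
set_option maxRecDepth 100000
set_option synthInstance.maxSize 4000
set_option Elab.async false

namespace Cfsg.Agent.ChevInvolution.E7

open Cfsg.Lie Cfsg.Agent.ChevBN

/-- Certificates, part 0. -/
def cases2_0 : List Case := [
  ⟨[3], [3], some ([125, 92, 75, 80, 83, 63], [.swap 0, .swap 1, .swap 0, .swap 2, .swap 1, .swap 3, .swap 2, .swap 4, .swap 3, .swap 2, .swap 1, .swap 0, .x 65, .swap 0, .swap 6, .swap 5, .swap 4, .swap 3, .swap 2, .cancel 1, .x 76, .swap 0, .swap 2, .swap 1, .cancel 3, .swap 7, .swap 6, .swap 5, .swap 4, .swap 3, .cancel 2, .swap 3, .swap 5, .swap 4, .cancel 6, .x 81, .swap 0, .swap 2, .swap 1, .swap 3, .swap 5, .swap 4, .swap 3, .swap 2, .swap 6, .swap 5,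 .cancel 4, .swap 5, .swap 4, .swap 6, .cancel 5, .swap 6, .swap 5, .swap 4, .cancel 3, .x 77, .swap 0, .swap 1, .swap 6, .swap 5, .swap 4, .swap 3, .cancel 2, .swap 3, .cancel 4, .n 0, .swap 1, .n 2, .n 3, .n 4, .n 5, .n 4, .n 3, .n 2, .n 0, .swap 1, .swap 0, .x 63, .swap 5, .swap 4, .swap 3, .swap 2, .swap 1, .cancel 0, .x 80, .swap 0, .swap 7, .swap 6, .swap 5, .swap 4, .swap 3, .swap 2, .cancel 1, .swap 2, .cancel 3, .swap 4, .cancel 6, .x 83, .swap 0, .swap 6, .swap 5, .swap 4, .swap 3, .swap 2, .cancel 1, .swap 2, .swap 4, .swap 5, .swap 4, .swap 3, .swap 6, .swap 5, .cancel 4, .swap 5, .cancel 4, .x 107, .swap 0, .swap 1, .swap 2, .swap 5, .swap 4, .cancel 3, .cancel 4, .n 1, .n 3, .n 2, .swap 2, .swap 1, .n 4, .swap 2, .n 5, .n 6, .n 5, .n 4, .swap 2, .n 3, .n 1, .n 0, .swap 0, .swap 2, .swap 1, .swap 0, .swap 2, .swap 1, .swap 2])⟩]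

theorem cases2_0_ok : cases2_0.Forall (CaseOKF chevE7 tab tau reps) := by
  decide +kernel

/-- Certificates, part 1. -/
def cases2_1 : List Case := [
  ⟨[6], [6], some ([125, 92, 87, 66, 73, 78], [.swap 0, .swap 1, .swap 0, .swap 2, .swap 1, .swap 0, .swap 3, .swap 2, .swap 1, .swap 4, .swap 3, .swap 2, .x 70, .swap 0, .swap 6, .swap 5, .swap 4, .swap 3, .swap 2, .cancel 1, .x 74, .swap 0, .swap 2, .swap 1, .cancel 3, .swap 7, .swap 6, .swap 5, .swap 4, .swap 3, .cancel 2, .swap 3, .cancel 5, .x 79, .swap 0, .swap 2, .swap 1, .swap 3, .swap 5, .swap 4, .swap 3, .swap 2, .swap 6, .swap 5, .cancel 4, .swap 5, .cancel 4, .swap 6, .swap 5, .swap 4, .cancel 3, .x 75, .swap 0, .swap 1, .swap 6, .swap 5, .swap 4, .swap 3, .cancel 2, .cancel 3, .n 0, .swap 1, .n 2, .n 3, .n 2, .n 0, .swap 1, .swap 0, .x 66, .swap 5, .swap 4, .swap 3, .swap 2, .swap 1, .cancel 0, .x 78, .swap 0,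 .swap 7, .swap 6, .swap 5, .swap 4, .swap 3, .swap 2, .cancel 1, .swap 2, .cancel 3, .swap 4, .cancel 6, .x 92, .swap 0, .swap 6, .swap 5, .swap 4, .swap 3, .swap 2, .cancel 1, .swap 2, .swap 4, .swap 5, .swap 4, .swap 3, .swap 6, .swap 5, .cancel 4, .swap 5, .cancel 4, .x 100, .swap 0, .swap 1, .swap 2, .swap 5, .swap 4, .cancel 3, .cancel 4, .n 1, .swap 1, .n 3, .n 4, .n 5, .n 6, .n 3, .n 1, .swap 1, .n 4, .n 3, .n 2, .n 5, .n 4, .n 3, .n 1, .swap 2, .n 3, .n 2, .swap 1, .n 0, .swap 0, .swap 2, .swap 1, .swap 0, .swap 2, .swap 1, .swap 2])⟩]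

theorem cases2_1_ok : cases2_1.Forall (CaseOKF chevE7 tab tau reps) := by
  decide +kernel

/-- Certificates, part 2. -/
def cases2_2 : List Case := [
  ⟨[3, 6], [3, 6], some ([125, 92, 75, 80, 83], [.swap 0, .swap 1, .swap 0, .swap 2, .swap 1, .swap 3, .swap 2, .n 0, .swap 0, .n 2, .n 3, .n 4, .n 3, .n 2, .x 75, .swap 5, .swap 4, .swap 3, .swap 2, .swap 1, .cancel 0, .x 83, .swap 0, .swap 7, .swap 6, .swap 5, .swap 4, .swap 3, .swap 2, .cancel 1, .swap 2, .cancel 4, .swap 5, .cancel 6, .x 92, .swap 0, .swap 6, .swap 5, .swap 4, .swap 3, .swap 2, .cancel 1, .swap 2, .swap 4, .swap 3, .swap 6, .swap 7, .swap 6, .cancel 5, .swap 6, .cancel 5, .x 109, .swap 0, .swap 1, .swap 2, .swap 3, .swap 4, .cancel 6, .cancel 5, .n 2, .n 3, .n 4, .swap 1, .n 3, .n 2, .x 75, .swap 5, .swap 4, .swap 3, .swap 2, .swap 1, .cancel 0, .cancel 2, .n 5, .n 6, .n 2, .n 3, .n 1, .swap 1, .n 4, .n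 3, .n 2, .n 5, .n 4, .n 3, .n 1, .swap 2, .n 3, .n 2, .swap 1, .swap 2, .swap 1, .swap 0, .swap 2, .swap 1, .swap 2])⟩]

theorem cases2_2_ok : cases2_2.Forall (CaseOKF chevE7 tab tau reps) := by
  decide +kernel

/-- Certificates, part 3. -/
def cases2_3 : List Case := [
  ⟨[1, 6], [1, 6], some ([125, 92, 87, 66, 73], [.swap 0, .swap 1, .swap 0, .swap 2, .swap 1, .swap 0, .swap 3, .swap 2, .swap 1, .n 0, .n 2, .x 73, .swap 0, .swap 5, .swap 4, .swap 3, .swap 2, .cancel 1, .x 87, .swap 0, .swap 7, .swap 6, .swap 5, .swap 4, .swap 3, .swap 2, .cancel 1, .swap 2, .cancel 4, .swap 5, .cancel 6, .x 92, .swap 0, .swap 6, .swap 5, .swap 4, .swap 3, .swap 2, .cancel 1, .swap 2, .swap 4, .swap 3, .swap 6, .swap 7, .swap 6, .cancel 5, .swap 6, .cancel 5, .x 109, .swap 0, .swap 1, .swap 2, .swap 3, .swap 4, .cancel 6, .cancel 5, .n 2, .swap 1, .x 73, .swap 0, .swap 5, .swap 4, .swap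 3, .swap 2, .cancel 1, .cancel 2, .n 3, .n 1, .n 2, .n 3, .n 4, .n 5, .n 6, .n 4, .n 3, .n 2, .n 5, .n 4, .n 3, .n 1, .swap 2, .n 3, .n 2, .swap 1, .swap 2, .swap 1, .swap 0, .swap 2, .swap 1, .swap 2])⟩]

theorem cases2_3_ok : cases2_3.Forall (CaseOKF chevE7 tab tau reps) := by
  decide +kernel

/-- Certificates, part 4. -/
def cases2_4 : List Case := [
  ⟨[0, 3], [0, 3], some ([118, 121, 109, 80, 63], [.swap 1, .swap 0, .swap 2, .swap 1, .swap 0, .swap 3, .swap 2, .swap 1, .swap 0, .x 65, .swap 0, .swap 5, .swap 4, .swap 3, .swap 2, .cancel 1, .x 81, .swap 0, .swap 2, .swap 1, .cancel 3, .swap 6, .swap 5, .swap 4, .swap 3, .cancel 2, .swap 3, .swap 5, .swap 4, .cancel 6, .x 110, .swap 0, .swap 2, .swap 1, .swap 3, .swap 5, .swap 4, .swap 3, .swap 2, .swap 6, .swap 5, .cancel 4, .swap 5, .swap 4, .swap 6, .cancel 5, .swap 5, .swap 4, .cancel 3, .x 82, .swap 0, .swap 1, .swap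 5, .swap 4, .swap 3, .cancel 2, .swap 3, .cancel 4, .n 5, .n 4, .n 3, .swap 2, .n 1, .swap 0, .n 2, .n 0, .swap 1, .swap 0, .n 3, .n 2, .n 4, .n 3, .n 1, .swap 2, .n 6, .n 3, .n 2, .swap 1, .swap 2, .swap 1, .swap 0, .swap 2, .swap 1, .swap 2])⟩]

theorem cases2_4_ok : cases2_4.Forall (CaseOKF chevE7 tab tau reps) := by
  decide +kernel

/-- Certificates, part 5. -/
def cases2_5 : List Case := [
  ⟨[1, 2], [1, 2], some ([125, 92, 87, 63, 66], [.swap 0, .swap 1, .swap 0, .swap 2, .swap 1, .swap 0, .swap 3, .swap 2, .swap 1, .x 65, .swap 0, .swap 5, .swap 4, .swap 3, .swap 2, .cancel 1, .x 67, .swap 0, .swap 2, .swap 1, .cancel 3, .swap 6, .swap 5, .swap 4, .swap 3, .cancel 2, .swap 3, .cancel 5, .x 88, .swap 0, .swap 2, .swap 1, .swap 3, .swap 5, .swap 4, .swap 3, .swap 2, .swap 6, .swap 5, .cancel 4, .swap 5, .cancel 4, .swap 5, .swap 4, .cancel 3, .x 68, .swap 0, .swap 1,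 .swap 5, .swap 4, .swap 3, .cancel 2, .cancel 3, .n 5, .n 4, .swap 0, .n 3, .n 1, .n 2, .n 0, .n 3, .n 2, .n 4, .swap 1, .n 3, .n 1, .swap 2, .n 6, .n 2, .n 0, .swap 0, .n 4, .n 3, .n 2, .swap 1, .n 0, .swap 0, .swap 2, .swap 1, .swap 0, .swap 2, .swap 1, .swap 2])⟩]

theorem cases2_5_ok : cases2_5.Forall (CaseOKF chevE7 tab tau reps) := by
  decide +kernel

/-- Certificates, part 6. -/
def cases2_6 : List Case := [
  ⟨[1, 2, 4], [1, 2, 4], some ([125, 92, 87, 63], [.swap 0, .swap 1, .swap 0, .swap 2, .swap 1, .swap 0, .n 0, .n 2, .n 5, .n 4, .swap 1, .n 3, .n 1, .swap 2, .n 2, .n 0, .swap 0, .n 4, .n 3, .n 2, .swap 1, .n 0, .swap 0, .swap 2, .swap 1, .swap 0, .swap 2, .swap 1, .swap 2])⟩]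

theorem cases2_6_ok : cases2_6.Forall (CaseOKF chevE7 tab tau reps) := by
  decide +kernel

/-- Certificates, part 7. -/
def cases2_7 : List Case := [
  ⟨[0, 1, 6], [0, 1, 6], some ([123, 114, 109, 66], [.swap 0, .swap 1, .swap 0, .swap 2, .swap 1, .swap 0, .n 3, .n 1, .swap 2, .n 5, .n 6, .n 2, .n 0, .swap 0, .n 4, .n 3, .n 2, .swap 1, .n 0, .swap 0, .swap 2, .swap 1, .swap 0, .swap 2, .swap 1, .swap 2])⟩]

theorem cases2_7_ok : cases2_7.Forall (CaseOKF chevE7 tab tau reps) := by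
  decide +kernel

/-- Certificates, part 8. -/
def cases2_8 : List Case := [
  ⟨[0, 4, 6], [0, 4, 6], some ([123, 114, 109, 78], [.swap 0, .swap 1, .swap 0, .swap 2, .swap 1, .swap 0, .n 3, .n 4, .n 5, .n 6, .n 2, .n 0, .swap 0, .n 4, .n 3, .n 2, .swap 1, .n 0, .swap 0, .swap 2, .swap 1, .swap 0, .swap 2, .swap 1, .swap 2])⟩]

theorem cases2_8_ok : cases2_8.Forall (CaseOKF chevE7 tab tau reps) := by
  decide +kernel

/-- Certificates, part 9. -/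
def cases2_9 : List Case := [
  ⟨[0, 1, 4, 6], [0, 1, 4, 6], some ([123, 114, 109], [.swap 0, .swap 1, .swap 0, .n 3, .n 1, .swap 1, .n 5, .n 4, .n 3, .swap 0, .n 1, .swap 1, .swap 1, .swap 0, .swap 1])⟩]

theorem cases2_9_ok : cases2_9.Forall (CaseOKF chevE7 tab tau reps) := by
  decide +kernel

/-- Certificates, part 10. -/
def cases2_10 : List Case := [
  ⟨[1, 2, 3, 4, 5, 6], [1, 2, 3, 1, 2, 3, 4, 3, 1, 2, 3, 4, 5, 4, 3, 1, 2, 3, 4, 5, 6, 5, 4, 3, 1, 2, 3, 4, 5, 6], some ([125], [])⟩,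
  ⟨[0, 2, 3], [0, 2, 0, 3, 2, 0], none⟩,
  ⟨[0, 1, 2, 4], [0, 1, 2, 0, 4], none⟩,
  ⟨[0, 1, 3, 4], [0, 1, 3, 1, 4, 3, 1], none⟩,
  ⟨[0, 2, 5], [0, 2, 0, 5], none⟩,
  ⟨[2, 3, 5], [2, 3, 2, 5], none⟩,
  ⟨[4, 5], [4, 5, 4], none⟩,
  ⟨[2, 4, 5], [2, 4, 5, 4], none⟩,
  ⟨[3, 4, 5], [3, 4, 3, 5, 4, 3], none⟩,
  ⟨[2, 3, 4, 5], [2, 3, 2, 4, 3, 2, 5, 4, 3, 2], none⟩,
  ⟨[0, 2, 6], [0, 2, 0, 6], none⟩,
  ⟨[2, 3, 6], [2, 3, 2, 6], none⟩,
  ⟨[0, 2, 4, 6], [0, 2, 0, 4, 6], none⟩,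
  ⟨[1, 3, 4, 6], [1, 3, 1, 4, 3, 1, 6], none⟩,
  ⟨[0, 1, 2, 3, 4, 6], [0, 1, 2, 0, 3, 1, 2, 0, 3, 2, 4, 3, 1, 2, 0, 3, 2, 4, 3, 1, 6], none⟩,
  ⟨[0, 1, 5, 6], [0, 1, 5, 6, 5], none⟩,
  ⟨[0, 1, 2, 5, 6], [0, 1, 2, 0, 5, 6, 5], none⟩,
  ⟨[0, 1, 3, 5, 6], [0, 1, 3, 1, 5, 6, 5], none⟩,
  ⟨[0, 1, 2, 3, 5, 6], [0, 1, 2, 0, 3, 1, 2, 0, 3, 2, 5, 6, 5], none⟩,
  ⟨[0, 1, 4, 5, 6], [0, 1, 4, 5, 4, 6, 5, 4], none⟩,
  ⟨[0, 1, 2, 4, 5, 6], [0, 1, 2, 0, 4, 5, 4, 6, 5, 4], none⟩,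
  ⟨[0, 1, 3, 4, 5, 6], [0, 1, 3, 1, 4, 3, 1, 5, 4, 3, 1, 6, 5, 4, 3, 1], none⟩]

theorem cases2_10_ok : cases2_10.Forall (CaseOKF chevE7 tab tau reps) := by
  decide +kernel

/-- Certificates. -/
def cases2 : List Case :=
  [cases2_0, cases2_1, cases2_2, cases2_3, cases2_4, cases2_5, cases2_6, cases2_7, cases2_8, cases2_9, cases2_10].flatten

theorem cases2_ok : ∀ c ∈ cases2, CaseOK chevE7 adjE7 tau reps c := by
  intro c hc
  obtain ⟨L, hL, hcL⟩ := List.mem_flatten.1 hc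
  simp only [List.mem_cons, List.not_mem_nil, or_false] at hL
  rcases hL with rfl | rfl | rfl | rfl | rfl | rfl | rfl | rfl | rfl | rfl | rfl
  · exact caseOK_of_F tabOK (List.forall_iff_forall_mem.1 cases2_0_ok c hcL)
  · exact caseOK_of_F tabOK (List.forall_iff_forall_mem.1 cases2_1_ok c hcL)
  · exact caseOK_of_F tabOK (List.forall_iff_forall_mem.1 cases2_2_ok c hcL)
  · exact caseOK_of_F tabOK (List.forall_iff_forall_mem.1 cases2_3_ok c hcL)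
  · exact caseOK_of_F tabOK (List.forall_iff_forall_mem.1 cases2_4_ok c hcL)
  · exact caseOK_of_F tabOK (List.forall_iff_forall_mem.1 cases2_5_ok c hcL)
  · exact caseOK_of_F tabOK (List.forall_iff_forall_mem.1 cases2_6_ok c hcL)
  · exact caseOK_of_F tabOK (List.forall_iff_forall_mem.1 cases2_7_ok c hcL)
  · exact caseOK_of_F tabOK (List.forall_iff_forall_mem.1 cases2_8_ok c hcL)
  · exact caseOK_of_F tabOK (List.forall_iff_forall_mem.1 cases2_9_ok c hcL)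
  · exact caseOK_of_F tabOK (List.forall_iff_forall_mem.1 cases2_10_ok c hcL)

end Cfsg.Agent.ChevInvolution.E7
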