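import Cfsg.Agent.Lib.ChevCentralizer.E7Base
import Cfsg.Agent.Lib.ChevBN.RootTables

/-!
# Certificates for the involution classes of E7 in characteristic two
-/

set_option autoImplicit false
set_option maxRecDepth 100000
set_option synthInstance.maxSize 4000
set_option Elab.async false

namespace Cfsg.Agent.ChevInvolution.E7

open Cfsg.Lie Cfsg.Agent.ChevBN

/-- Certificates, part 0. -/
def cases3_0 : List Case := [
  ⟨[4], [4], some ([125, 92, 87, 63, 73, 78], [.swap 0, .swap 1, .swap 0, .swap 2, .swap 1, .swap 0, .swap 3, .swap 2, .swap 1, .swap 4, .swap 3, .swap 2, .x 72, .swap 0, .swap 6, .swap 5, .swap 4, .swap 3, .swap 2, .cancel 1, .x 76, .swap 0, .swap 2, .swap 1, .cancel 3, .swap 7, .swap 6, .swap 5, .swap 4, .swap 3, .cancel 2, .swap 3, .swap 5, .cancel 6, .x 81, .swap 0, .swap 2, .swap 1, .swap 3, .swap 5, .swap 4, .swap 3, .swap 2, .swap 6, .swap 5, .cancel 4,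 .swap 5, .cancel 4, .swap 6, .swap 5, .swap 4, .cancel 3, .x 77, .swap 0, .swap 1, .swap 6, .swap 5, .swap 4, .swap 3, .cancel 2, .cancel 3, .n 0, .swap 1, .n 2, .n 3, .n 4, .n 5, .n 4, .n 3, .n 2, .n 0, .swap 1, .swap 0, .x 63, .swap 5, .swap 4, .swap 3, .swap 2, .swap 1, .cancel 0, .x 78, .swap 0, .swap 7, .swap 6, .swap 5, .swap 4, .swap 3, .swap 2, .cancel 1, .swap 2, .cancel 3, .swap 4, .cancel 6, .x 87, .swap 0, .swap 6, .swap 5, .swap 4, .swap 3, .swap 2, .cancel 1, .swap 2, .swap 4, .swap 5, .swap 4, .swap 3, .swap 6, .swap 5, .cancel 4, .swap 5, .cancel 4, .x 102, .swap 0, .swap 1, .swap 2, .swap 5, .swap 4, .cancel 3, .cancel 4, .n 1, .swap 1, .n 3, .n 4, .n 1, .n 3, .n 2, .swap 2, .swap 1, .n 5, .n 6, .n 5, .n 4, .swap 2, .n 3, .n 1, .n 0, .swap 0, .swap 2, .swap 1, .swap 0, .swap 2, .swap 1, .swap 2])⟩]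

theorem cases3_0_ok : cases3_0.Forall (CaseOKF chevE7 tab tau reps) := by
  decide +kernel

/-- Certificates, part 1. -/
def cases3_1 : List Case := [
  ⟨[2], [2], some ([125, 92, 87, 63, 66, 78], [.swap 0, .swap 1, .swap 0, .swap 2, .swap 1, .swap 0, .swap 3, .swap 2, .swap 1, .swap 4, .swap 3, .swap 2, .x 65, .swap 0, .swap 6, .swap 5, .swap 4, .swap 3, .swap 2, .cancel 1, .x 67, .swap 0, .swap 2, .swap 1, .cancel 3, .swap 7, .swap 6, .swap 5, .swap 4, .swap 3, .cancel 2, .swap 4, .cancel 6, .x 88, .swap 0, .swap 2, .swap 1, .swap 3, .swap 5, .swap 4, .swap 3, .swap 2, .swap 6, .swap 5, .swap 4, .swap 3, .swap 7, .swap 6, .cancel 5, .swap 6, .cancel 5, .swap 6, .swap 5, .cancel 4, .x 68, .swap 0, .swap 1, .swap 6, .swap 5, .swap 4, .swap 3, .cancel 2, .cancel 4, .n 0, .n 2, .n 3, .n 4, .n 5, .n 4, .n 3, .swap 0, .n 2, .n 0, .x 63, .swap 5, .swap 4, .swap 3, .swap 2, .swap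 1, .cancel 0, .x 78, .swap 0, .swap 7, .swap 6, .swap 5, .swap 4, .swap 3, .swap 2, .cancel 1, .swap 2, .cancel 3, .swap 4, .cancel 6, .x 87, .swap 0, .swap 6, .swap 5, .swap 4, .swap 3, .swap 2, .cancel 1, .swap 2, .swap 4, .swap 5, .swap 4, .swap 3, .swap 6, .swap 5, .cancel 4, .swap 5, .cancel 4, .x 102, .swap 0, .swap 1, .swap 2, .swap 5, .swap 4, .cancel 3, .cancel 4, .n 1, .swap 1, .n 3, .n 2, .n 1, .n 3, .n 4, .swap 2, .n 5, .n 6, .n 5, .n 4, .swap 2, .n 3, .n 1, .n 0, .swap 0, .swap 2, .swap 1, .swap 0, .swap 2, .swap 1, .swap 2])⟩]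

theorem cases3_1_ok : cases3_1.Forall (CaseOKF chevE7 tab tau reps) := by
  decide +kernel

/-- Certificates, part 2. -/
def cases3_2 : List Case := [
  ⟨[3, 5], [3, 5], some ([125, 90, 77, 82, 83], [.swap 0, .swap 1, .swap 0, .swap 2, .swap 1, .swap 3, .swap 2, .n 0, .swap 0, .n 2, .n 3, .n 4, .n 5, .n 6, .n 5, .n 4, .n 3, .n 2, .x 77, .swap 5, .swap 4, .swap 3, .swap 2, .swap 1, .cancel 0, .x 83, .swap 0, .swap 7, .swap 6, .swap 5, .swap 4, .swap 3, .swap 2, .cancel 1, .swap 2, .cancel 4, .swap 5, .cancel 6, .x 90, .swap 0, .swap 6, .swap 5, .swap 4, .swap 3, .swap 2, .cancel 1, .swap 2, .swap 4, .swap 3, .swap 6, .swap 7, .swap 6, .cancel 5, .swap 6, .cancel 5, .x 111, .swap 0, .swap 1, .swap 2, .swap 3, .swap 4, .cancel 6, .cancel 5, .n 2, .n 3, .n 4, .n 5, .n 6, .swap 1, .n 5, .n 4, .n 3, .n 2, .x 77, .swap 5, .swap 4, .swap 3, .swap 2, .swap 1, .cancel 0, .cancel 2,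 .n 2, .n 3, .n 1, .swap 1, .n 4, .n 3, .n 2, .n 5, .n 4, .n 3, .n 1, .swap 2, .n 3, .n 2, .swap 1, .swap 2, .swap 1, .swap 0, .swap 2, .swap 1, .swap 2])⟩]

theorem cases3_2_ok : cases3_2.Forall (CaseOKF chevE7 tab tau reps) := by
  decide +kernel

/-- Certificates, part 3. -/
def cases3_3 : List Case := [
  ⟨[0, 4], [0, 4], some ([123, 114, 109, 63, 78], [.swap 0, .swap 1, .swap 0, .swap 2, .swap 1, .swap 0, .swap 3, .swap 2, .swap 1, .x 72, .swap 0, .swap 5, .swap 4, .swap 3, .swap 2, .cancel 1, .swap 4, .x 81, .swap 0, .swap 2, .swap 1, .cancel 3, .swap 6, .swap 5, .swap 4, .swap 3, .cancel 2, .swap 3, .swap 4, .cancel 6, .x 115, .swap 0, .swap 2, .swap 1, .swap 3, .swap 5, .swap 4, .swap 3, .swap 2, .swap 6, .swap 5, .swap 4, .swap 3, .swap 7, .swap 6, .cancel 5, .swap 6, .cancel 5, .swap 5, .cancel 4, .x 82, .swap 0, .swap 1, .swap 5, .swap 4, .swap 3, .cancel 2, .swap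 3, .cancel 4, .n 3, .n 4, .n 5, .n 4, .n 3, .swap 2, .n 1, .swap 0, .n 2, .n 0, .swap 1, .swap 0, .n 3, .n 2, .n 4, .n 3, .n 1, .swap 2, .n 6, .n 3, .n 2, .swap 1, .swap 2, .swap 1, .swap 0, .swap 2, .swap 1, .swap 2])⟩]

theorem cases3_3_ok : cases3_3.Forall (CaseOKF chevE7 tab tau reps) := by
  decide +kernel

/-- Certificates, part 4. -/
def cases3_4 : List Case := [
  ⟨[2, 6], [2, 6], some ([125, 92, 87, 66, 78], [.swap 0, .swap 1, .swap 0, .swap 2, .swap 1, .swap 0, .swap 3, .swap 2, .swap 1, .n 0, .n 2, .n 3, .n 2, .n 0, .swap 1, .swap 0, .x 66, .swap 5, .swap 4, .swap 3, .swap 2, .swap 1, .cancel 0, .x 78, .swap 7, .swap 6, .swap 5, .swap 4, .swap 3, .swap 2, .swap 1, .cancel 0, .swap 2, .cancel 3, .swap 4, .cancel 6, .x 92, .swap 0, .swap 6, .swap 5, .swap 4, .swap 3, .swap 2, .cancel 1, .swap 2, .swap 4, .swap 5, .swap 4, .swap 3, .swap 6, .swap 5, .cancel 4, .swap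 5, .cancel 4, .x 100, .swap 0, .swap 1, .swap 2, .swap 5, .swap 4, .cancel 3, .cancel 4, .n 1, .swap 1, .n 4, .n 5, .n 6, .n 4, .n 3, .n 2, .n 5, .n 4, .n 3, .n 1, .swap 2, .n 3, .n 2, .swap 1, .swap 2, .swap 1, .swap 0, .swap 2, .swap 1, .swap 2])⟩]

theorem cases3_4_ok : cases3_4.Forall (CaseOKF chevE7 tab tau reps) := by
  decide +kernel

/-- Certificates, part 5. -/
def cases3_5 : List Case := [
  ⟨[0, 1], [0, 1], some ([123, 114, 109, 63, 66], [.swap 0, .swap 1, .swap 0, .swap 2, .swap 1, .swap 0, .swap 3, .swap 2, .swap 1, .x 65, .swap 0, .swap 5, .swap 4, .swap 3, .swap 2, .cancel 1, .x 67, .swap 0, .swap 2, .swap 1, .cancel 3, .swap 6, .swap 5, .swap 4, .swap 3, .cancel 2, .swap 3, .cancel 5, .x 110, .swap 0, .swap 2, .swap 1, .swap 3, .swap 5, .swap 4, .swap 3, .swap 2, .swap 6, .swap 5, .cancel 4, .swap 5, .cancel 4, .swap 5, .swap 4, .cancel 3, .x 68, .swap 0, .swap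 1, .swap 5, .swap 4, .swap 3, .cancel 2, .cancel 3, .n 5, .n 4, .swap 0, .n 3, .n 1, .swap 2, .n 2, .n 0, .n 3, .n 2, .n 4, .n 3, .swap 1, .n 1, .swap 2, .n 6, .n 2, .n 0, .swap 0, .n 3, .n 2, .swap 1, .swap 2, .swap 1, .swap 0, .swap 2, .swap 1, .swap 2])⟩]

theorem cases3_5_ok : cases3_5.Forall (CaseOKF chevE7 tab tau reps) := by
  decide +kernel

/-- Certificates, part 6. -/
def cases3_6 : List Case := [
  ⟨[0, 5], [0, 5], some ([123, 111, 112, 68, 78], [.swap 0, .swap 1, .swap 2, .swap 1, .swap 0, .swap 3, .swap 2, .swap 1, .x 72, .swap 0, .swap 5, .swap 4, .swap 3, .swap 2, .cancel 1, .x 79, .swap 0, .swap 2, .swap 1, .cancel 3, .swap 6, .swap 5, .swap 4, .swap 3, .cancel 2, .swap 4, .cancel 6, .x 115, .swap 0, .swap 2, .swap 1, .swap 3, .swap 5, .swap 4, .swap 3, .swap 2, .swap 6, .swap 5, .swap 4, .swap 3, .swap 7, .swap 6, .cancel 5, .swap 6, .cancel 5, .swap 5, .cancel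 4, .x 82, .swap 0, .swap 1, .swap 5, .swap 4, .swap 3, .cancel 2, .cancel 4, .n 3, .n 4, .n 5, .n 1, .swap 0, .n 2, .n 0, .swap 1, .swap 0, .n 3, .n 2, .n 4, .n 3, .n 1, .swap 2, .n 6, .n 3, .n 2, .swap 1, .swap 2, .swap 1, .swap 0, .swap 2, .swap 1, .swap 2])⟩]

theorem cases3_6_ok : cases3_6.Forall (CaseOKF chevE7 tab tau reps) := by
  decide +kernel

/-- Certificates, part 7. -/
def cases3_7 : List Case := [
  ⟨[1, 2, 3, 4], [1, 2, 3, 1, 2, 3, 4, 3, 1, 2, 3, 4], some ([125, 92, 63], [.swap 0, .swap 1, .swap 0, .n 0, .n 2, .n 3, .n 1, .swap 1, .n 5, .n 4, .n 3, .n 1, .n 2, .n 0, .swap 0, .n 3, .n 2, .swap 1, .swap 1, .swap 0, .swap 1])⟩]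

theorem cases3_7_ok : cases3_7.Forall (CaseOKF chevE7 tab tau reps) := by
  decide +kernel

/-- Certificates, part 8. -/
def cases3_8 : List Case := [
  ⟨[1, 2, 3, 4, 6], [1, 2, 3, 1, 2, 3, 4, 3, 1, 2, 3, 4, 6], some ([125, 92], [.swap 0, .n 0, .n 2, .n 3, .n 1, .swap 0, .swap 0])⟩]

theorem cases3_8_ok : cases3_8.Forall (CaseOKF chevE7 tab tau reps) := by
  decide +kernel

/-- Certificates, part 9. -/
def cases3_9 : List Case := [
  ⟨[1, 3], [1, 3, 1], none⟩,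
  ⟨[1, 2, 3], [1, 2, 3, 1, 2, 3], none⟩,
  ⟨[3, 4], [3, 4, 3], none⟩,
  ⟨[2, 3, 4], [2, 3, 2, 4, 3, 2], none⟩,
  ⟨[0, 1, 2, 5], [0, 1, 2, 0, 5], none⟩,
  ⟨[0, 2, 3, 5], [0, 2, 0, 3, 2, 0, 5], none⟩,
  ⟨[0, 4, 5], [0, 4, 5, 4], none⟩,
  ⟨[0, 2, 4, 5], [0, 2, 0, 4, 5, 4], none⟩,
  ⟨[0, 3, 4, 5], [0, 3, 4, 3, 5, 4, 3], none⟩,
  ⟨[0, 2, 3, 4, 5], [0, 2, 0, 3, 2, 0, 4, 3, 2, 0, 5, 4, 3, 2, 0], none⟩,
  ⟨[0, 1, 2, 6], [0, 1, 2, 0, 6], none⟩,
  ⟨[0, 2, 3, 6], [0, 2, 0, 3, 2, 0, 6], none⟩,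
  ⟨[0, 1, 2, 4, 6], [0, 1, 2, 0, 4, 6], none⟩,
  ⟨[0, 1, 3, 4, 6], [0, 1, 3, 1, 4, 3, 1, 6], none⟩,
  ⟨[5, 6], [5, 6, 5], none⟩,
  ⟨[2, 5, 6], [2, 5, 6, 5], none⟩,
  ⟨[3, 5, 6], [3, 5, 6, 5], none⟩,
  ⟨[2, 3, 5, 6], [2, 3, 2, 5, 6, 5], none⟩,
  ⟨[4, 5, 6], [4, 5, 4, 6, 5, 4], none⟩,
  ⟨[2, 4, 5, 6], [2, 4, 5, 4, 6, 5, 4], none⟩,
  ⟨[3, 4, 5, 6], [3, 4, 3, 5, 4, 3, 6, 5, 4, 3], none⟩,
  ⟨[2, 3, 4, 5, 6], [2, 3, 2, 4, 3, 2, 5, 4, 3, 2, 6, 5, 4, 3, 2], none⟩]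

theorem cases3_9_ok : cases3_9.Forall (CaseOKF chevE7 tab tau reps) := by
  decide +kernel

/-- Certificates. -/
def cases3 : List Case :=
  [cases3_0, cases3_1, cases3_2, cases3_3, cases3_4, cases3_5, cases3_6, cases3_7, cases3_8, cases3_9].flatten

theorem cases3_ok : ∀ c ∈ cases3, CaseOK chevE7 adjE7 tau reps c := by
  intro c hc
  obtain ⟨L, hL, hcL⟩ := List.mem_flatten.1 hc
  simp only [List.mem_cons, List.not_mem_nil, or_false] at hL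
  rcases hL with rfl | rfl | rfl | rfl | rfl | rfl | rfl | rfl | rfl | rfl
  · exact caseOK_of_F tabOK (List.forall_iff_forall_mem.1 cases3_0_ok c hcL)
  · exact caseOK_of_F tabOK (List.forall_iff_forall_mem.1 cases3_1_ok c hcL)
  · exact caseOK_of_F tabOK (List.forall_iff_forall_mem.1 cases3_2_ok c hcL)
  · exact caseOK_of_F tabOK (List.forall_iff_forall_mem.1 cases3_3_ok c hcL)
  · exact caseOK_of_F tabOK (List.forall_iff_forall_mem.1 cases3_4_ok c hcL)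
  · exact caseOK_of_F tabOK (List.forall_iff_forall_mem.1 cases3_5_ok c hcL)
  · exact caseOK_of_F tabOK (List.forall_iff_forall_mem.1 cases3_6_ok c hcL)
  · exact caseOK_of_F tabOK (List.forall_iff_forall_mem.1 cases3_7_ok c hcL)
  · exact caseOK_of_F tabOK (List.forall_iff_forall_mem.1 cases3_8_ok c hcL)
  · exact caseOK_of_F tabOK (List.forall_iff_forall_mem.1 cases3_9_ok c hcL)

end Cfsg.Agent.ChevInvolution.E7
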