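import Cfsg.Agent.Lib.ChevCentralizer.E7Cases0
import Cfsg.Agent.Lib.ChevCentralizer.E7Cases1
import Cfsg.Agent.Lib.ChevCentralizer.E7Cases2
import Cfsg.Agent.Lib.ChevCentralizer.E7Cases3
import Cfsg.Agent.Lib.ChevCentralizer.Distinct
import Cfsg.Agent.Lib.ChevBN.RootTables

/-!
# Certificates for the involution classes of E7 in characteristic two
-/

set_option autoImplicit false
set_option maxRecDepth 100000
set_option synthInstance.maxSize 4000
set_option Elab.async false

namespace Cfsg.Agent.ChevInvolution.E7

open Cfsg.Lie Cfsg.Agent.ChevBN

/-- All certificates. -/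
def cases : List Case := cases0 ++ cases1 ++ cases2 ++ cases3

theorem cases_ok : ∀ c ∈ cases, CaseOK chevE7 adjE7 tau reps c := by
  intro c hc
  simp only [cases, List.mem_append, or_assoc] at hc
  rcases hc with h | h | h | h
  exacts [cases0_ok c h, cases1_ok c h, cases2_ok c h, cases3_ok c h]

theorem cover : ∀ K ∈ (List.range chevE7.rank).sublists, K ∈ cases.map (·.K) := by
  decide +kernel

/-- Support of representative 0. -/
def supp0 : List ℕ := [125]

theorem supp0_ok : Supp chevE7 [125] supp0 := by
  constructor <;> decide +kernel

/-- Support of representative 1. -/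
def supp1 : List ℕ := [118, 121, 122, 123, 124, 125]

theorem supp1_ok : Supp chevE7 [121, 118] supp1 := by
  constructor <;> decide +kernel

/-- Support of representative 2. -/
def supp2 : List ℕ := [92, 107, 108, 111, 113, 114, 116, 117, 118, 120, 121, 122, 123, 124, 125]

theorem supp2_ok : Supp chevE7 [111, 107, 92] supp2 := by
  constructor <;> decide +kernel

/-- Support of representative 3. -/
def supp3 : List ℕ := [114, 116, 117, 118, 119, 120, 121, 122, 123, 124, 125]

theorem supp3_ok : Supp chevE7 [119, 116, 114] supp3 := by
  constructor <;> decide +kernel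

/-- Support of representative 4. -/
def supp4 : List ℕ := [92, 107, 108, 111, 113, 114, 116, 117, 118, 119, 120, 121, 122, 123, 124, 125]

theorem supp4_ok : Supp chevE7 [119, 111, 107, 92] supp4 := by
  constructor <;> decide +kernel

theorem sep10 : Separated chevE7 [121, 118] supp0 := by
  unfold Separated
  decide +kernel

theorem sep20 : Separated chevE7 [111, 107, 92] supp0 := by
  unfold Separated
  decide +kernel

theorem sep21 : Separated chevE7 [111, 107, 92] supp1 := by
  unfold Separated
  decide +kernel

theorem sep30 : Separated chevE7 [119, 116, 114] supp0 := by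
  unfold Separated
  decide +kernel

theorem sep31 : Separated chevE7 [119, 116, 114] supp1 := by
  unfold Separated
  decide +kernel

theorem sep23 : Separated chevE7 [111, 107, 92] supp3 := by
  unfold Separated
  decide +kernel

theorem sep40 : Separated chevE7 [119, 111, 107, 92] supp0 := by
  unfold Separated
  decide +kernel

theorem sep41 : Separated chevE7 [119, 111, 107, 92] supp1 := by
  unfold Separated
  decide +kernel

theorem sep42 : Separated chevE7 [119, 111, 107, 92] supp2 := by
  unfold Separated
  decide +kernel

theorem sep43 : Separated chevE7 [119, 111, 107, 92] supp3 := by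
  unfold Separated
  decide +kernel

end Cfsg.Agent.ChevInvolution.E7
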