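import Cfsg.Agent.Lib.ChevCentralizer.E8Base
import Cfsg.Agent.Lib.ChevBN.RootTables

/-!
# Certificates for the involution classes of E8 in characteristic two
-/

set_option autoImplicit false
set_option maxRecDepth 100000
set_option synthInstance.maxSize 4000
set_option Elab.async false

namespace Cfsg.Agent.ChevInvolution.E8

open Cfsg.Lie Cfsg.Agent.ChevBN

/-- Certificates, part 0. -/
def cases0_0 : List Case := [
  ⟨[], [], some ([239, 226, 159, 152, 121, 126, 135, 141], [.swap 0, .swap 1, .swap 0, .swap 2, .swap 1, .swap 0, .swap 3, .swap 2, .swap 1, .swap 0, .swap 4, .swap 3, .swap 2, .swap 1, .swap 5, .swap 4, .swap 3, .swap 2, .swap 6, .swap 5, .swap 4, .swap 3, .n 0, .swap 2, .n 3, .n 1, .swap 1, .swap 3, .n 2, .n 3, .n 4, .n 5, .n 4, .n 3, .n 2, .swap 0, .swap 4, .n 1, .n 3, .n 0, .swap 2, .swap 1, .swap 3, .swap 2, .x 121, .swap 8, .swap 7, .swap 6, .swap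 5, .swap 4, .swap 3, .swap 2, .swap 1, .cancel 0, .x 126, .swap 10, .swap 9, .swap 8, .swap 7, .swap 6, .swap 5, .swap 4, .swap 3, .swap 2, .swap 1, .cancel 0, .swap 4, .cancel 5, .swap 6, .cancel 8, .x 135, .swap 9, .swap 8, .swap 7, .swap 6, .swap 5, .swap 4, .swap 3, .swap 2, .swap 1, .cancel 0, .swap 4, .swap 6, .swap 7, .swap 6, .swap 5, .swap 8, .swap 7, .cancel 6, .swap 7, .cancel 6, .x 179, .swap 0, .swap 1, .swap 2, .swap 3, .swap 4, .swap 8, .swap 7, .swap 6, .cancel 5, .cancel 6, .n 0, .swap 2, .swap 1, .swap 3, .swap 2, .n 2, .swap 4, .swap 3, .n 3, .n 4, .n 5, .n 6, .n 7, .n 6, .n 5, .n 4, .n 3, .n 2, .n 0, .n 1, .x 141, .swap 7, .swap 6, .swap 5, .swap 4, .swap 3, .swap 2, .swap 1, .cancel 0, .x 152, .swap 9, .swap 8, .swap 7, .swap 6, .swap 5, .swap 4, .swap 3, .swap 2, .swap 1, .cancel 0, .swap 1, .swap 3, .swap 2, .swap 4, .swap 3, .swap 5, .swap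 4, .cancel 6, .swap 7, .cancel 8, .x 159, .swap 8, .swap 7, .swap 6, .swap 5, .swap 4, .swap 3, .swap 2, .swap 1, .cancel 0, .swap 1, .swap 3, .swap 2, .swap 4, .swap 3, .swap 5, .swap 4, .swap 6, .swap 5, .swap 8, .swap 9, .swap 8, .cancel 7, .swap 8, .cancel 7, .x 206, .swap 0, .swap 1, .swap 2, .swap 3, .swap 4, .swap 5, .swap 6, .cancel 8, .cancel 7, .n 1, .swap 0, .x 141, .swap 7, .swap 6, .swap 5, .swap 4, .swap 3, .swap 2, .swap 1, .cancel 0, .cancel 1, .x 129, .swap 6, .swap 5, .swap 4, .swap 3, .swap 2, .swap 1, .cancel 0, .swap 2, .x 145, .swap 8, .swap 7, .swap 6, .swap 5, .swap 4, .swap 3, .swap 2, .swap 1, .cancel 0, .swap 1, .swap 2, .cancel 3, .swap 4, .swap 6, .swap 5, .cancel 7, .x 149, .swap 7, .swap 6, .swap 5, .swap 4, .swap 3, .swap 2, .swap 1, .cancel 0, .swap 1, .swap 3, .swap 4, .swap 3, .swap 2, .swap 5, .swap 4, .swap 3, .swap 6, .swap 5,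 .cancel 4, .swap 5, .swap 4, .swap 6, .cancel 5, .x 183, .swap 0, .swap 1, .swap 2, .swap 6, .swap 5, .swap 4, .cancel 3, .swap 4, .cancel 5, .x 122, .swap 5, .swap 4, .swap 3, .swap 2, .swap 1, .cancel 0, .x 143, .swap 7, .swap 6, .swap 5, .swap 4, .swap 3, .swap 2, .swap 1, .cancel 0, .swap 1, .swap 2, .cancel 3, .swap 4, .cancel 6, .x 147, .swap 6, .swap 5, .swap 4, .swap 3, .swap 2, .swap 1, .cancel 0, .swap 1, .swap 2, .swap 4, .swap 5, .swap 4, .swap 3, .swap 6, .swap 5, .cancel 4, .swap 5, .cancel 4, .x 180, .swap 0, .swap 1, .swap 2, .swap 5, .swap 4, .cancel 3, .cancel 4, .n 1, .n 2, .swap 2, .swap 1, .n 3, .swap 0, .n 4, .n 3, .swap 2, .n 1, .n 2, .swap 1, .swap 0, .n 3, .n 5, .n 6, .n 7, .n 4, .n 5, .n 6, .n 4, .n 3, .n 1, .swap 2, .swap 1, .n 2, .n 3, .swap 0, .n 4, .n 5, .n 4, .n 3, .swap 2, .n 1, .swap 1, .swap 0, .n 2, .n 0, .n 3, .n 2, .n 4, .n 3,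 .n 1, .swap 2, .swap 1, .swap 0, .swap 2, .swap 1])⟩]

theorem cases0_0_ok : cases0_0.Forall (CaseOKF chevE8 tab tau reps) := by
  decide +kernel

/-- Certificates, part 1. -/
def cases0_1 : List Case := [
  ⟨[3, 6], [3, 6], some ([239, 226, 159, 137, 143, 147], [.swap 0, .swap 1, .swap 0, .swap 2, .swap 1, .swap 0, .swap 3, .swap 2, .swap 1, .swap 4, .swap 3, .swap 2, .x 140, .swap 0, .swap 6, .swap 5, .swap 4, .swap 3, .swap 2, .cancel 1, .swap 2, .x 146, .swap 0, .swap 2, .swap 1, .swap 3, .cancel 4, .swap 7, .swap 6, .swap 5, .swap 4, .swap 3, .cancel 2, .swap 5, .cancel 7, .x 229, .swap 0, .swap 2, .swap 1, .swap 3, .swap 5, .swap 4, .swap 3, .swap 2, .swap 6, .swap 5, .swap 4, .swap 3, .swap 7, .swap 6, .swap 5, .swap 4, .swap 8, .swap 7, .cancel 6, .swap 7, .cancel 6, .swap 6, .cancel 5, .x 158, .swap 0, .swap 1, .swap 2, .swap 6, .swap 5, .swap 4, .cancel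 3, .cancel 5, .n 0, .swap 0, .n 2, .n 3, .n 4, .n 3, .n 2, .x 137, .swap 5, .swap 4, .swap 3, .swap 2, .swap 1, .cancel 0, .x 147, .swap 0, .swap 7, .swap 6, .swap 5, .swap 4, .swap 3, .swap 2, .cancel 1, .swap 2, .cancel 4, .swap 5, .cancel 6, .x 159, .swap 0, .swap 6, .swap 5, .swap 4, .swap 3, .swap 2, .cancel 1, .swap 2, .swap 4, .swap 3, .swap 6, .swap 7, .swap 6, .cancel 5, .swap 6, .cancel 5, .x 184, .swap 0, .swap 1, .swap 2, .swap 3, .swap 4, .cancel 6, .cancel 5, .n 2, .n 3, .n 4, .swap 1, .n 3, .n 2, .x 137, .swap 5, .swap 4, .swap 3, .swap 2, .swap 1, .cancel 0, .cancel 2, .n 5, .n 6, .n 7, .n 2, .n 3, .n 1, .swap 1, .n 4, .n 3, .n 2, .n 5, .n 6, .n 4, .n 5, .n 3, .n 4, .n 1, .swap 2, .n 3, .n 2, .n 0, .n 1, .n 3, .n 2, .swap 0, .n 4, .n 3, .n 1, .n 5, .n 4, .n 3, .n 2, .swap 1, .n 6, .n 5, .n 4, .n 3, .n 1, .n 4, .n 3, .swap 0, .swap 2, .swap 1, .swap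 0, .swap 2, .swap 1])⟩]

theorem cases0_1_ok : cases0_1.Forall (CaseOKF chevE8 tab tau reps) := by
  decide +kernel

/-- Certificates, part 2. -/
def cases0_2 : List Case := [
  ⟨[0, 1], [0, 1], some ([239, 214, 191, 184, 121, 126], [.swap 0, .swap 1, .swap 0, .swap 2, .swap 1, .swap 0, .swap 3, .swap 2, .swap 1, .swap 0, .swap 4, .swap 3, .swap 2, .swap 1, .x 124, .swap 0, .swap 6, .swap 5, .swap 4, .swap 3, .swap 2, .cancel 1, .x 127, .swap 0, .swap 2, .swap 1, .cancel 3, .swap 7, .swap 6, .swap 5, .swap 4, .swap 3, .cancel 2, .swap 3, .cancel 5, .x 185, .swap 0, .swap 2, .swap 1, .swap 3, .swap 5, .swap 4, .swap 3, .swap 2, .swap 6, .swap 5, .cancel 4, .swap 5, .cancel 4, .swap 6, .swap 5, .swap 4, .cancel 3, .x 128, .swap 0, .swap 1, .swap 6, .swap 5, .swap 4, .swap 3, .cancel 2, .cancel 3, .x 129, .swap 0, .swap 1, .swap 5, .swap 4, .swap 3, .cancel 2, .x 187,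 .swap 0, .swap 1, .swap 3, .swap 2, .cancel 4, .swap 6, .swap 5, .swap 4, .cancel 3, .swap 4, .cancel 6, .x 217, .swap 0, .swap 1, .swap 3, .swap 2, .swap 4, .swap 6, .swap 5, .swap 4, .swap 3, .swap 7, .swap 6, .cancel 5, .swap 6, .cancel 5, .swap 5, .cancel 4, .x 190, .swap 0, .swap 1, .swap 2, .swap 5, .swap 4, .cancel 3, .cancel 4, .n 5, .n 7, .n 6, .n 4, .swap 0, .n 3, .n 1, .swap 2, .n 2, .n 0, .n 3, .n 2, .n 4, .n 5, .n 3, .swap 1, .n 4, .n 1, .swap 2, .n 3, .n 2, .n 0, .n 1, .n 3, .n 2, .n 4, .n 3, .n 1, .n 5, .n 4, .n 3, .n 2, .swap 1, .n 7, .n 6, .n 5, .n 4, .n 3, .n 1, .n 5, .n 4, .n 3, .swap 0, .n 2, .swap 1, .swap 2, .swap 1, .swap 0, .swap 2, .swap 1])⟩]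

theorem cases0_2_ok : cases0_2.Forall (CaseOKF chevE8 tab tau reps) := by
  decide +kernel

/-- Certificates, part 3. -/
def cases0_3 : List Case := [
  ⟨[1, 4, 7], [1, 4, 7], some ([237, 228, 161, 152, 135], [.swap 0, .swap 1, .swap 0, .swap 2, .swap 1, .swap 0, .swap 3, .swap 2, .swap 1, .swap 0, .n 0, .n 2, .x 135, .swap 5, .swap 4, .swap 3, .swap 2, .swap 1, .cancel 0, .x 152, .swap 7, .swap 6, .swap 5, .swap 4, .swap 3, .swap 2, .swap 1, .cancel 0, .swap 1, .cancel 3, .swap 4, .cancel 5, .x 161, .swap 6, .swap 5, .swap 4, .swap 3, .swap 2, .swap 1, .cancel 0, .swap 1, .swap 3, .swap 2, .swap 5, .swap 6, .swap 5, .cancel 4, .swap 5, .cancel 4, .x 184, .swap 0, .swap 1, .swap 2, .swap 3, .cancel 5, .swap 5, .cancel 4, .n 2, .swap 0, .x 135, .swap 5, .swap 4, .swap 3, .swap 2, .swap 1, .cancel 0, .cancel 1, .n 3, .n 1, .n 4, .n 3, .n 2, .n 5, .n 4, .n 3, .n 1,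 .n 6, .n 5, .n 4, .n 3, .n 2, .n 7, .n 6, .n 5, .n 4, .n 3, .n 1, .n 4, .n 3, .n 2, .swap 1, .n 0, .swap 2, .n 6, .n 5, .n 4, .n 3, .swap 0, .n 2, .swap 1, .n 0, .swap 2, .swap 2, .swap 1, .swap 0, .swap 2, .swap 1])⟩]

theorem cases0_3_ok : cases0_3.Forall (CaseOKF chevE8 tab tau reps) := by
  decide +kernel

/-- Certificates, part 4. -/
def cases0_4 : List Case := [
  ⟨[0, 1, 5], [0, 1, 5], some ([239, 214, 186, 188, 128], [.swap 0, .swap 1, .swap 0, .swap 2, .swap 1, .swap 3, .swap 2, .swap 1, .swap 0, .x 129, .swap 0, .swap 5, .swap 4, .swap 3, .swap 2, .cancel 1, .swap 2, .x 187, .swap 0, .swap 2, .swap 1, .swap 3, .cancel 4, .swap 6, .swap 5, .swap 4, .swap 3, .cancel 2, .swap 4, .cancel 6, .x 215, .swap 0, .swap 2, .swap 1, .swap 3, .swap 5, .swap 4, .swap 3, .swap 2, .swap 6, .swap 5, .swap 4, .swap 3, .swap 7, .swap 6, .cancel 5, .swap 6, .cancel 5, .swap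 5, .cancel 4, .x 193, .swap 0, .swap 1, .swap 2, .swap 5, .swap 4, .cancel 3, .cancel 4, .n 7, .n 6, .n 5, .n 3, .n 4, .n 1, .swap 2, .n 3, .n 2, .n 0, .n 1, .n 3, .n 2, .n 4, .n 3, .n 1, .n 5, .n 4, .n 3, .n 2, .n 6, .n 5, .n 4, .n 3, .n 1, .n 3, .n 2, .swap 1, .n 5, .n 4, .n 3, .swap 0, .n 2, .swap 1, .swap 2, .swap 1, .swap 0, .swap 2, .swap 1])⟩]

theorem cases0_4_ok : cases0_4.Forall (CaseOKF chevE8 tab tau reps) := by
  decide +kernel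

/-- Certificates, part 5. -/
def cases0_5 : List Case := [
  ⟨[1, 4, 5], [1, 4, 5, 4], none⟩,
  ⟨[0, 3, 4, 5], [0, 3, 4, 3, 5, 4, 3], none⟩,
  ⟨[0, 1, 2, 6], [0, 1, 2, 0, 6], none⟩,
  ⟨[0, 1, 2, 4, 6], [0, 1, 2, 0, 4, 6], none⟩,
  ⟨[5, 6], [5, 6, 5], none⟩,
  ⟨[3, 5, 6], [3, 5, 6, 5], none⟩,
  ⟨[4, 5, 6], [4, 5, 4, 6, 5, 4], none⟩,
  ⟨[3, 4, 5, 6], [3, 4, 3, 5, 4, 3, 6, 5, 4, 3], none⟩,
  ⟨[0, 1, 3, 7], [0, 1, 3, 1, 7], none⟩,
  ⟨[0, 1, 3, 4, 7], [0, 1, 3, 1, 4, 3, 1, 7], none⟩,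
  ⟨[1, 2, 3, 5, 7], [1, 2, 3, 1, 2, 3, 5, 7], none⟩,
  ⟨[3, 4, 5, 7], [3, 4, 3, 5, 4, 3, 7], none⟩,
  ⟨[1, 6, 7], [1, 6, 7, 6], none⟩,
  ⟨[2, 3, 6, 7], [2, 3, 2, 6, 7, 6], none⟩,
  ⟨[1, 2, 4, 6, 7], [1, 2, 4, 6, 7, 6], none⟩,
  ⟨[5, 6, 7], [5, 6, 5, 7, 6, 5], none⟩,
  ⟨[1, 3, 5, 6, 7], [1, 3, 1, 5, 6, 5, 7, 6, 5], none⟩,
  ⟨[2, 4, 5, 6, 7], [2, 4, 5, 4, 6, 5, 4, 7, 6, 5, 4], none⟩,
  ⟨[1, 2, 3, 4, 5, 6, 7], [1, 2, 3, 1, 2, 3, 4, 3, 1, 2, 3, 4, 5, 4, 3, 1, 2, 3, 4, 5, 6, 5, 4, 3, 1, 2, 3, 4, 5, 6, 7, 6, 5, 4, 3, 1, 2, 3, 4, 5, 6, 7], none⟩]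

theorem cases0_5_ok : cases0_5.Forall (CaseOKF chevE8 tab tau reps) := by
  decide +kernel

/-- Certificates. -/
def cases0 : List Case :=
  [cases0_0, cases0_1, cases0_2, cases0_3, cases0_4, cases0_5].flatten

theorem cases0_ok : ∀ c ∈ cases0, CaseOK chevE8 adjE8 tau reps c := by
  intro c hc
  obtain ⟨L, hL, hcL⟩ := List.mem_flatten.1 hc
  simp only [List.mem_cons, List.not_mem_nil, or_false] at hL
  rcases hL with rfl | rfl | rfl | rfl | rfl | rfl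
  · exact caseOK_of_F tabOK (List.forall_iff_forall_mem.1 cases0_0_ok c hcL)
  · exact caseOK_of_F tabOK (List.forall_iff_forall_mem.1 cases0_1_ok c hcL)
  · exact caseOK_of_F tabOK (List.forall_iff_forall_mem.1 cases0_2_ok c hcL)
  · exact caseOK_of_F tabOK (List.forall_iff_forall_mem.1 cases0_3_ok c hcL)
  · exact caseOK_of_F tabOK (List.forall_iff_forall_mem.1 cases0_4_ok c hcL)
  · exact caseOK_of_F tabOK (List.forall_iff_forall_mem.1 cases0_5_ok c hcL)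

end Cfsg.Agent.ChevInvolution.E8
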