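import Cfsg.Agent.Lib.ChevCentralizer.E8Base
import Cfsg.Agent.Lib.ChevBN.RootTables

/-!
# Certificates for the involution classes of E8 in characteristic two
-/

set_option autoImplicit false
set_option maxRecDepth 100000
set_option synthInstance.maxSize 4000
set_option Elab.async false

namespace Cfsg.Agent.ChevInvolution.E8

open Cfsg.Lie Cfsg.Agent.ChevBN

/-- Certificates, part 0. -/
def cases2_0 : List Case := [
  ⟨[2], [2], some ([239, 226, 159, 152, 121, 126, 141], [.swap 0, .swap 1, .swap 0, .swap 2, .swap 1, .swap 0, .swap 3, .swap 2, .swap 1, .swap 0, .swap 4, .swap 3, .swap 2, .swap 1, .swap 5, .swap 4, .swap 3, .swap 2, .n 3, .n 2, .swap 2, .n 0, .swap 1, .n 5, .n 4, .n 3, .swap 3, .n 1, .swap 0, .swap 2, .n 2, .n 3, .n 4, .n 5, .n 6, .n 7, .n 6, .n 5, .n 4, .n 3, .n 2, .n 1, .n 3, .n 4, .n 5, .n 0, .swap 1, .swap 5, .n 2, .n 3, .x 121, .swap 7, .swap 6, .swap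 5, .swap 4, .swap 3, .swap 2, .swap 1, .cancel 0, .x 126, .swap 9, .swap 8, .swap 7, .swap 6, .swap 5, .swap 4, .swap 3, .swap 2, .swap 1, .cancel 0, .swap 3, .cancel 4, .swap 5, .cancel 7, .x 141, .swap 8, .swap 7, .swap 6, .swap 5, .swap 4, .swap 3, .swap 2, .swap 1, .cancel 0, .swap 3, .swap 5, .swap 6, .swap 5, .swap 4, .swap 7, .swap 6, .cancel 5, .swap 6, .cancel 5, .swap 5, .x 202, .swap 0, .swap 1, .swap 2, .swap 3, .swap 7, .swap 6, .swap 5, .cancel 4, .swap 5, .cancel 6, .x 124, .swap 6, .swap 5, .swap 4, .swap 3, .swap 2, .swap 1, .cancel 0, .x 127, .swap 8, .swap 7, .swap 6, .swap 5, .swap 4, .swap 3, .swap 2, .swap 1, .cancel 0, .swap 1, .cancel 3, .swap 4, .cancel 5, .x 168, .swap 0, .swap 2, .swap 1, .swap 3, .swap 4, .swap 3, .swap 2, .swap 4, .swap 5, .swap 7, .swap 6, .cancel 5, .swap 6, .cancel 5, .swap 5, .swap 7, .swap 6, .swap 5, .swap 4, .cancel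 3, .x 159, .swap 0, .swap 1, .swap 2, .swap 7, .swap 6, .swap 5, .swap 4, .cancel 3, .swap 4, .cancel 5, .n 5, .n 6, .swap 0, .n 5, .x 124, .swap 6, .swap 5, .swap 4, .swap 3, .swap 2, .swap 1, .cancel 0, .cancel 1, .x 125, .swap 5, .swap 4, .swap 3, .swap 2, .swap 1, .cancel 0, .x 167, .swap 0, .swap 2, .swap 1, .swap 3, .swap 4, .swap 3, .swap 2, .cancel 5, .swap 7, .swap 6, .swap 5, .swap 4, .cancel 3, .swap 5, .cancel 6, .x 171, .swap 0, .swap 2, .swap 1, .swap 3, .swap 4, .swap 3, .swap 2, .swap 5, .swap 4, .swap 7, .cancel 6, .swap 6, .swap 7, .swap 6, .swap 5, .swap 4, .cancel 3, .swap 4, .cancel 5, .x 199, .swap 0, .swap 1, .swap 2, .swap 3, .swap 6, .swap 5, .cancel 4, .cancel 5, .n 5, .n 6, .n 7, .swap 0, .n 6, .n 5, .x 125, .swap 5, .swap 4, .swap 3, .swap 2, .swap 1, .cancel 0, .cancel 1, .n 0, .n 2, .n 4, .n 3, .n 1, .n 5, .n 4, .n 3, .swap 2, .n 2, .n 0,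 .n 6, .n 5, .n 4, .n 3, .n 2, .n 7, .n 6, .n 5, .n 4, .n 3, .n 1, .n 2, .swap 1, .n 0, .swap 2, .swap 2, .swap 1, .swap 0, .swap 2, .swap 1])⟩]

theorem cases2_0_ok : cases2_0.Forall (CaseOKF chevE8 tab tau reps) := by
  decide +kernel

/-- Certificates, part 1. -/
def cases2_1 : List Case := [
  ⟨[0, 3], [0, 3], some ([239, 200, 207, 184, 143, 121], [.swap 0, .swap 1, .swap 2, .swap 1, .swap 0, .swap 3, .swap 2, .swap 1, .swap 0, .swap 4, .swap 3, .swap 2, .swap 1, .swap 0, .x 124, .swap 0, .swap 6, .swap 5, .swap 4, .swap 3, .swap 2, .cancel 1, .x 144, .swap 0, .swap 2, .swap 1, .cancel 3, .swap 7, .swap 6, .swap 5, .swap 4, .swap 3, .cancel 2, .swap 3, .swap 5, .swap 4, .cancel 6, .x 185, .swap 0, .swap 2, .swap 1, .swap 3, .swap 5, .swap 4, .swap 3, .swap 2, .swap 6, .swap 5, .cancel 4, .swap 5, .swap 4, .swap 6, .cancel 5, .swap 6, .swap 5, .swap 4, .cancel 3, .x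 145, .swap 0, .swap 1, .swap 6, .swap 5, .swap 4, .swap 3, .cancel 2, .swap 3, .cancel 4, .n 5, .n 6, .n 7, .n 6, .n 5, .n 1, .n 3, .n 4, .n 3, .n 1, .x 143, .swap 0, .swap 1, .swap 6, .swap 5, .swap 4, .swap 3, .cancel 2, .x 184, .swap 0, .swap 1, .swap 3, .swap 2, .swap 4, .cancel 5, .swap 7, .swap 6, .swap 5, .swap 4, .cancel 3, .swap 5, .cancel 6, .x 200, .swap 0, .swap 1, .swap 3, .swap 2, .swap 4, .swap 5, .swap 4, .swap 3, .swap 5, .swap 6, .swap 8, .swap 7, .cancel 6, .swap 7, .cancel 6, .swap 6, .swap 5, .cancel 4, .x 206, .swap 0, .swap 1, .swap 2, .swap 3, .swap 4, .cancel 6, .cancel 5, .n 1, .n 3, .n 4, .swap 1, .n 3, .n 1, .x 143, .swap 0, .swap 1, .cancel 3, .swap 4, .swap 3, .cancel 2, .n 2, .n 0, .n 3, .n 2, .n 4, .n 5, .n 3, .n 4, .n 1, .n 3, .n 2, .n 0, .n 1, .swap 0, .n 3, .n 2, .n 4, .n 3, .n 1, .n 5, .n 4, .n 3, .n 2, .swap 1, .n 6, .n 5, .n 4, .n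 3, .n 1, .n 0, .swap 2, .n 5, .n 4, .n 3, .swap 0, .n 2, .swap 1, .swap 2, .swap 1, .swap 0, .swap 2, .swap 1])⟩]

theorem cases2_1_ok : cases2_1.Forall (CaseOKF chevE8 tab tau reps) := by
  decide +kernel

/-- Certificates, part 2. -/
def cases2_2 : List Case := [
  ⟨[0, 5], [0, 5], some ([239, 214, 186, 188, 128, 141], [.swap 0, .swap 1, .swap 0, .swap 2, .swap 1, .swap 3, .swap 2, .swap 1, .swap 0, .swap 4, .swap 3, .swap 2, .swap 1, .x 133, .swap 0, .swap 6, .swap 5, .swap 4, .swap 3, .swap 2, .cancel 1, .x 142, .swap 0, .swap 2, .swap 1, .cancel 3, .swap 7, .swap 6, .swap 5, .swap 4, .swap 3, .cancel 2, .swap 4, .cancel 6, .x 194, .swap 0, .swap 2, .swap 1, .swap 3, .swap 5, .swap 4, .swap 3, .swap 2, .swap 6, .swap 5, .swap 4, .swap 3, .swap 7, .swap 6, .cancel 5, .swap 6, .cancel 5, .swap 6, .swap 5, .cancel 4, .x 145, .swap 0, .swap 1, .swap 6, .swap 5, .swap 4,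 .swap 3, .cancel 2, .cancel 4, .n 3, .n 4, .n 5, .n 6, .n 7, .n 6, .n 5, .n 4, .n 3, .n 1, .x 141, .swap 0, .swap 1, .swap 6, .swap 5, .swap 4, .swap 3, .cancel 2, .x 186, .swap 0, .swap 1, .swap 3, .swap 2, .swap 4, .cancel 5, .swap 7, .swap 6, .swap 5, .swap 4, .cancel 3, .swap 5, .cancel 6, .x 188, .swap 0, .swap 1, .swap 3, .swap 2, .swap 4, .swap 5, .swap 4, .swap 7, .cancel 6, .swap 6, .swap 7, .swap 6, .swap 5, .swap 4, .cancel 3, .swap 4, .cancel 5, .x 209, .swap 0, .swap 1, .swap 2, .swap 3, .swap 4, .cancel 6, .cancel 5, .n 1, .swap 1, .x 141, .swap 0, .swap 1, .cancel 3, .swap 4, .swap 3, .cancel 2, .n 2, .n 3, .n 0, .n 2, .n 0, .swap 0, .n 1, .n 3, .n 4, .n 5, .n 3, .n 1, .n 2, .n 3, .n 4, .n 3, .n 1, .n 2, .n 0, .swap 2, .n 3, .n 2, .swap 1, .n 6, .n 5, .n 4, .n 3, .n 1, .n 0, .swap 2, .n 4, .n 3, .swap 0, .swap 2, .swap 1, .swap 0, .swap 2, .swap 1])⟩]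

theorem cases2_2_ok : cases2_2.Forall (CaseOKF chevE8 tab tau reps) := by
  decide +kernel

/-- Certificates, part 3. -/
def cases2_3 : List Case := [
  ⟨[2, 4, 7], [2, 4, 7], some ([237, 228, 161, 152, 141], [.swap 0, .swap 1, .swap 0, .swap 2, .swap 1, .swap 0, .swap 3, .swap 2, .swap 1, .swap 0, .n 0, .n 2, .n 3, .n 4, .n 5, .n 4, .n 3, .n 2, .n 0, .swap 3, .n 1, .x 141, .swap 5, .swap 4, .swap 3, .swap 2, .swap 1, .cancel 0, .x 152, .swap 7, .swap 6, .swap 5, .swap 4, .swap 3, .swap 2, .swap 1, .cancel 0, .swap 1, .cancel 3, .swap 4, .cancel 5, .x 161, .swap 6, .swap 5, .swap 4, .swap 3, .swap 2, .swap 1, .cancel 0, .swap 1, .swap 3, .swap 2, .swap 5, .swap 6, .swap 5, .cancel 4, .swap 5, .cancel 4, .swap 4, .x 204, .swap 0, .swap 1, .swap 2, .swap 3, .swap 5, .cancel 6, .swap 5, .cancel 4, .n 1, .swap 0, .x 141, .swap 5, .swap 4, .swap 3, .swap 2, .swap 1, .cancel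 0, .cancel 1, .n 3, .n 2, .n 4, .n 3, .n 1, .n 6, .n 5, .n 4, .n 3, .n 2, .n 7, .n 6, .n 5, .n 4, .n 3, .n 1, .n 3, .n 2, .swap 1, .n 5, .n 4, .n 3, .swap 0, .n 2, .swap 1, .swap 2, .swap 1, .swap 0, .swap 2, .swap 1])⟩]

theorem cases2_3_ok : cases2_3.Forall (CaseOKF chevE8 tab tau reps) := by
  decide +kernel

/-- Certificates, part 4. -/
def cases2_4 : List Case := [
  ⟨[0, 1, 4], [0, 1, 4], some ([239, 214, 191, 184, 121], [.swap 0, .swap 1, .swap 0, .swap 2, .swap 1, .swap 0, .swap 3, .swap 2, .swap 1, .swap 0, .x 122, .swap 0, .swap 5, .swap 4, .swap 3, .swap 2, .cancel 1, .x 192, .swap 0, .swap 2, .swap 1, .swap 3, .swap 2, .cancel 4, .swap 6, .swap 5, .swap 4, .cancel 3, .swap 4, .cancel 6, .x 215, .swap 0, .swap 2, .swap 1, .swap 3, .swap 2, .swap 4, .swap 6, .swap 5, .swap 4, .swap 3, .swap 7, .swap 6, .cancel 5, .swap 6, .cancel 5, .swap 5, .cancel 4, .x 193,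 .swap 0, .swap 1, .swap 2, .swap 5, .swap 4, .cancel 3, .cancel 4, .n 7, .n 5, .n 6, .n 4, .swap 1, .n 5, .n 3, .n 4, .n 1, .swap 2, .n 3, .n 2, .n 0, .n 1, .n 3, .n 2, .n 4, .n 3, .n 1, .n 5, .n 4, .n 3, .n 2, .n 6, .n 5, .n 4, .n 3, .n 1, .n 3, .n 2, .swap 1, .n 5, .n 4, .n 3, .swap 0, .n 2, .swap 1, .swap 2, .swap 1, .swap 0, .swap 2, .swap 1])⟩]

theorem cases2_4_ok : cases2_4.Forall (CaseOKF chevE8 tab tau reps) := by
  decide +kernel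

/-- Certificates, part 5. -/
def cases2_5 : List Case := [
  ⟨[1, 2, 3, 4], [1, 2, 3, 1, 2, 3, 4, 3, 1, 2, 3, 4], some ([239, 226, 159, 121], [.swap 0, .swap 1, .swap 0, .swap 2, .swap 1, .swap 0, .x 122, .swap 0, .swap 4, .swap 3, .swap 2, .cancel 1, .x 160, .swap 0, .swap 2, .swap 1, .cancel 3, .swap 5, .swap 4, .swap 3, .cancel 2, .swap 3, .cancel 5, .x 227, .swap 0, .swap 2, .swap 1, .swap 3, .swap 5, .swap 4, .swap 3, .swap 2, .swap 6, .swap 5, .cancel 4, .swap 5, .cancel 4, .swap 4, .cancel 3, .x 161, .swap 0, .swap 1, .swap 4, .swap 3, .cancel 2, .cancel 3, .n 7, .n 6, .n 5, .n 4, .n 3, .n 1, .n 2, .n 0, .n 3, .n 2, .n 4, .n 3, .n 1, .n 5, .n 4, .n 3, .n 2, .n 0, .n 6, .n 5, .n 4, .n 3, .n 1, .n 2, .n 3, .n 4, .n 5, .n 6, .n 0, .n 2, .n 3, .n 1, .swap 0, .n 5, .n 4, .n 3, .n 1, .n 2, .n 0, .swap 1, .n 3, .n 2, .swap 0, .swap 1, .swap 0, .swap 1])⟩]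

theorem cases2_5_ok : cases2_5.Forall (CaseOKF chevE8 tab tau reps) := by
  decide +kernel

/-- Certificates, part 6. -/
def cases2_6 : List Case := [
  ⟨[0, 2, 7], [0, 2, 0, 7], none⟩,
  ⟨[3, 4, 7], [3, 4, 3, 7], none⟩,
  ⟨[0, 1, 3, 5, 7], [0, 1, 3, 1, 5, 7], none⟩,
  ⟨[0, 2, 4, 5, 7], [0, 2, 0, 4, 5, 4, 7], none⟩,
  ⟨[0, 1, 2, 3, 4, 5, 7], [0, 1, 2, 0, 3, 1, 2, 0, 3, 2, 4, 3, 1, 2, 0, 3, 2, 4, 3, 1, 5, 4, 3, 1, 2, 0, 3, 2, 4, 3, 1, 5, 4, 3, 2, 0, 7], none⟩,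
  ⟨[0, 3, 6, 7], [0, 3, 6, 7, 6], none⟩,
  ⟨[0, 1, 4, 6, 7], [0, 1, 4, 6, 7, 6], none⟩,
  ⟨[0, 2, 3, 4, 6, 7], [0, 2, 0, 3, 2, 0, 4, 3, 2, 0, 6, 7, 6], none⟩,
  ⟨[0, 1, 2, 5, 6, 7], [0, 1, 2, 0, 5, 6, 5, 7, 6, 5], none⟩,
  ⟨[0, 4, 5, 6, 7], [0, 4, 5, 4, 6, 5, 4, 7, 6, 5, 4], none⟩,
  ⟨[0, 1, 3, 4, 5, 6, 7], [0, 1, 3, 1, 4, 3, 1, 5, 4, 3, 1, 6, 5, 4, 3, 1, 7, 6, 5, 4, 3, 1], none⟩]

theorem cases2_6_ok : cases2_6.Forall (CaseOKF chevE8 tab tau reps) := by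
  decide +kernel

/-- Certificates. -/
def cases2 : List Case :=
  [cases2_0, cases2_1, cases2_2, cases2_3, cases2_4, cases2_5, cases2_6].flatten

theorem cases2_ok : ∀ c ∈ cases2, CaseOK chevE8 adjE8 tau reps c := by
  intro c hc
  obtain ⟨L, hL, hcL⟩ := List.mem_flatten.1 hc
  simp only [List.mem_cons, List.not_mem_nil, or_false] at hL
  rcases hL with rfl | rfl | rfl | rfl | rfl | rfl | rfl
  · exact caseOK_of_F tabOK (List.forall_iff_forall_mem.1 cases2_0_ok c hcL)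
  · exact caseOK_of_F tabOK (List.forall_iff_forall_mem.1 cases2_1_ok c hcL)
  · exact caseOK_of_F tabOK (List.forall_iff_forall_mem.1 cases2_2_ok c hcL)
  · exact caseOK_of_F tabOK (List.forall_iff_forall_mem.1 cases2_3_ok c hcL)
  · exact caseOK_of_F tabOK (List.forall_iff_forall_mem.1 cases2_4_ok c hcL)
  · exact caseOK_of_F tabOK (List.forall_iff_forall_mem.1 cases2_5_ok c hcL)
  · exact caseOK_of_F tabOK (List.forall_iff_forall_mem.1 cases2_6_ok c hcL)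

end Cfsg.Agent.ChevInvolution.E8
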