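import Cfsg.Agent.Lib.ChevCentralizer.E8Base
import Cfsg.Agent.Lib.ChevBN.RootTables

/-!
# Certificates for the involution classes of E8 in characteristic two
-/

set_option autoImplicit false
set_option maxRecDepth 100000
set_option synthInstance.maxSize 4000
set_option Elab.async false

namespace Cfsg.Agent.ChevInvolution.E8

open Cfsg.Lie Cfsg.Agent.ChevBN

/-- Certificates, part 0. -/
def cases4_0 : List Case := [
  ⟨[4], [4], some ([239, 226, 159, 152, 121, 135, 141], [.swap 0, .swap 1, .swap 0, .swap 2, .swap 1, .swap 0, .swap 3, .swap 2, .swap 1, .swap 0, .swap 4, .swap 3, .swap 2, .swap 1, .swap 5, .swap 4, .swap 3, .swap 2, .x 133, .swap 0, .swap 7, .swap 6, .swap 5, .swap 4, .swap 3, .swap 2, .cancel 1, .x 138, .swap 0, .swap 2, .swap 1, .cancel 3, .swap 8, .swap 7, .swap 6, .swap 5, .swap 4, .swap 3, .cancel 2, .swap 3, .swap 5, .cancel 6, .x 144, .swap 0, .swap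 2, .swap 1, .swap 3, .swap 5, .swap 4, .swap 3, .swap 2, .swap 6, .swap 5, .cancel 4, .swap 5, .cancel 4, .swap 7, .swap 6, .swap 5, .swap 4, .cancel 3, .x 139, .swap 0, .swap 1, .swap 7, .swap 6, .swap 5, .swap 4, .swap 3, .cancel 2, .cancel 3, .n 0, .swap 1, .n 5, .n 4, .n 3, .n 1, .swap 0, .n 2, .n 3, .n 4, .n 5, .n 6, .n 7, .n 6, .n 5, .n 4, .n 3, .n 2, .n 1, .n 3, .n 4, .n 5, .n 0, .swap 4, .x 121, .swap 6, .swap 5, .swap 4, .swap 3, .swap 2, .swap 1, .cancel 0, .x 135, .swap 8, .swap 7, .swap 6, .swap 5, .swap 4, .swap 3, .swap 2, .swap 1, .cancel 0, .swap 2, .cancel 3, .swap 4, .cancel 6, .x 152, .swap 0, .swap 7, .swap 6, .swap 5, .swap 4, .swap 3, .swap 2, .cancel 1, .swap 2, .swap 4, .swap 5, .swap 4, .swap 3, .swap 6, .swap 5, .cancel 4, .swap 5, .cancel 4, .swap 4, .x 193, .swap 0, .swap 1, .swap 2, .swap 6, .swap 5, .swap 4, .cancel 3, .swap 4, .cancel 5,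 .x 134, .swap 5, .swap 4, .swap 3, .swap 2, .swap 1, .cancel 0, .x 167, .swap 0, .swap 2, .swap 1, .swap 3, .cancel 4, .swap 7, .swap 6, .swap 5, .swap 4, .swap 3, .cancel 2, .swap 5, .cancel 6, .x 194, .swap 0, .swap 2, .swap 1, .swap 3, .swap 4, .swap 3, .swap 2, .swap 4, .swap 5, .swap 7, .swap 6, .swap 5, .swap 4, .swap 3, .swap 8, .swap 7, .cancel 6, .swap 7, .cancel 6, .swap 6, .swap 5, .cancel 4, .x 183, .swap 0, .swap 1, .swap 2, .swap 6, .swap 5, .swap 4, .cancel 3, .cancel 5, .n 3, .n 4, .n 5, .n 6, .n 7, .swap 0, .n 6, .n 5, .n 4, .n 3, .x 134, .swap 5, .swap 4, .swap 3, .swap 2, .swap 1, .cancel 0, .cancel 1, .n 2, .swap 1, .n 3, .n 4, .n 2, .n 0, .n 3, .n 1, .swap 2, .swap 1, .n 2, .n 3, .n 5, .n 6, .n 4, .n 5, .n 4, .n 3, .swap 2, .n 1, .swap 1, .swap 0, .n 2, .n 0, .n 3, .n 2, .n 4, .n 3, .n 1, .n 2, .swap 1, .n 0, .swap 2, .swap 2, .swap 1, .swap 0, .swap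 2, .swap 1])⟩]

theorem cases4_0_ok : cases4_0.Forall (CaseOKF chevE8 tab tau reps) := by
  decide +kernel

/-- Certificates, part 1. -/
def cases4_1 : List Case := [
  ⟨[1, 4], [1, 4], some ([239, 226, 159, 152, 121, 135], [.swap 0, .swap 1, .swap 0, .swap 2, .swap 1, .swap 0, .swap 3, .swap 2, .swap 1, .swap 0, .swap 4, .swap 3, .swap 2, .swap 1, .n 0, .n 5, .n 4, .swap 2, .n 3, .n 1, .swap 1, .n 2, .n 3, .n 4, .n 5, .n 6, .n 7, .n 6, .n 5, .n 4, .n 3, .n 2, .n 1, .n 3, .n 4, .n 5, .n 0, .swap 0, .swap 4, .x 121, .swap 6, .swap 5, .swap 4, .swap 3, .swap 2, .swap 1, .cancel 0, .x 135, .swap 8, .swap 7, .swap 6, .swap 5, .swap 4, .swap 3, .swap 2, .swap 1, .cancel 0, .swap 2, .cancel 3, .swap 4, .cancel 6, .x 152, .swap 7, .swap 6, .swap 5, .swap 4, .swap 3, .swap 2, .swap 1, .cancel 0, .swap 2, .swap 4, .swap 5, .swap 4, .swap 3, .swap 6, .swap 5, .cancel 4, .swap 5,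 .cancel 4, .swap 4, .x 193, .swap 0, .swap 1, .swap 2, .swap 6, .swap 5, .swap 4, .cancel 3, .swap 4, .cancel 5, .x 120, .swap 5, .swap 4, .swap 3, .swap 2, .swap 1, .cancel 0, .x 163, .swap 0, .swap 2, .swap 1, .swap 3, .swap 4, .swap 3, .cancel 5, .swap 7, .swap 6, .swap 5, .swap 4, .swap 3, .cancel 2, .swap 5, .cancel 6, .x 174, .swap 0, .swap 2, .swap 1, .swap 3, .swap 4, .swap 3, .swap 5, .swap 4, .swap 7, .cancel 6, .swap 6, .swap 7, .swap 6, .swap 5, .swap 4, .swap 3, .cancel 2, .swap 4, .cancel 5, .x 192, .swap 0, .swap 1, .swap 2, .swap 3, .swap 6, .swap 5, .cancel 4, .cancel 5, .n 7, .swap 0, .x 120, .swap 5, .swap 4, .swap 3, .swap 2, .swap 1, .cancel 0, .cancel 1, .n 2, .swap 1, .n 0, .swap 0, .n 3, .n 1, .n 2, .n 3, .n 4, .n 3, .n 1, .n 2, .n 0, .swap 2, .n 3, .n 2, .swap 1, .n 6, .n 5, .n 4, .n 3, .n 1, .n 0, .swap 2, .n 4, .n 3, .swap 0, .swap 2, .swap 1,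 .swap 0, .swap 2, .swap 1])⟩]

theorem cases4_1_ok : cases4_1.Forall (CaseOKF chevE8 tab tau reps) := by
  decide +kernel

/-- Certificates, part 2. -/
def cases4_2 : List Case := [
  ⟨[0, 4], [0, 4], some ([239, 214, 191, 184, 121, 141], [.swap 0, .swap 1, .swap 0, .swap 2, .swap 1, .swap 0, .swap 3, .swap 2, .swap 1, .swap 0, .swap 4, .swap 3, .swap 2, .swap 1, .x 133, .swap 0, .swap 6, .swap 5, .swap 4, .swap 3, .swap 2, .cancel 1, .swap 4, .x 144, .swap 0, .swap 2, .swap 1, .cancel 3, .swap 7, .swap 6, .swap 5, .swap 4, .swap 3, .cancel 2, .swap 3, .swap 4, .cancel 6, .x 194, .swap 0, .swap 2, .swap 1, .swap 3, .swap 5, .swap 4, .swap 3, .swap 2, .swap 6, .swap 5, .swap 4, .swap 3, .swap 7, .swap 6, .cancel 5, .swap 6, .cancel 5, .swap 6, .swap 5, .cancel 4, .x 145, .swap 0, .swap 1, .swap 6, .swap 5, .swap 4, .swap 3, .cancel 2, .swap 3, .cancel 4, .n 3, .n 4, .n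 5, .n 6, .n 7, .n 6, .n 5, .n 4, .n 3, .n 1, .x 141, .swap 0, .swap 1, .swap 6, .swap 5, .swap 4, .swap 3, .cancel 2, .x 184, .swap 0, .swap 1, .swap 3, .swap 2, .swap 4, .cancel 5, .swap 7, .swap 6, .swap 5, .swap 4, .cancel 3, .swap 5, .cancel 6, .x 191, .swap 0, .swap 1, .swap 3, .swap 2, .swap 4, .swap 5, .swap 4, .swap 7, .cancel 6, .swap 6, .swap 7, .swap 6, .swap 5, .swap 4, .cancel 3, .swap 4, .cancel 5, .x 206, .swap 0, .swap 1, .swap 2, .swap 3, .swap 4, .cancel 6, .cancel 5, .n 1, .swap 1, .x 141, .swap 0, .swap 1, .cancel 3, .swap 4, .swap 3, .cancel 2, .n 2, .n 0, .n 3, .n 2, .n 4, .n 5, .n 3, .n 4, .n 1, .n 3, .n 2, .n 0, .n 1, .n 3, .n 2, .swap 0, .n 4, .n 3, .n 1, .n 5, .n 4, .n 3, .n 2, .swap 1, .n 6, .n 5, .n 4, .n 3, .n 1, .n 0, .swap 2, .n 4, .n 3, .swap 0, .swap 2, .swap 1, .swap 0, .swap 2, .swap 1])⟩]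

theorem cases4_2_ok : cases4_2.Forall (CaseOKF chevE8 tab tau reps) := by
  decide +kernel

/-- Certificates, part 3. -/
def cases4_3 : List Case := [
  ⟨[1, 4, 6], [1, 4, 6], some ([239, 226, 159, 152, 135], [.swap 0, .swap 1, .swap 0, .swap 2, .swap 1, .swap 0, .swap 3, .swap 2, .swap 1, .swap 0, .n 0, .n 2, .x 135, .swap 5, .swap 4, .swap 3, .swap 2, .swap 1, .cancel 0, .x 152, .swap 7, .swap 6, .swap 5, .swap 4, .swap 3, .swap 2, .swap 1, .cancel 0, .swap 1, .cancel 3, .swap 4, .cancel 5, .x 159, .swap 6, .swap 5, .swap 4, .swap 3, .swap 2, .swap 1, .cancel 0, .swap 1, .swap 3, .swap 2, .swap 5, .swap 6, .swap 5, .cancel 4, .swap 5, .cancel 4, .x 184, .swap 0, .swap 1, .swap 2, .swap 3, .cancel 5, .swap 5, .cancel 4, .n 2, .swap 0, .x 135, .swap 5, .swap 4, .swap 3, .swap 2, .swap 1, .cancel 0, .cancel 1, .n 3, .n 1, .n 4, .n 3, .n 2, .n 5, .n 4, .n 3, .n 1, .n 6,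 .n 5, .n 4, .n 3, .n 2, .n 7, .n 6, .n 5, .n 4, .n 3, .n 1, .n 2, .n 0, .swap 2, .n 4, .n 3, .n 2, .swap 1, .n 0, .swap 2, .n 6, .n 5, .n 4, .n 3, .swap 0, .n 2, .swap 1, .n 0, .swap 2, .swap 2, .swap 1, .swap 0, .swap 2, .swap 1])⟩]

theorem cases4_3_ok : cases4_3.Forall (CaseOKF chevE8 tab tau reps) := by
  decide +kernel

/-- Certificates, part 4. -/
def cases4_4 : List Case := [
  ⟨[2, 5, 7], [2, 5, 7], some ([235, 230, 161, 156, 141], [.swap 0, .swap 1, .swap 0, .swap 2, .swap 1, .swap 0, .swap 3, .swap 2, .swap 1, .swap 0, .n 0, .n 2, .n 3, .n 2, .n 0, .swap 3, .n 1, .x 141, .swap 5, .swap 4, .swap 3, .swap 2, .swap 1, .cancel 0, .x 156, .swap 7, .swap 6, .swap 5, .swap 4, .swap 3, .swap 2, .swap 1, .cancel 0, .swap 1, .cancel 3, .swap 4, .cancel 5, .x 161, .swap 6, .swap 5, .swap 4, .swap 3, .swap 2, .swap 1, .cancel 0, .swap 1, .swap 3, .swap 2, .swap 5, .swap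 6, .swap 5, .cancel 4, .swap 5, .cancel 4, .swap 4, .x 204, .swap 0, .swap 1, .swap 2, .swap 3, .swap 5, .cancel 6, .swap 5, .cancel 4, .n 1, .swap 0, .x 141, .swap 5, .swap 4, .swap 3, .swap 2, .swap 1, .cancel 0, .cancel 1, .n 4, .n 3, .n 2, .n 5, .n 4, .n 3, .n 1, .n 6, .n 5, .n 4, .n 3, .n 2, .n 7, .n 6, .n 5, .n 4, .n 3, .n 1, .n 3, .n 2, .swap 1, .n 5, .n 4, .n 3, .swap 0, .n 2, .swap 1, .swap 2, .swap 1, .swap 0, .swap 2, .swap 1])⟩]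

theorem cases4_4_ok : cases4_4.Forall (CaseOKF chevE8 tab tau reps) := by
  decide +kernel

/-- Certificates, part 5. -/
def cases4_5 : List Case := [
  ⟨[0, 3, 5, 7], [0, 3, 5, 7], some ([232, 218, 209, 204], [.swap 0, .swap 1, .swap 0, .swap 2, .swap 1, .swap 0, .n 2, .n 0, .swap 2, .n 4, .n 3, .n 2, .swap 1, .n 0, .swap 2, .n 6, .n 5, .n 4, .n 3, .swap 0, .n 2, .swap 1, .n 0, .swap 2, .swap 2, .swap 1, .swap 0, .swap 2, .swap 1])⟩]

theorem cases4_5_ok : cases4_5.Forall (CaseOKF chevE8 tab tau reps) := by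
  decide +kernel

/-- Certificates, part 6. -/
def cases4_6 : List Case := [
  ⟨[1, 2, 3, 4, 6], [1, 2, 3, 1, 2, 3, 4, 3, 1, 2, 3, 4, 6], some ([239, 226, 159], [.swap 0, .swap 1, .swap 0, .n 7, .n 6, .n 0, .n 2, .n 3, .n 1, .swap 0, .n 5, .n 4, .n 3, .n 1, .n 2, .n 0, .swap 1, .n 3, .n 2, .swap 0, .swap 1, .swap 0, .swap 1])⟩]

theorem cases4_6_ok : cases4_6.Forall (CaseOKF chevE8 tab tau reps) := by
  decide +kernel

/-- Certificates, part 7. -/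
def cases4_7 : List Case := [
  ⟨[0, 1, 3, 4, 5], [0, 1, 3, 1, 4, 3, 1, 5, 4, 3, 1], none⟩,
  ⟨[0, 1, 3, 6], [0, 1, 3, 1, 6], none⟩,
  ⟨[0, 3, 4, 6], [0, 3, 4, 3, 6], none⟩,
  ⟨[1, 5, 6], [1, 5, 6, 5], none⟩,
  ⟨[1, 3, 5, 6], [1, 3, 1, 5, 6, 5], none⟩,
  ⟨[1, 4, 5, 6], [1, 4, 5, 4, 6, 5, 4], none⟩,
  ⟨[1, 3, 4, 5, 6], [1, 3, 1, 4, 3, 1, 5, 4, 3, 1, 6, 5, 4, 3, 1], none⟩,
  ⟨[0, 2, 3, 7], [0, 2, 0, 3, 2, 0, 7], none⟩,
  ⟨[0, 2, 3, 4, 7], [0, 2, 0, 3, 2, 0, 4, 3, 2, 0, 7], none⟩,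
  ⟨[4, 5, 7], [4, 5, 4, 7], none⟩,
  ⟨[1, 3, 4, 5, 7], [1, 3, 1, 4, 3, 1, 5, 4, 3, 1, 7], none⟩,
  ⟨[2, 6, 7], [2, 6, 7, 6], none⟩,
  ⟨[1, 2, 3, 6, 7], [1, 2, 3, 1, 2, 3, 6, 7, 6], none⟩,
  ⟨[3, 4, 6, 7], [3, 4, 3, 6, 7, 6], none⟩,
  ⟨[1, 5, 6, 7], [1, 5, 6, 5, 7, 6, 5], none⟩,
  ⟨[2, 3, 5, 6, 7], [2, 3, 2, 5, 6, 5, 7, 6, 5], none⟩,
  ⟨[1, 2, 4, 5, 6, 7], [1, 2, 4, 5, 4, 6, 5, 4, 7, 6, 5, 4], none⟩]

theorem cases4_7_ok : cases4_7.Forall (CaseOKF chevE8 tab tau reps) := by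
  decide +kernel

/-- Certificates. -/
def cases4 : List Case :=
  [cases4_0, cases4_1, cases4_2, cases4_3, cases4_4, cases4_5, cases4_6, cases4_7].flatten

theorem cases4_ok : ∀ c ∈ cases4, CaseOK chevE8 adjE8 tau reps c := by
  intro c hc
  obtain ⟨L, hL, hcL⟩ := List.mem_flatten.1 hc
  simp only [List.mem_cons, List.not_mem_nil, or_false] at hL
  rcases hL with rfl | rfl | rfl | rfl | rfl | rfl | rfl | rfl
  · exact caseOK_of_F tabOK (List.forall_iff_forall_mem.1 cases4_0_ok c hcL)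
  · exact caseOK_of_F tabOK (List.forall_iff_forall_mem.1 cases4_1_ok c hcL)
  · exact caseOK_of_F tabOK (List.forall_iff_forall_mem.1 cases4_2_ok c hcL)
  · exact caseOK_of_F tabOK (List.forall_iff_forall_mem.1 cases4_3_ok c hcL)
  · exact caseOK_of_F tabOK (List.forall_iff_forall_mem.1 cases4_4_ok c hcL)
  · exact caseOK_of_F tabOK (List.forall_iff_forall_mem.1 cases4_5_ok c hcL)
  · exact caseOK_of_F tabOK (List.forall_iff_forall_mem.1 cases4_6_ok c hcL)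
  · exact caseOK_of_F tabOK (List.forall_iff_forall_mem.1 cases4_7_ok c hcL)

end Cfsg.Agent.ChevInvolution.E8
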