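import Cfsg.Agent.Lib.ChevCentralizer.E8Cases0
import Cfsg.Agent.Lib.ChevCentralizer.E8Cases1
import Cfsg.Agent.Lib.ChevCentralizer.E8Cases2
import Cfsg.Agent.Lib.ChevCentralizer.E8Cases3
import Cfsg.Agent.Lib.ChevCentralizer.E8Cases4
import Cfsg.Agent.Lib.ChevCentralizer.E8Cases5
import Cfsg.Agent.Lib.ChevCentralizer.E8Cases6
import Cfsg.Agent.Lib.ChevCentralizer.E8Cases7
import Cfsg.Agent.Lib.ChevCentralizer.E8Cases8
import Cfsg.Agent.Lib.ChevCentralizer.E8Cases9
import Cfsg.Agent.Lib.ChevCentralizer.Distinct
import Cfsg.Agent.Lib.ChevBN.RootTables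

/-!
# Certificates for the involution classes of E8 in characteristic two
-/

set_option autoImplicit false
set_option maxRecDepth 100000
set_option synthInstance.maxSize 4000
set_option Elab.async false

namespace Cfsg.Agent.ChevInvolution.E8

open Cfsg.Lie Cfsg.Agent.ChevBN

/-- All certificates. -/
def cases : List Case := cases0 ++ cases1 ++ cases2 ++ cases3 ++ cases4 ++ cases5 ++ cases6 ++ cases7 ++ cases8 ++ cases9

theorem cases_ok : ∀ c ∈ cases, CaseOK chevE8 adjE8 tau reps c := by
  intro c hc
  simp only [cases, List.mem_append, or_assoc] at hc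
  rcases hc with h | h | h | h | h | h | h | h | h | h
  exacts [cases0_ok c h, cases1_ok c h, cases2_ok c h, cases3_ok c h, cases4_ok c h, cases5_ok c h, cases6_ok c h, cases7_ok c h, cases8_ok c h, cases9_ok c h]

theorem cover : ∀ K ∈ (List.range chevE8.rank).sublists, K ∈ cases.map (·.K) := by
  decide +kernel

/-- Support of representative 0. -/
def supp0 : List ℕ := [239]

theorem supp0_ok : Supp chevE8 [239] supp0 := by
  constructor <;> decide +kernel

/-- Support of representative 1. -/
def supp1 : List ℕ := [232, 233, 234, 235, 236, 237, 238, 239]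

theorem supp1_ok : Supp chevE8 [232, 233] supp1 := by
  constructor <;> decide +kernel

/-- Support of representative 2. -/
def supp2 : List ℕ := [218, 222, 223, 224, 225, 228, 229, 230, 231, 232, 233, 234, 235, 236, 237, 238, 239]

theorem supp2_ok : Supp chevE8 [228, 222, 218] supp2 := by
  constructor <;> decide +kernel

/-- Support of representative 3. -/
def supp3 : List ℕ := [213, 216, 217, 218, 220, 221, 222, 223, 224, 225, 226, 227, 228, 229, 230, 231, 232, 233, 234, 235, 236, 237, 238, 239]

theorem supp3_ok : Supp chevE8 [226, 220, 213, 216] supp3 := by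
  constructor <;> decide +kernel

theorem sep10 : Separated chevE8 [232, 233] supp0 := by
  unfold Separated
  decide +kernel

theorem sep20 : Separated chevE8 [228, 222, 218] supp0 := by
  unfold Separated
  decide +kernel

theorem sep21 : Separated chevE8 [228, 222, 218] supp1 := by
  unfold Separated
  decide +kernel

theorem sep30 : Separated chevE8 [226, 220, 213, 216] supp0 := by
  unfold Separated
  decide +kernel

theorem sep31 : Separated chevE8 [226, 220, 213, 216] supp1 := by
  unfold Separated
  decide +kernel

theorem sep32 : Separated chevE8 [226, 220, 213, 216] supp2 := by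
  unfold Separated
  decide +kernel

end Cfsg.Agent.ChevInvolution.E8
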