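import Cfsg.Agent.Lib.ChevCentralizer.Classify
import Cfsg.Agent.Lib.ChevBN.RootTables

/-!
# Certificates for the involution classes of F4 in characteristic two
-/

set_option autoImplicit false
set_option maxRecDepth 100000
set_option synthInstance.maxSize 4000

namespace Cfsg.Agent.ChevInvolution.F4

open Cfsg.Lie Cfsg.Agent.ChevBN

/-- A word for the longest element. -/
def l0 : List ℕ := [0, 1, 0, 2, 1, 0, 2, 1, 2, 3, 2, 1, 0, 2, 1, 2, 3, 2, 1, 0, 2, 1, 2, 3]

/-- Its action on the diagram. -/
def tau : List ℕ := [0, 1, 2, 3]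

/-- The representatives. -/
def reps : List (List ℕ) := [[47], [44], [47, 44], [39, 45]]

theorem w0OK : W0OK chevF4 l0 tau := by
  constructor <;> decide +kernel

end Cfsg.Agent.ChevInvolution.F4
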