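import Cfsg.Agent.Lib.ChevCentralizer.F4Base
import Cfsg.Agent.Lib.ChevBN.RootTables

/-!
# Certificates for the involution classes of F4 in characteristic two
-/

set_option autoImplicit false
set_option maxRecDepth 100000
set_option synthInstance.maxSize 4000

namespace Cfsg.Agent.ChevInvolution.F4

open Cfsg.Lie Cfsg.Agent.ChevBN

/-- Certificates. -/
def cases0 : List Case := [
  ⟨[], [], some ([47, 41, 30, 25], [.swap 0, .swap 1, .swap 0, .swap 2, .swap 1, .swap 0, .n 3, .x 27, .swap 0, .cancel 3, .swap 4, .swap 3, .swap 2, .cancel 1, .n 1, .swap 0, .n 0, .swap 1, .swap 0, .n 2, .n 1, .swap 2, .x 27, .swap 4, .swap 3, .swap 2, .swap 1, .cancel 0, .cancel 4, .x 35, .swap 0, .swap 4, .swap 3, .swap 2, .cancel 1, .swap 2, .cancel 3, .n 1, .n 0, .swap 0, .x 27, .swap 3, .swap 2, .swap 1, .cancel 0, .cancel 3, .x 41, .swap 0, .swap 3, .swap 2, .swap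 4, .cancel 3, .swap 3, .swap 2, .cancel 1, .x 31, .swap 0, .swap 3, .swap 2, .cancel 1, .cancel 2, .n 1, .n 0, .n 2, .n 1, .n 2])⟩,
  ⟨[0], [0], some ([47, 37, 25], [.swap 0, .swap 1, .swap 0, .n 1, .n 0, .swap 0, .n 3, .n 2, .x 27, .swap 3, .swap 2, .swap 1, .cancel 0, .cancel 3, .x 41, .swap 0, .swap 3, .swap 2, .swap 4, .cancel 3, .swap 3, .swap 2, .cancel 1, .x 31, .swap 0, .swap 3, .swap 2, .cancel 1, .cancel 2, .n 1, .n 0, .n 2, .n 1, .n 2])⟩,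
  ⟨[1], [1], some ([47, 41, 28], [.swap 0, .swap 1, .swap 0, .n 3, .n 2, .x 27, .swap 3, .swap 2, .swap 1, .cancel 0, .cancel 3, .x 41, .swap 0, .swap 3, .swap 2, .swap 4, .cancel 3, .swap 3, .swap 2, .cancel 1, .x 31, .swap 0, .swap 3, .swap 2, .cancel 1, .cancel 2, .n 1, .n 0, .n 2, .n 1, .n 2])⟩,
  ⟨[2], [2], some ([47, 41, 30], [.swap 0, .swap 1, .swap 0, .n 3, .n 2, .x 27, .swap 3, .swap 2, .swap 1, .cancel 0, .cancel 3, .n 1, .swap 1, .n 0, .swap 0, .x 27, .swap 3, .swap 2, .swap 1, .cancel 0, .cancel 3, .x 33, .swap 3, .swap 2, .swap 1, .cancel 0, .swap 1, .cancel 2, .n 1])⟩,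
  ⟨[3], [3], some ([45, 43, 32], [.swap 0, .swap 1, .swap 0, .x 27, .swap 3, .swap 2, .swap 1, .cancel 0, .cancel 3, .n 1, .swap 1, .n 0, .swap 0, .x 27, .swap 3, .swap 2, .swap 1, .cancel 0, .cancel 3, .x 33, .swap 3, .swap 2, .swap 1, .cancel 0, .swap 1, .cancel 2, .n 1])⟩,
  ⟨[1, 2], [1, 2, 1, 2], some ([47, 41], [.swap 0, .n 3, .n 2, .x 27, .swap 2, .swap 1, .cancel 0, .cancel 2, .n 1, .swap 0, .n 2, .n 3, .swap 0])⟩,
  ⟨[1, 3], [1, 3], some ([44, 32], [.swap 0, .n 0, .swap 0, .n 1])⟩,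
  ⟨[0, 2], [0, 2], some ([47, 37], [.swap 0, .n 3, .n 2])⟩,
  ⟨[0, 3], [0, 3], some ([45, 39], [.swap 0])⟩,
  ⟨[0, 1, 2], [0, 1, 0, 2, 1, 0, 2, 1, 2], some ([47], [])⟩,
  ⟨[1, 2, 3], [1, 2, 1, 2, 3, 2, 1, 2, 3], some ([44], [])⟩,
  ⟨[0, 1], [0, 1, 0], none⟩,
  ⟨[0, 1, 3], [0, 1, 0, 3], none⟩,
  ⟨[2, 3], [2, 3, 2], none⟩,
  ⟨[0, 2, 3], [0, 2, 3, 2], none⟩,
  ⟨[0, 1, 2, 3], [0, 1, 0, 2, 1, 0, 2, 1, 2, 3, 2, 1, 0, 2, 1, 2, 3, 2, 1, 0, 2, 1, 2, 3], some ([], [])⟩]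

theorem cases0_ok : ∀ c ∈ cases0, CaseOK chevF4 adjF4 tau reps c := by
  decide +kernel

end Cfsg.Agent.ChevInvolution.F4
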