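import Cfsg.Agent.Lib.ChevCentralizer.F4Cases0
import Cfsg.Agent.Lib.ChevCentralizer.Distinct
import Cfsg.Agent.Lib.ChevBN.RootTables

/-!
# Certificates for the involution classes of F4 in characteristic two
-/

set_option autoImplicit false
set_option maxRecDepth 100000
set_option synthInstance.maxSize 4000

namespace Cfsg.Agent.ChevInvolution.F4

open Cfsg.Lie Cfsg.Agent.ChevBN

/-- All certificates. -/
def cases : List Case := cases0

theorem cases_ok : ∀ c ∈ cases, CaseOK chevF4 adjF4 tau reps c := by
  intro c hc
  simp only [cases, List.mem_append, or_assoc] at hc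
  exact cases0_ok c hc

theorem cover : ∀ K ∈ (List.range chevF4.rank).sublists, K ∈ cases.map (·.K) := by
  decide +kernel

/-- Support of representative 0. -/
def supp0 : List ℕ := [47]

theorem supp0_ok : Supp chevF4 [47] supp0 := by
  constructor <;> decide +kernel

/-- Support of representative 1. -/
def supp1 : List ℕ := [44]

theorem supp1_ok : Supp chevF4 [44] supp1 := by
  constructor <;> decide +kernel

/-- Support of representative 2. -/
def supp2 : List ℕ := [44, 47]

theorem supp2_ok : Supp chevF4 [47, 44] supp2 := by
  constructor <;> decide +kernel

/-- Support of representative 3. -/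
def supp3 : List ℕ := [39, 40, 44, 45, 46, 47]

theorem supp3_ok : Supp chevF4 [39, 45] supp3 := by
  constructor <;> decide +kernel

end Cfsg.Agent.ChevInvolution.F4
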