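import Cfsg.Agent.Lib.ChevCentralizer.RootElement
import Cfsg.Agent.Lib.ChevCentralizer.Distinct
import Cfsg.Agent.Lib.ChevBN.RootTables

/-!
# Involutions of G2 in characteristic two

* `classes` : the two classes, represented by `x_{3a+2b}(1)` and `x_{2a+b}(1)`;
* `centralizer_long`, `centralizer_short` : their centralisers.
-/

set_option autoImplicit false
set_option maxRecDepth 100000
set_option synthInstance.maxSize 4000
set_option maxHeartbeats 1000000

namespace Cfsg.Agent.ChevInvolution.G2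

open Cfsg.Lie Cfsg.Lie.ChevalleyDatum Cfsg.Agent.Chev Cfsg.Agent.ChevBN Cfsg.Agent.ChevCentralizer

/-- The certificates. -/
def cases : List Case :=
  [⟨[], [], some ([7, 11], [Op.x 8, Op.swap 0, Op.cancel 3, Op.swap 2, Op.cancel 1, Op.x 9, Op.swap 0,
      Op.n 1, Op.n 0, Op.cancel 2, Op.cancel 1])⟩,
   ⟨[0], [0], some ([11], [])⟩, ⟨[1], [1], some ([9], [])⟩, ⟨[0, 1], [0, 1, 0, 1, 0, 1], some ([], [])⟩]

theorem w0OK : W0OK chevG2 [0, 1, 0, 1, 0, 1] [0, 1] := by constructor <;> decide +kernel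

theorem cases_ok : ∀ c ∈ cases, CaseOK chevG2 adjG2 [0, 1] [[11], [9]] c := by decide +kernel

theorem cover : ∀ K ∈ (List.range chevG2.rank).sublists, K ∈ cases.map (·.K) := by decide +kernel

theorem supp11 : Supp chevG2 [11] [11] := by constructor <;> decide +kernel

theorem supp9 : Supp chevG2 [9] [9, 10, 11] := by constructor <;> decide +kernel

theorem checkLong : Check chevG2 adjG2 11 1 (List.range 12) [4] := by constructor <;> decide +kernel

theorem short_closed : ∀ q ∈ [2, 3, 4, 7, 8, 9], ∀ i < chevG2.rank, wN chevG2 i q ∈ [2, 3, 4, 7, 8, 9] := by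
  decide +kernel

/-- Words for the twelve elements of the Weyl group. -/
def words : List (List ℕ) :=
  [[], [0], [1], [0, 1], [1, 0], [0, 1, 0], [1, 0, 1], [0, 1, 0, 1], [1, 0, 1, 0], [0, 1, 0, 1, 0],
    [1, 0, 1, 0, 1], [0, 1, 0, 1, 0, 1]]

theorem words_closed : ∀ w ∈ words, ∀ i < chevG2.rank, ∃ w' ∈ words, ∀ q < chevG2.nroots,
    wN chevG2 i (wW chevG2 w q) = wW chevG2 w' q := by decide +kernel

theorem words_fix : ∀ w ∈ words, wW chevG2 w 9 = 9 →
    (∀ q < chevG2.nroots, wW chevG2 w q = q) ∨ (∀ q < chevG2.nroots, wW chevG2 w q = wN chevG2 1 q) := by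
  decide +kernel

/-- Table facts used for the centraliser of `x_9(1)`. -/
theorem terms9 : (chevG2.commTerms 9 7).map (fun τ => (τ.1, decide (τ.2.1 % 2 ≠ 0), τ.2.2)) = [(10, true, 1, 1)] ∧
    (chevG2.commTerms 9 8).map (fun τ => (τ.1, decide (τ.2.1 % 2 ≠ 0), τ.2.2)) = [(11, true, 1, 1)] := by
  decide +kernel

theorem comm9 : ∀ s ∈ [9, 10, 11, 6, 5], s = 9 ∨ (s ≠ chevG2.neg 9 ∧ ∀ τ ∈ chevG2.commTerms 9 s, τ.2.1 % 2 = 0) := by
  decide +kernel

theorem abel : ∀ s ∈ [9, 10, 11], ∀ q ∈ [9, 10, 11], s = q ∨ (s ≠ chevG2.neg q ∧ ∀ τ ∈ chevG2.commTerms q s, τ.2.1 % 2 = 0) := by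
  decide +kernel

theorem normQ : ∀ s ∈ [5, 6, 7, 8, 9, 10, 11], ∀ q ∈ [7, 8, 9, 10, 11], q = s ∨
    (q ≠ chevG2.neg s ∧ ∀ τ ∈ chevG2.commTerms s q, τ.1 ∈ [7, 8, 9, 10, 11]) := by decide +kernel

theorem pos_list : ∀ s < chevG2.nroots, chevG2.IsPosRoot s → s ∈ [6, 7, 8, 9, 10, 11] := by decide +kernel

theorem gen7 : ∀ s ∈ [8, 9, 10, 11], (s ≠ 7 ∧ s ≠ chevG2.neg 7) ∧ ∀ τ ∈ chevG2.commTerms 7 s, τ.1 ∈ [8, 9, 10, 11] := by
  decide +kernel

theorem gen8 : ∀ s ∈ [9, 10, 11], (s ≠ 8 ∧ s ≠ chevG2.neg 8) ∧ ∀ τ ∈ chevG2.commTerms 8 s, τ.1 ∈ [9, 10, 11] := by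
  decide +kernel

theorem fixT : ∀ z ∈ [9, 10, 11], ∀ z' ∈ [9, 10, 11], z' = z ∨ (z' ≠ chevG2.neg z ∧ chevG2.chainEntry z z' = []) := by
  decide +kernel

theorem consts : chevG2.nroots = 12 ∧ chevG2.rank = 2 ∧ chevG2.simple 0 = 7 ∧ chevG2.simple 1 = 6 ∧
    chevG2.neg 6 = 5 ∧ chevG2.cartan 0 9 = 1 ∧ chevG2.cartan 1 9 = 0 ∧ chevG2.cartan 1 10 % 2 ≠ 0 ∧
    chevG2.cartan 1 11 % 2 ≠ 0 := by decide +kernel

variable {F : Type*} [Field F] [CharP F 2] (hD : Good chevG2)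
include hD

theorem eq_xg {g : GL chevG2.Idx F} {q : ℕ}
    (h : (g : Matrix chevG2.Idx chevG2.Idx F) = chevG2.x F q 1) : g = xg hD F q 1 :=
  Units.ext (h.trans (coe_xg hD q 1).symm)

theorem prodL_single (q : ℕ) : prodL hD F [q] = xg hD F q 1 := by simp [prodL]

theorem not_conj_short_long {g : GL chevG2.Idx F} (hg' : g ∈ chevG2.group F) :
    g * xg hD F 9 1 * g⁻¹ ≠ xg hD F 11 1 := by
  intro e
  rw [← prodL_single hD 9, ← prodL_single hD 11] at e
  obtain ⟨l, hl⟩ := exists_map hD rootsG2 supp9 supp11 hg' e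
  have h1 := hl 9 (by simp)
  have hs : ∀ l : List (Fin chevG2.rank), ∀ (q : Fin chevG2.nroots), q.val ∈ [2, 3, 4, 7, 8, 9] →
      ((chevRGD hD rootsG2 F).ww l q).val ∈ [2, 3, 4, 7, 8, 9] := by
    intro l
    induction l with
    | nil => exact fun q hq => hq
    | cons i l ih => exact fun q hq => short_closed _ (ih q hq) i i.isLt
  have h2 := hs l ⟨9, supp9.lt 9 (supp9.sub 9 (by simp))⟩ (by simp)
  rw [List.mem_singleton] at h1
  rw [h1] at h2
  simp at h2

theorem classes [Fintype F] :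
    (∀ y : GL chevG2.Idx F, (y : Matrix chevG2.Idx chevG2.Idx F) ∈ [chevG2.x F 11 1, chevG2.x F 9 1] →
      y ∈ chevG2.group F ∧ orderOf y = 2) ∧
    (∀ g ∈ chevG2.group F, orderOf g = 2 → ∃ y ∈ chevG2.group F,
      (y : Matrix chevG2.Idx chevG2.Idx F) ∈ [chevG2.x F 11 1, chevG2.x F 9 1] ∧
      ∃ h ∈ chevG2.group F, h * g * h⁻¹ = y) ∧
    (∀ y₁ ∈ chevG2.group F, ∀ y₂ ∈ chevG2.group F,
      (y₁ : Matrix chevG2.Idx chevG2.Idx F) ∈ [chevG2.x F 11 1, chevG2.x F 9 1] →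
      (y₂ : Matrix chevG2.Idx chevG2.Idx F) ∈ [chevG2.x F 11 1, chevG2.x F 9 1] →
      (∃ h ∈ chevG2.group F, h * y₁ * h⁻¹ = y₂) →
      (y₁ : Matrix chevG2.Idx chevG2.Idx F) = (y₂ : Matrix chevG2.Idx chevG2.Idx F)) := by
  refine ⟨fun y hy => ?_, fun g hg' ho => ?_, ?_⟩
  · obtain ⟨q, hq, rfl⟩ : ∃ q, q < chevG2.nroots ∧ y = xg hD F q 1 := by
      simp only [List.mem_cons, List.not_mem_nil, or_false] at hy
      rcases hy with h | h <;> exact ⟨_, by rw [consts.1]; norm_num, eq_xg hD h⟩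
    exact ⟨xg_mem_group hD _ _, orderOf_eq_prime (by rw [pow_two]; exact xg_sq hD q) (x_one_ne_one hD hq)⟩
  · have h1 : g ≠ 1 := fun e => by rw [e, orderOf_one] at ho; omega
    have h2 : g * g = 1 := by rw [← pow_two, ← ho]; exact pow_orderOf_eq_one g
    obtain ⟨R, hR, x, hx, e⟩ := exists_conj_rep hD rootsG2 w0OK cases_ok cover hg' h1 h2
    refine ⟨_, prodL_mem_group hD R, ?_, x, hx, e⟩
    simp only [List.mem_cons, List.not_mem_nil, or_false] at hR ⊢
    rcases hR with rfl | rfl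
    · exact Or.inl (by rw [prodL_single hD, coe_xg])
    · exact Or.inr (by rw [prodL_single hD, coe_xg])
  · intro y₁ _ y₂ _ h₁ h₂ ⟨h, hh, e⟩
    simp only [List.mem_cons, List.not_mem_nil, or_false] at h₁ h₂
    rcases h₁ with h₁ | h₁ <;> rcases h₂ with h₂ | h₂
    · rw [h₁, h₂]
    · rw [eq_xg hD h₁, eq_xg hD h₂] at e
      exact absurd (by rw [← e]; group) (not_conj_short_long hD (inv_mem hh))
    · rw [eq_xg hD h₁, eq_xg hD h₂] at e
      exact absurd e (not_conj_short_long hD hh)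
    · rw [h₁, h₂]

theorem centralizer_long {z : GL chevG2.Idx F}
    (hz : (z : Matrix chevG2.Idx chevG2.Idx F) = chevG2.x F 11 1) :
    chevG2.group F ⊓ Subgroup.centralizer {z} = chevG2.posUnipotent F ⊔ chevG2.rootSubgroup F 4 := by
  rw [centralizer_rootElement hD rootsG2 checkLong hz]
  refine le_antisymm (sup_le le_sup_left ((Subgroup.closure_le _).2 ?_))
    (sup_le le_sup_left ((Subgroup.closure_le _).2 ?_))
  · rintro g ⟨s, hs, c, e⟩
    obtain rfl := List.mem_singleton.1 hs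
    exact Subgroup.mem_sup_right (Subgroup.subset_closure ⟨c, e⟩)
  · rintro g ⟨c, e⟩
    exact Subgroup.mem_sup_right (Subgroup.subset_closure ⟨4, List.mem_singleton_self 4, c, e⟩)

/-! ### The centraliser of the short root element -/

/-- The unipotent radical. -/
abbrev radQ : Subgroup (GL chevG2.Idx F) := gen hD F {s | s ∈ [7, 8, 9, 10, 11]}

/-- The candidate for the centraliser. -/
abbrev candC : Subgroup (GL chevG2.Idx F) := gen hD F {s | s ∈ [9, 10, 11, 6, 5]}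

theorem commute_candC {g : GL chevG2.Idx F} (hg' : g ∈ candC hD) :
    g * xg hD F 9 1 = xg hD F 9 1 * g := by
  refine Subgroup.mem_centralizer_singleton_iff.1 ((gen_le hD ?_ :
    candC hD ≤ Subgroup.centralizer {xg hD F 9 1}) hg')
  intro s hs t
  refine Subgroup.mem_centralizer_singleton_iff.2 (xg_comm hD (comm9 s hs) ?_ ?_ 1 t).eq
  · rw [consts.1]; norm_num
  · simp only [Set.mem_ofPred_eq, List.mem_cons, List.not_mem_nil, or_false] at hs
    rw [consts.1]; omega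

theorem xg_mem_normalizer_radQ {s : ℕ} (hs : s ∈ [5, 6, 7, 8, 9, 10, 11]) (c : F) :
    xg hD F s c ∈ Subgroup.normalizer (radQ hD (F := F) : Set (GL chevG2.Idx F)) := by
  have hlt : ∀ q ∈ [5, 6, 7, 8, 9, 10, 11], q < chevG2.nroots := by decide +kernel
  have hlt' : ∀ q ∈ [7, 8, 9, 10, 11], q < chevG2.nroots := fun q hq => hlt q (by simp at hq ⊢; tauto)
  have hconj : ∀ c : F, ∀ w ∈ radQ hD (F := F), xg hD F s c * w * (xg hD F s c)⁻¹ ∈ radQ hD (F := F) := by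
    intro c w hw
    refine (gen_le hD (K := (radQ hD).comap (MulAut.conj (xg hD F s c)).toMonoidHom) fun q hq t => ?_) hw
    show xg hD F s c * xg hD F q t * (xg hD F s c)⁻¹ ∈ radQ hD
    rcases normQ s hs q hq with rfl | ⟨h2, h3⟩
    · rw [xg_add hD (hlt q hs), add_comm, ← xg_add hD (hlt q hs), mul_inv_cancel_right]
      exact xg_mem_gen hD hq t
    by_cases hqs : q = s
    · subst hqs
      rw [xg_add hD (hlt q hs), add_comm, ← xg_add hD (hlt q hs), mul_inv_cancel_right]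
      exact xg_mem_gen hD hq t
    -- move `x_s` through
    have hw : ((chevG2.commWord F s q (-c) t).map fun p => xg hD F p.1 p.2).prod ∈ radQ hD :=
      word_mem hD (fun τ hτ => Or.inl (h3 τ hτ)) (-c) t
    have e := xg_pass hD (hlt s hs) (hlt' q hq) hqs h2 (-c) t
    have e' : xg hD F s c * xg hD F q t * (xg hD F s c)⁻¹ =
        xg hD F q t * ((chevG2.commWord F s q (-c) t).map fun p => xg hD F p.1 p.2).prod := by
      rw [xg_inv, mul_assoc, e, ← xg_inv]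
      group
    rw [e']
    exact mul_mem (xg_mem_gen hD hq t) hw
  rw [Subgroup.mem_normalizer_iff]
  refine fun w => ⟨hconj c w, fun hw => ?_⟩
  have := hconj (-c) _ hw
  rw [← xg_inv] at this
  simpa [mul_assoc] using this

theorem diag_mem_normalizer_radQ {h : GL chevG2.Idx F} (hh : h ∈ chevG2.diagonalSubgroup F) :
    h ∈ Subgroup.normalizer (radQ hD (F := F) : Set (GL chevG2.Idx F)) := by
  have hconj : ∀ h ∈ chevG2.diagonalSubgroup F, ∀ w ∈ radQ hD (F := F), h * w * h⁻¹ ∈ radQ hD (F := F) := by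
    intro h hh w hw
    refine (gen_le hD (K := (radQ hD).comap (MulAut.conj h).toMonoidHom) fun q hq t => ?_) hw
    obtain ⟨v, hv⟩ := (mem_rootSubgroup hD q).1
      (toral_conj_rootSubgroup hD hh (xg_mem_rootSubgroup hD q t))
    show h * xg hD F q t * h⁻¹ ∈ radQ hD
    rw [hv]
    exact xg_mem_gen hD hq v
  rw [Subgroup.mem_normalizer_iff]
  exact fun w => ⟨hconj h hh w, fun hw => by simpa [mul_assoc] using hconj h⁻¹ (inv_mem hh) _ hw⟩

/-- Positive unipotent elements are `q x₆(a)`. -/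
theorem exists_pos_split {u : GL chevG2.Idx F} (hu : u ∈ chevG2.posUnipotent F) :
    ∃ q ∈ radQ hD, ∃ a : F, u = q * xg hD F 6 a := by
  have hn : ∀ a : F, ∀ q ∈ radQ hD (F := F), xg hD F 6 a * q * (xg hD F 6 a)⁻¹ ∈ radQ hD := fun a q hq =>
    (Subgroup.mem_normalizer_iff.1 (xg_mem_normalizer_radQ hD (by simp) a) q).1 hq
  have h6 : 6 < chevG2.nroots := by rw [consts.1]; norm_num
  induction hu using Subgroup.closure_induction with
  | mem x hx =>
    obtain ⟨s, t, hs, e⟩ := hx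
    obtain rfl : x = xg hD F s t := Units.ext e
    have := pos_list s hs.1 hs
    by_cases h : s = 6
    · exact ⟨1, one_mem _, t, by rw [h, one_mul]⟩
    · refine ⟨_, xg_mem_gen hD (show s ∈ [7, 8, 9, 10, 11] from ?_) t, 0, by rw [xg_zero, mul_one]⟩
      simp only [List.mem_cons, List.not_mem_nil, or_false] at this ⊢
      omega
  | one => exact ⟨1, one_mem _, 0, by rw [xg_zero, mul_one]⟩
  | mul x y _ _ hx hy =>
    obtain ⟨q, hq, a, rfl⟩ := hx
    obtain ⟨q', hq', a', rfl⟩ := hy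
    refine ⟨q * (xg hD F 6 a * q' * (xg hD F 6 a)⁻¹), mul_mem hq (hn a q' hq'), a + a', ?_⟩
    rw [← xg_add hD h6]
    group
  | inv x _ hx =>
    obtain ⟨q, hq, a, rfl⟩ := hx
    refine ⟨xg hD F 6 (-a) * q⁻¹ * (xg hD F 6 (-a))⁻¹, hn (-a) _ (inv_mem hq), -a, ?_⟩
    rw [← xg_inv]
    group

/-- The torus is `h_a(c)` times elements of the candidate. -/
theorem exists_torus_split {h : GL chevG2.Idx F} (hh : h ∈ chevG2.diagonalSubgroup F) :
    ∃ c : F, c ≠ 0 ∧ ∃ k ∈ candC hD, k ∈ chevG2.diagonalSubgroup F ∧ h = hg hD F 7 c * k := by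
  have h7 : 7 < chevG2.nroots := by rw [consts.1]; norm_num
  have h6 : 6 < chevG2.nroots := by rw [consts.1]; norm_num
  have hgd : ∀ r < chevG2.nroots, ∀ c : F, c ≠ 0 → hg hD F r c ∈ chevG2.diagonalSubgroup F :=
    fun r hr c hc => Subgroup.subset_closure ⟨_, c, hr, hc, coe_hg hD _ _⟩
  have h1 : hg hD F 7 (1 : F) = 1 := by rw [hg, ← ng_inv, mul_inv_cancel]
  have hng : ∀ t : F, ng hD F 6 t ∈ candC hD := fun t => by
    refine mul_mem (mul_mem (xg_mem_gen hD ?_ _) (xg_mem_gen hD ?_ _)) (xg_mem_gen hD ?_ _) <;>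
      simp [consts.2.2.2.2.1]
  have h' := diag_le_simple hD hh
  induction h' using Subgroup.closure_induction with
  | mem x hx =>
    obtain ⟨i, hi, c, hc0, rfl⟩ := hx
    rw [consts.2.1] at hi
    interval_cases i
    · exact ⟨c, hc0, 1, one_mem _, one_mem _, by rw [consts.2.2.1, mul_one]⟩
    · rw [consts.2.2.2.1]
      exact ⟨1, one_ne_zero, _, mul_mem (hng c) (hng (-1)), hgd 6 h6 c hc0, by rw [h1, one_mul]; rfl⟩
  | one => exact ⟨1, one_ne_zero, 1, one_mem _, one_mem _, by rw [h1, mul_one]⟩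
  | mul x y hx hy ihx ihy =>
    have hd : ∀ z ∈ Subgroup.closure {g : GL chevG2.Idx F | ∃ i, i < chevG2.rank ∧ ∃ c : F, c ≠ 0 ∧
        g = hg hD F (chevG2.simple i) c}, z ∈ chevG2.diagonalSubgroup F := fun z hz =>
      (Subgroup.closure_le _).2 (fun g hg' => by
        obtain ⟨i, hi, c, hc0, rfl⟩ := hg'; exact hgd _ (hD.simple_lt i hi) c hc0) hz
    obtain ⟨c, hc0, k, hk, hkd, rfl⟩ := ihx (hd _ hx)
    obtain ⟨c', hc0', k', hk', hkd', rfl⟩ := ihy (hd _ hy)
    refine ⟨c * c', mul_ne_zero hc0 hc0', k * k', mul_mem hk hk', mul_mem hkd hkd', ?_⟩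
    rw [hg_mul hD _ h7 hc0 hc0', mul_assoc (hg hD F 7 c) k, ← mul_assoc k,
      diag_commute hD hkd (hgd 7 h7 c' hc0')]
    group
  | inv x hx ihx =>
    obtain ⟨c, hc0, k, hk, hkd, rfl⟩ := ihx (by simpa using inv_mem hh)
    refine ⟨c⁻¹, inv_ne_zero hc0, k⁻¹, inv_mem hk, inv_mem hkd, ?_⟩
    have e : hg hD F 7 c⁻¹ = (hg hD F 7 c)⁻¹ := by
      refine eq_inv_of_mul_eq_one_left ?_
      rw [← hg_mul hD _ h7 (inv_ne_zero hc0) hc0, inv_mul_cancel₀ hc0, h1]
    rw [e, _root_.mul_inv_rev]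
    exact diag_commute hD (inv_mem hkd) (inv_mem (hgd 7 h7 c hc0))

theorem unip9 {g : GL chevG2.Idx F} (hg' : g ∈ gen hD F {z | z ∈ [9, 10, 11]}) : Unip chevG2 [9, 10, 11] g :=
  unip_supp hD supp9 hg'

theorem kap_xg9 {z q : ℕ} (hz : z < chevG2.nroots) {i : ℕ} (hi : i < chevG2.rank)
    (hodd : chevG2.cartan i q % 2 ≠ 0) (hq : q < chevG2.nroots) (t : F) :
    kap ⟨z, hz⟩ ⟨i, hi⟩ (xg hD F q t) = if z = q then t else 0 := by
  simp only [kap, coe_xg, x_eq_xR chevG2 hq, xR_inl]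
  by_cases h : z = q <;> simp [ev, h, ChevCentralizer.intCast_eq_one hodd, CharTwo.neg_eq]

theorem move_single {q s z : ℕ} (hq : q < chevG2.nroots) (hs : s < chevG2.nroots) (h₁ : s ≠ q)
    (h₂ : s ≠ chevG2.neg q)
    (h : (chevG2.commTerms q s).map (fun τ => (τ.1, decide (τ.2.1 % 2 ≠ 0), τ.2.2)) = [(z, true, 1, 1)])
    (t u : F) : xg hD F s u * xg hD F q t = xg hD F q t * xg hD F s u * xg hD F z (t * u) := by
  rw [xg_pass hD hq hs h₁ h₂]
  congr 1
  obtain ⟨τ, hτ⟩ := List.length_eq_one_iff.1 (by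
    simpa using congrArg List.length h : (chevG2.commTerms q s).length = 1)
  rw [hτ] at h
  simp only [List.map_cons, List.map_nil, List.cons.injEq, Prod.mk.injEq, decide_eq_true_eq, and_true] at h
  obtain ⟨h1, h2, h3⟩ := h
  simp [ChevalleyDatum.commWord, hτ, h1, h3, ChevCentralizer.intCast_eq_one h2, CharTwo.neg_eq]

theorem mem_candC_of_radQ {c : F} {q : GL chevG2.Idx F} (hq : q ∈ radQ hD)
    (e : q * xg hD F 9 c * q⁻¹ = xg hD F 9 1) : c = 1 ∧ q ∈ candC hD := by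
  have hlt : ∀ s ∈ [7, 8, 9, 10, 11], s < chevG2.nroots := by decide +kernel
  have e7 : radQ hD (F := F) = gen hD F (insert 7 {s | s ∈ [8, 9, 10, 11]}) :=
    congrArg (gen hD F) (Set.ext fun s => by simp)
  replace hq := e7.le hq
  obtain ⟨x, p, hp, rfl⟩ := gen_insert hD (hlt 7 (by simp)) (fun s hs => hlt s (List.mem_cons_of_mem _ hs))
    (fun s hs => (gen7 s hs).1) (fun s hs => (gen7 s hs).2) hq
  have e8 : gen hD F {s | s ∈ [8, 9, 10, 11]} = gen hD F (insert 8 {s | s ∈ [9, 10, 11]}) :=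
    congrArg (gen hD F) (Set.ext fun s => by simp)
  replace hp := e8.le hp
  obtain ⟨y, z, hz, rfl⟩ := gen_insert hD (hlt 8 (by simp))
    (fun s hs => hlt s (List.mem_cons_of_mem _ (List.mem_cons_of_mem _ hs)))
    (fun s hs => (gen8 s hs).1) (fun s hs => (gen8 s hs).2) hp
  have hab : ∀ s ∈ [9, 10, 11], ∀ (t : F) (w : GL chevG2.Idx F), w ∈ gen hD F {s | s ∈ [9, 10, 11]} →
      w * xg hD F s t = xg hD F s t * w := by
    intro s hs t w hw
    refine Subgroup.mem_centralizer_singleton_iff.1 ((gen_le hD ?_ :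
      gen hD F {s | s ∈ [9, 10, 11]} ≤ Subgroup.centralizer {xg hD F s t}) hw)
    intro q hq u
    exact Subgroup.mem_centralizer_singleton_iff.2
      (xg_comm hD (abel q hq s hs) (hlt s (List.mem_cons_of_mem _ (List.mem_cons_of_mem _ hs)))
        (hlt q (List.mem_cons_of_mem _ (List.mem_cons_of_mem _ hq))) t u).eq
  have h98 : (8 : ℕ) ≠ chevG2.neg 9 := by decide +kernel
  have h97 : (7 : ℕ) ≠ chevG2.neg 9 := by decide +kernel
  have h7_11 : ∀ τ ∈ chevG2.commTerms 11 7, τ.2.1 % 2 = 0 := by decide +kernel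
  have h7_11n : (7 : ℕ) ≠ chevG2.neg 11 := by decide +kernel
  have k8 := move_single hD (hlt 9 (by simp)) (hlt 8 (by simp)) (by norm_num) h98 terms9.2 c y
  have k7 := move_single hD (hlt 9 (by simp)) (hlt 7 (by simp)) (by norm_num) h97 terms9.1 c x
  have k11 := (xg_comm hD (Or.inr ⟨h7_11n, h7_11⟩) (hlt 11 (by simp)) (hlt 7 (by simp)) (c * y) x).eq
  have k8c : xg hD F 8 y * xg hD F 11 (c * y) = xg hD F 11 (c * y) * xg hD F 8 y :=
    (xg_comm hD (by decide +kernel) (hlt 11 (by simp)) (hlt 8 (by simp)) (c * y) y).eq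
  have k7c : xg hD F 7 x * xg hD F 10 (c * x) = xg hD F 10 (c * x) * xg hD F 7 x :=
    (xg_comm hD (by decide +kernel) (hlt 10 (by simp)) (hlt 7 (by simp)) (c * x) x).eq
  have e' : xg hD F 7 x * (xg hD F 8 y * z) * xg hD F 9 c * (xg hD F 7 x * (xg hD F 8 y * z))⁻¹ =
      xg hD F 9 c * xg hD F 10 (c * x) * xg hD F 11 (c * y) := by
    calc _ = xg hD F 7 x * (xg hD F 8 y * (z * xg hD F 9 c)) * z⁻¹ * (xg hD F 8 y)⁻¹ * (xg hD F 7 x)⁻¹ := by group
      _ = xg hD F 7 x * (xg hD F 8 y * xg hD F 9 c) * (xg hD F 8 y)⁻¹ * (xg hD F 7 x)⁻¹ := by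
        rw [hab 9 (by simp) c z hz]; group
      _ = xg hD F 7 x * (xg hD F 9 c * (xg hD F 8 y * xg hD F 11 (c * y))) * (xg hD F 8 y)⁻¹ *
          (xg hD F 7 x)⁻¹ := by rw [k8]; group
      _ = (xg hD F 7 x * xg hD F 9 c) * xg hD F 11 (c * y) * (xg hD F 7 x)⁻¹ := by rw [k8c]; group
      _ = xg hD F 9 c * xg hD F 7 x * (xg hD F 10 (c * x) * xg hD F 11 (c * y)) * (xg hD F 7 x)⁻¹ := by
        rw [k7]; group
      _ = xg hD F 9 c * ((xg hD F 7 x * xg hD F 10 (c * x)) * xg hD F 11 (c * y)) * (xg hD F 7 x)⁻¹ := by group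
      _ = xg hD F 9 c * xg hD F 10 (c * x) * (xg hD F 7 x * xg hD F 11 (c * y)) * (xg hD F 7 x)⁻¹ := by
        rw [k7c]; group
      _ = _ := by rw [k11]; group
  rw [e'] at e
  have m9 : ∀ s ∈ [9, 10, 11], ∀ t : F, xg hD F s t ∈ gen hD F {s | s ∈ [9, 10, 11]} :=
    fun s hs t => xg_mem_gen hD hs t
  have hk : ∀ (s : ℕ) (hs : s < chevG2.nroots) (i : ℕ) (hi : i < chevG2.rank),
      kap ⟨s, hs⟩ ⟨i, hi⟩ (xg hD F 9 c) + kap ⟨s, hs⟩ ⟨i, hi⟩ (xg hD F 10 (c * x)) +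
        kap ⟨s, hs⟩ ⟨i, hi⟩ (xg hD F 11 (c * y)) = kap ⟨s, hs⟩ ⟨i, hi⟩ (xg hD F 9 1) := by
    intro s hs i hi
    rw [← kap_mul (unip9 hD (m9 9 (by simp) c)) (unip9 hD (m9 10 (by simp) _)),
      ← kap_mul (unip9 hD (mul_mem (m9 9 (by simp) c) (m9 10 (by simp) _))) (unip9 hD (m9 11 (by simp) _)), e]
  have hz9 : ∀ (s : ℕ) (hs : s < chevG2.nroots) (i : ℕ) (hi : i < chevG2.rank) (q : ℕ), q < chevG2.nroots → s ≠ q →
      ∀ t : F, kap ⟨s, hs⟩ ⟨i, hi⟩ (xg hD F q t) = 0 := by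
    intro s hs i hi q hq hne t
    simp only [kap, coe_xg, x_eq_xR chevG2 hq, xR_inl]
    simp [ev, hne]
  have h0 : (0 : ℕ) < chevG2.rank := by rw [consts.2.1]; norm_num
  have h1 : (1 : ℕ) < chevG2.rank := by rw [consts.2.1]; norm_num
  have l9 := hlt 9 (by simp)
  have l10 := hlt 10 (by simp)
  have l11 := hlt 11 (by simp)
  have c9 : chevG2.cartan 0 9 % 2 ≠ 0 := by rw [consts.2.2.2.2.2.1]; norm_num
  have hc : c = 1 := by
    simpa [kap_xg9 hD l9 h0 c9 l9, hz9 9 l9 0 h0 10 l10 (by norm_num), hz9 9 l9 0 h0 11 l11 (by norm_num)]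
      using hk 9 l9 0 h0
  subst hc
  have hx : x = 0 := by
    simpa [hz9 10 l10 1 h1 9 l9 (by norm_num), kap_xg9 hD l10 h1 consts.2.2.2.2.2.2.2.1 l10,
      hz9 10 l10 1 h1 11 l11 (by norm_num)] using hk 10 l10 1 h1
  have hy : y = 0 := by
    simpa [hz9 11 l11 1 h1 9 l9 (by norm_num), hz9 11 l11 1 h1 10 l10 (by norm_num),
      kap_xg9 hD l11 h1 consts.2.2.2.2.2.2.2.2 l11] using hk 11 l11 1 h1
  subst hx hy
  refine ⟨rfl, ?_⟩
  rw [xg_zero, xg_zero, one_mul, one_mul]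
  exact gen_le hD (fun s hs t => xg_mem_gen hD
    (show s ∈ [9, 10, 11, 6, 5] by
      replace hs : s ∈ [9, 10, 11] := hs
      simp only [List.mem_cons, List.not_mem_nil, or_false] at hs ⊢; omega) t) hz

theorem centralizer_short {t : GL chevG2.Idx F}
    (ht : (t : Matrix chevG2.Idx chevG2.Idx F) = chevG2.x F 9 1) :
    chevG2.group F ⊓ Subgroup.centralizer {t} = chevG2.rootSubgroup F 9 ⊔ chevG2.rootSubgroup F 10 ⊔
      chevG2.rootSubgroup F 11 ⊔ chevG2.rootSubgroup F 6 ⊔ chevG2.rootSubgroup F 5 := by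
  obtain rfl := eq_xg hD ht
  have hC : chevG2.rootSubgroup F 9 ⊔ chevG2.rootSubgroup F 10 ⊔ chevG2.rootSubgroup F 11 ⊔
      chevG2.rootSubgroup F 6 ⊔ chevG2.rootSubgroup F 5 = candC hD := by
    have h1 : ∀ s ∈ [9, 10, 11, 6, 5], chevG2.rootSubgroup F s ≤ candC hD := fun s hs g hg' => by
      obtain ⟨t, rfl⟩ := (mem_rootSubgroup hD s).1 hg'
      exact xg_mem_gen hD hs t
    refine le_antisymm (sup_le (sup_le (sup_le (sup_le (h1 9 (by simp)) (h1 10 (by simp))) (h1 11 (by simp)))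
      (h1 6 (by simp))) (h1 5 (by simp))) (gen_le hD fun s hs t => ?_)
    have hm := xg_mem_rootSubgroup hD (F := F) s t
    simp only [Set.mem_ofPred_eq, List.mem_cons, List.not_mem_nil, or_false] at hs
    rcases hs with rfl | rfl | rfl | rfl | rfl
    · exact Subgroup.mem_sup_left (Subgroup.mem_sup_left (Subgroup.mem_sup_left (Subgroup.mem_sup_left hm)))
    · exact Subgroup.mem_sup_left (Subgroup.mem_sup_left (Subgroup.mem_sup_left (Subgroup.mem_sup_right hm)))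
    · exact Subgroup.mem_sup_left (Subgroup.mem_sup_left (Subgroup.mem_sup_right hm))
    · exact Subgroup.mem_sup_left (Subgroup.mem_sup_right hm)
    · exact Subgroup.mem_sup_right hm
  rw [hC]
  refine le_antisymm ?_ (le_inf (gen_le_group hD _) fun g hg' =>
    Subgroup.mem_centralizer_singleton_iff.2 (commute_candC hD hg'))
  rintro g ⟨hgG, hgC⟩
  replace hgC : g * xg hD F 9 1 = xg hD F 9 1 * g := Subgroup.mem_centralizer_singleton_iff.1 hgC
  set R := chevRGD hD rootsG2 F with hRdef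
  replace hgG : g ∈ R.G := by rw [hRdef, chev_G hD rootsG2]; exact hgG
  obtain ⟨b, hb, l, u, hu, eg⟩ := R.exists_normalForm hgG
  obtain ⟨u₁, hu₁, h, hh, eb⟩ := R.exists_B hb
  replace hu₁ : u₁ ∈ chevG2.posUnipotent F := by rw [← chev_Upos hD rootsG2]; exact hu₁
  replace hu : u ∈ chevG2.posUnipotent F := by rw [← chev_Upos hD rootsG2]; exact R.Uminus_le_Upos l hu
  subst eb eg
  -- the Weyl element fixes the root 9
  have h9 : (R.ww l ⟨9, supp9.lt 9 (supp9.sub 9 (by simp))⟩).val = 9 := by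
    have h1 := map_of_form hD rootsG2 supp9 supp9 hu₁ hh hu l (by
      rw [prodL_single hD]; exact mul_inv_eq_iff_eq_mul.2 hgC) 9 (by simp)
    have hs : ∀ l : List (Fin chevG2.rank), ∀ (q : Fin chevG2.nroots), q.val ∈ [2, 3, 4, 7, 8, 9] →
        (R.ww l q).val ∈ [2, 3, 4, 7, 8, 9] := by
      intro l
      induction l with
      | nil => exact fun q hq => hq
      | cons i l ih => exact fun q hq => short_closed _ (ih q hq) i i.isLt
    have h2 := hs l ⟨9, supp9.lt 9 (supp9.sub 9 (by simp))⟩ (by simp)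
    change (R.ww l ⟨9, supp9.lt 9 (supp9.sub 9 (by simp))⟩).val ∈ [9, 10, 11] at h1
    revert h1 h2
    generalize (R.ww l ⟨9, supp9.lt 9 (supp9.sub 9 (by simp))⟩).val = v
    intro h1 h2
    simp only [List.mem_cons, List.not_mem_nil, or_false] at h1 h2
    omega
  have hword : ∀ l : List (Fin chevG2.rank), ∃ w ∈ words, ∀ q < chevG2.nroots,
      wW chevG2 (l.map Fin.val) q = wW chevG2 w q := by
    intro l
    induction l with
    | nil => exact ⟨[], by simp [words], fun q _ => rfl⟩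
    | cons i l ih =>
      obtain ⟨w, hw, e⟩ := ih
      obtain ⟨w', hw', e'⟩ := words_closed w hw i i.isLt
      refine ⟨w', hw', fun q hq => ?_⟩
      rw [← e' q hq, ← e q hq]
      rfl
  obtain ⟨w, hw, ew⟩ := hword l
  have hn : ∃ k ∈ chevG2.diagonalSubgroup F, ∃ n ∈ candC hD, R.nw l = k * n := by
    have hw9 : wW chevG2 w 9 = 9 := by
      rw [← ew 9 (by rw [consts.1]; norm_num)]
      exact (wW_eq hD rootsG2 l _).trans h9
    rcases words_fix w hw hw9 with hid | hb'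
    · refine ⟨_, R.mem_H_of_pos fun q hq => ?_, 1, one_mem _, (mul_one _).symm⟩
      have : R.ww l q = q := Fin.ext (by rw [← wW_eq hD rootsG2, ew q.val q.isLt, hid q.val q.isLt])
      rwa [this]
    · let i1 : Fin chevG2.rank := ⟨1, by rw [consts.2.1]; norm_num⟩
      have hfix : ∀ q, R.ww (l ++ [i1]) q = q := fun q => by
        rw [R.ww_append, R.ww_cons, R.ww_nil]
        refine Fin.ext ?_
        rw [← wW_eq hD rootsG2, ew _ (R.w i1 q).isLt, hb' _ (R.w i1 q).isLt]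
        exact congrArg Fin.val (R.w_w i1 q)
      refine ⟨_, R.mem_H_of_pos (l := l ++ [i1]) fun q hq => by rw [hfix]; exact hq, (R.n i1)⁻¹, inv_mem ?_, ?_⟩
      · show ng hD F (chevG2.simple 1) 1 ∈ candC hD
        rw [consts.2.2.2.1]
        refine mul_mem (mul_mem (xg_mem_gen hD ?_ _) (xg_mem_gen hD ?_ _)) (xg_mem_gen hD ?_ _) <;>
          simp [consts.2.2.2.2.1]
      · rw [R.nw_append, R.nw_cons, R.nw_nil, mul_one, mul_inv_cancel_right]
  obtain ⟨k, hk, n, hn', en⟩ := hn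
  obtain ⟨q₁, hq₁, a, rfl⟩ := exists_pos_split hD hu₁
  obtain ⟨q₂, hq₂, a', rfl⟩ := exists_pos_split hD hu
  obtain ⟨c, hc0, k', hk', hkd', ek⟩ := exists_torus_split hD (mul_mem hh hk)
  have h7 : 7 < chevG2.nroots := by rw [consts.1]; norm_num
  have hgd : hg hD F 7 c ∈ chevG2.diagonalSubgroup F := Subgroup.subset_closure ⟨_, c, h7, hc0, coe_hg hD _ _⟩
  obtain ⟨v, hv⟩ := (mem_rootSubgroup hD 6).1
    (toral_conj_rootSubgroup hD (inv_mem hgd) (xg_mem_rootSubgroup hD (F := F) 6 a))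
  rw [inv_inv] at hv
  set c₀ := xg hD F 6 v * k' * n * xg hD F 6 a' with hc₀
  have hc₀C : c₀ ∈ candC hD := mul_mem (mul_mem (mul_mem (xg_mem_gen hD (by simp) v) hk') hn')
    (xg_mem_gen hD (by simp) a')
  set m := xg hD F 6 a * (h * k) * n with hm
  have hmN : m ∈ Subgroup.normalizer (radQ hD (F := F) : Set (GL chevG2.Idx F)) := by
    refine mul_mem (mul_mem (xg_mem_normalizer_radQ hD (by simp) a) (diag_mem_normalizer_radQ hD (mul_mem hh hk))) ?_
    have hle : candC hD (F := F) ≤ Subgroup.normalizer (radQ hD (F := F) : Set (GL chevG2.Idx F)) :=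
      gen_le hD fun s hs t => xg_mem_normalizer_radQ hD
        (by simp only [Set.mem_ofPred_eq, List.mem_cons, List.not_mem_nil, or_false] at hs ⊢; omega) t
    exact hle hn'
  set q := q₁ * (m * q₂ * m⁻¹) with hq
  have hqQ : q ∈ radQ hD := mul_mem hq₁ ((Subgroup.mem_normalizer_iff.1 hmN q₂).1 hq₂)
  have em : m * xg hD F 6 a' = hg hD F 7 c * c₀ := by
    rw [hm, hc₀, ek, ← hv]; group
  have eg : q₁ * xg hD F 6 a * h * R.nw l * (q₂ * xg hD F 6 a') = q * (hg hD F 7 c * c₀) := by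
    rw [← em, hq, hm, en]; group
  rw [eg] at hgC ⊢
  have e9 : hg hD F 7 c * xg hD F 9 1 * (hg hD F 7 c)⁻¹ = xg hD F 9 c := by
    rw [hg_conj hD h7 hc0, mul_inv_cancel_right]
    congr 1
    rw [show chevG2.pairing 7 9 = 1 by rw [← consts.2.2.1, pairing_simple hD (by rw [consts.2.1]; norm_num)]; exact consts.2.2.2.2.2.1,
      zpow_one, mul_one]
  have eq9 : q * xg hD F 9 c * q⁻¹ = xg hD F 9 1 := by
    rw [← e9]
    calc q * (hg hD F 7 c * xg hD F 9 1 * (hg hD F 7 c)⁻¹) * q⁻¹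
        = q * hg hD F 7 c * (c₀ * xg hD F 9 1 * c₀⁻¹) * (q * hg hD F 7 c)⁻¹ := by
          rw [commute_candC hD hc₀C]; group
      _ = q * (hg hD F 7 c * c₀) * xg hD F 9 1 * (q * (hg hD F 7 c * c₀))⁻¹ := by group
      _ = _ := by rw [hgC]; group
  obtain ⟨rfl, hqC⟩ := mem_candC_of_radQ hD hqQ eq9
  rw [show hg hD F 7 (1 : F) = 1 by rw [hg, ← ng_inv, mul_inv_cancel], one_mul]
  exact mul_mem hqC hc₀C

end Cfsg.Agent.ChevInvolution.G2
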