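import Cfsg.Agent.Lib.ChevCentralizer.Tables

/-!
# Centralisers of highest root elements: F4 and E6, E7, E8

The statements S2178 and S2209, from the table conditions `Good`.
-/

set_option autoImplicit false

namespace Cfsg.Agent.ChevCentralizer

open Cfsg.Lie Cfsg.Lie.ChevalleyDatum Cfsg.Agent.Chev Cfsg.Agent.ChevBN

variable {F : Type*} [Field F] [CharP F 2]

theorem cand_triple (D : ChevalleyDatum) (a b c : ℕ) :
    cand D [a, b, c] F = D.posUnipotent F ⊔ D.rootSubgroup F a ⊔ D.rootSubgroup F b ⊔ D.rootSubgroup F c := by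
  apply le_antisymm
  · refine sup_le (le_sup_left.trans (le_sup_left.trans le_sup_left)) ((Subgroup.closure_le _).2 ?_)
    rintro g ⟨s, hs, t, ht⟩
    have hg : g ∈ D.rootSubgroup F s := Subgroup.subset_closure ⟨t, ht⟩
    simp only [List.mem_cons, List.not_mem_nil, or_false] at hs
    rcases hs with rfl | rfl | rfl
    · exact Subgroup.mem_sup_left (Subgroup.mem_sup_left (Subgroup.mem_sup_right hg))
    · exact Subgroup.mem_sup_left (Subgroup.mem_sup_right hg)
    · exact Subgroup.mem_sup_right hg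
  · have key : ∀ s ∈ [a, b, c], D.rootSubgroup F s ≤ cand D [a, b, c] F := by
      intro s hs
      refine (Subgroup.closure_le _).2 ?_
      rintro g ⟨t, ht⟩
      exact Subgroup.mem_sup_right (Subgroup.subset_closure ⟨s, hs, t, ht⟩)
    exact sup_le (sup_le (sup_le le_sup_left (key a (by simp))) (key b (by simp))) (key c (by simp))

theorem centralizer_chevF4 (hD : Good chevF4) [Fintype F] (t u : GL chevF4.Idx F)
    (ht : (t : Matrix chevF4.Idx chevF4.Idx F) = chevF4.x F 47 1)
    (hu : (u : Matrix chevF4.Idx chevF4.Idx F) = chevF4.x F 44 1) :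
    chevF4.group F ⊓ Subgroup.centralizer {t} =
      chevF4.posUnipotent F ⊔ chevF4.rootSubgroup F 14 ⊔ chevF4.rootSubgroup F 20 ⊔ chevF4.rootSubgroup F 22 ∧
    chevF4.group F ⊓ Subgroup.centralizer {u} =
      chevF4.posUnipotent F ⊔ chevF4.rootSubgroup F 20 ⊔ chevF4.rootSubgroup F 22 ⊔ chevF4.rootSubgroup F 23 :=
  ⟨(centralizer_rootElement hD rootsF4 checkF4long ht).trans (cand_triple _ _ _ _),
    (centralizer_rootElement hD rootsF4 checkF4short hu).trans (cand_triple _ _ _ _)⟩

theorem centralizer_chevE6 (hD : Good chevE6) (t : GL chevE6.Idx F)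
    (ht : (t : Matrix chevE6.Idx chevE6.Idx F) = chevE6.x F (chevE6.nroots - 1) 1) :
    chevE6.group F ⊓ Subgroup.centralizer {t} = chevE6.posUnipotent F ⊔ Subgroup.closure
      {g : GL chevE6.Idx F | ∃ s ∈ [15, 29, 32, 34, 35], ∃ c : F,
        (g : Matrix chevE6.Idx chevE6.Idx F) = chevE6.x F s c} :=
  centralizer_rootElement hD rootsE6 checkE6 ht

theorem centralizer_chevE7 (hD : Good chevE7) (t : GL chevE7.Idx F)
    (ht : (t : Matrix chevE7.Idx chevE7.Idx F) = chevE7.x F (chevE7.nroots - 1) 1) :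
    chevE7.group F ⊓ Subgroup.centralizer {t} = chevE7.posUnipotent F ⊔ Subgroup.closure
      {g : GL chevE7.Idx F | ∃ s ∈ [47, 52, 56, 59, 61, 62], ∃ c : F,
        (g : Matrix chevE7.Idx chevE7.Idx F) = chevE7.x F s c} :=
  centralizer_rootElement hD rootsE7 checkE7 ht

theorem centralizer_chevE8 (hD : Good chevE8) (t : GL chevE8.Idx F)
    (ht : (t : Matrix chevE8.Idx chevE8.Idx F) = chevE8.x F (chevE8.nroots - 1) 1) :
    chevE8.group F ⊓ Subgroup.centralizer {t} = chevE8.posUnipotent F ⊔ Subgroup.closure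
      {g : GL chevE8.Idx F | ∃ s ∈ [77, 98, 104, 109, 113, 116, 118], ∃ c : F,
        (g : Matrix chevE8.Idx chevE8.Idx F) = chevE8.x F s c} :=
  centralizer_rootElement hD rootsE8 checkE8 ht

end Cfsg.Agent.ChevCentralizer
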