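import Cfsg.Agent.Lib.ChevCentralizer.MixedTables

/-!
# Centralisers of the two mixed involutions of F4 in characteristic two

`centralizer_mixed_long_short`, `centralizer_mixed_orthogonal`: the statement S2179, from `Good chevF4`.
-/

set_option autoImplicit false

namespace Cfsg.Agent.ChevCentralizer

open Cfsg.Lie Cfsg.Lie.ChevalleyDatum Cfsg.Agent.Chev Cfsg.Agent.ChevBN

variable {F : Type*} [Field F] [CharP F 2] (hD : Good chevF4)
include hD

theorem centralizer_mixed_long_short {w : GL chevF4.Idx F}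
    (hw : (w : Matrix chevF4.Idx chevF4.Idx F) = chevF4.x F 47 1 * chevF4.x F 44 1) :
    chevF4.group F ⊓ Subgroup.centralizer {w} =
      chevF4.posUnipotent F ⊔ chevF4.rootSubgroup F 20 ⊔ chevF4.rootSubgroup F 22 := by
  have hU : chevF4.posUnipotent F ≤ gen hD F {s | s ∈ genA} := by
    rw [posUnipotent_eq_gen hD]
    exact gen_le hD fun s hs t => xg_mem_gen hD
      (show s ∈ genA from List.mem_append_left _ (List.mem_filter.2
        ⟨List.mem_range.2 hs.1, decide_eq_true hs⟩)) t
  have hc : xg hD F 47 1 * xg hD F 44 1 = xg hD F 44 1 * xg hD F 47 1 :=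
    (xg_comm (F := F) hD (checkA.comm 47 (by decide +kernel) 44 (by simp)) (checkA.lt 44 (by simp))
      (checkA.S_lt 47 (by decide +kernel)) 1 1).eq
  have ht : (w : Matrix chevF4.Idx chevF4.Idx F) = chevF4.x F 44 1 * chevF4.x F 47 1 := by
    rw [hw]
    have := congrArg Units.val hc
    simpa using this
  rw [centralizer_pair hD checkA rootsF4 (C := ∅) (fun q hq => hq.elim)
    (fun u hu => ⟨1, one_mem _, by simpa using hU hu⟩) (fun u hu _ => hU hu) ht]
  apply le_antisymm
  · refine gen_le hD fun s hs t => ?_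
    rcases List.mem_append.1 (show s ∈ genA from hs) with h | h
    · exact Subgroup.mem_sup_left (Subgroup.mem_sup_left (Subgroup.subset_closure
        ⟨s, t, of_decide_eq_true (List.mem_filter.1 h).2, coe_xg hD s t⟩))
    · rcases List.mem_pair.1 h with rfl | rfl
      · exact Subgroup.mem_sup_left (Subgroup.mem_sup_right (xg_mem_rootSubgroup hD _ t))
      · exact Subgroup.mem_sup_right (xg_mem_rootSubgroup hD _ t)
  · have key : ∀ s ∈ [20, 22], chevF4.rootSubgroup F s ≤ gen hD F {s | s ∈ genA} := by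
      intro s hs g hg'
      obtain ⟨t, rfl⟩ := (mem_rootSubgroup hD s).1 hg'
      exact xg_mem_gen hD (show s ∈ genA from List.mem_append_right _ hs) t
    exact sup_le (sup_le hU (key 20 (by simp))) (key 22 (by simp))

theorem exists_decomp_B {u : GL chevF4.Idx F} (hu : u ∈ chevF4.posUnipotent F) :
    ∃ a b e f : F, ∃ p ∈ gen hD F {s | s ∈ posB},
      u = xg hD F 27 a * (xg hD F 34 b * (xg hD F 25 e * (xg hD F 26 f * p))) := by
  have hall := posRoots_sub
  have hch := chainB
  generalize posB = P at hall hch ⊢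
  have h0 : u ∈ gen hD F (insert 27 {s | s ∈ 34 :: 25 :: 26 :: P}) := by
    rw [posUnipotent_eq_gen hD] at hu
    refine gen_le hD (fun s hs t => xg_mem_gen hD ?_ t) hu
    rcases List.mem_cons.1 (hall s hs.1 hs) with h | h
    · exact Or.inl h
    · exact Or.inr h
  have step : ∀ r T, (r, T) ∈ [(26, P), (25, 26 :: P), (34, 25 :: 26 :: P),
      (27, 34 :: 25 :: 26 :: P)] → ∀ g ∈ gen hD F (insert r {s | s ∈ T}),
      ∃ t, ∃ p ∈ gen hD F {s | s ∈ T}, g = xg hD F r t * p := by
    intro r T hrT g hg'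
    obtain ⟨hr, h⟩ := hch (r, T) hrT
    exact gen_insert hD hr (fun s hs => (h s hs).1) (fun s hs => (h s hs).2.1)
      (fun s hs τ hτ => (h s hs).2.2 τ hτ) hg'
  have hins : ∀ r (T : List ℕ), ({s | s ∈ r :: T} : Set ℕ) = insert r {s | s ∈ T} := fun r T => by
    ext s; simp
  obtain ⟨a, p₁, hp₁, e₁⟩ := step 27 (34 :: 25 :: 26 :: P) (by simp) u h0
  rw [hins 34] at hp₁
  obtain ⟨b, p₂, hp₂, e₂⟩ := step 34 (25 :: 26 :: P) (by simp) p₁ hp₁
  rw [hins 25] at hp₂
  obtain ⟨e, p₃, hp₃, e₃⟩ := step 25 (26 :: P) (by simp) p₂ hp₂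
  rw [hins 26] at hp₃
  obtain ⟨f, p₄, hp₄, e₄⟩ := step 26 P (by simp) p₃ hp₃
  exact ⟨a, b, e, f, p₄, hp₄, by rw [e₁, e₂, e₃, e₄]⟩

theorem centralizer_mixed_orthogonal {v : GL chevF4.Idx F}
    (hv : (v : Matrix chevF4.Idx chevF4.Idx F) = chevF4.x F 39 1 * chevF4.x F 45 1) :
    chevF4.group F ⊓ Subgroup.centralizer {v} =
      chevF4.rootSubgroup F 33 ⊔ chevF4.rootSubgroup F 14 ⊔ chevF4.rootSubgroup F 24 ⊔
        chevF4.rootSubgroup F 23 ⊔ Subgroup.closure {g : GL chevF4.Idx F | ∃ (r : ℕ) (c : F),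
          chevF4.IsPosRoot r ∧ r ∉ [27, 25, 34, 26] ∧
            (g : Matrix chevF4.Idx chevF4.Idx F) = chevF4.x F r c} := by
  have hPB : ∀ p ∈ gen hD F {s | s ∈ posB}, p ∈ gen hD F {s | s ∈ genB} := fun p hp =>
    gen_le hD (fun s hs t => xg_mem_gen hD (show s ∈ genB from posB_sub s hs) t) hp
  have hcomm : ∀ p ∈ gen hD F {s | s ∈ genB}, Commute p (xg hD F 39 1 * xg hD F 45 1) := by
    intro p hp
    have : gen hD F {s | s ∈ genB} ≤ Subgroup.centralizer {xg hD F 39 1 * xg hD F 45 1} :=
      gen_le hD fun s hs c => Subgroup.mem_centralizer_singleton_iff.2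
        (((xg_comm hD (checkB.comm s hs 39 (by simp)) (checkB.lt 39 (by simp)) (checkB.S_lt s hs) 1 c).mul_right
          (xg_comm hD (checkB.comm s hs 45 (by simp)) (checkB.lt 45 (by simp)) (checkB.S_lt s hs) 1 c)).eq)
    exact Subgroup.mem_centralizer_singleton_iff.1 (this hp)
  rw [centralizer_pair hD checkB rootsF4 (C := {q | q ∈ [27, 34, 25, 26]}) (fun q hq => rootsB q hq) ?_ ?_ hv]
  · apply le_antisymm
    · refine gen_le hD fun s hs t => ?_
      rcases List.mem_append.1 (show s ∈ genB from hs) with h | h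
      · obtain ⟨hp, hne⟩ := of_decide_eq_true (List.mem_filter.1 h).2
        exact Subgroup.mem_sup_right (Subgroup.subset_closure ⟨s, t, hp, hne, coe_xg hD s t⟩)
      · rcases List.mem_pair.1 h with rfl | rfl
        · exact Subgroup.mem_sup_left (Subgroup.mem_sup_left (Subgroup.mem_sup_left
            (Subgroup.mem_sup_right (xg_mem_rootSubgroup hD _ t))))
        · exact Subgroup.mem_sup_left (Subgroup.mem_sup_right (xg_mem_rootSubgroup hD _ t))
    · have key : ∀ s ∈ genB, chevF4.rootSubgroup F s ≤ gen hD F {s | s ∈ genB} := by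
        intro s hs g hg'
        obtain ⟨t, rfl⟩ := (mem_rootSubgroup hD s).1 hg'
        exact xg_mem_gen hD (show s ∈ {s | s ∈ genB} from hs) t
      refine sup_le (sup_le (sup_le (sup_le (key 33 (by decide +kernel)) (key 14 (by decide +kernel)))
        (key 24 (by decide +kernel))) (key 23 (by decide +kernel))) ((Subgroup.closure_le _).2 ?_)
      rintro g ⟨r, c, hr, hne, e⟩
      obtain rfl : g = xg hD F r c := Units.ext e
      exact hPB _ (xg_mem_gen hD (show r ∈ posB from List.mem_filter.2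
        ⟨List.mem_range.2 hr.1, decide_eq_true ⟨hr, hne⟩⟩) c)
  · intro u hu
    obtain ⟨a, b, e, f, p, hp, rfl⟩ := exists_decomp_B hD hu
    refine ⟨xg hD F 27 a * (xg hD F 34 b * (xg hD F 25 e * xg hD F 26 f)),
      mul_mem (xg_mem_gen hD (by simp) a) (mul_mem (xg_mem_gen hD (by simp) b)
        (mul_mem (xg_mem_gen hD (by simp) e) (xg_mem_gen hD (by simp) f))), ?_⟩
    rw [show (xg hD F 27 a * (xg hD F 34 b * (xg hD F 25 e * xg hD F 26 f)))⁻¹ *
      (xg hD F 27 a * (xg hD F 34 b * (xg hD F 25 e * (xg hD F 26 f * p)))) = p by group]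
    exact hPB p hp
  · intro u hu hcu
    obtain ⟨a, b, e, f, p, hp, rfl⟩ := exists_decomp_B hD hu
    set v₀ := xg hD F 39 1 * xg hD F 45 1 with hv₀
    set A := xg hD F 27 a
    set B := xg hD F 34 b
    set E := xg hD F 25 e
    set G := xg hD F 26 f
    set c := A * (B * (E * G)) with hc
    have hcv : Commute c v₀ := by
      have h := hcu.mul_left (hcomm p (hPB p hp)).inv_left
      rwa [show A * (B * (E * (G * p))) * p⁻¹ = c by rw [hc]; group] at h
    have cm : ∀ q s : ℕ, (q, s) ∈ [(39, 25), (39, 26), (45, 27), (45, 34), (44, 45), (40, 45), (40, 34),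
        (40, 25), (40, 26), (44, 25), (44, 26), (46, 26)] → ∀ t t' : F,
        Commute (xg hD F s t') (xg hD F q t) := by
      intro q s h t t'
      obtain ⟨h1, h2, h3⟩ := evenB (q, s) h
      exact xg_comm hD h3 h1 h2 t t'
    have mv : ∀ q s z : ℕ, (q, s, z) ∈ [(39, 27, 40), (39, 34, 44), (45, 25, 46), (45, 26, 47)] → ∀ t : F,
        xg hD F s t * xg hD F q 1 = xg hD F q 1 * xg hD F s t * xg hD F z t := by
      intro q s z h t
      obtain ⟨h1, h2, h3, h4, h5⟩ := moveB (q, s, z) h
      obtain ⟨⟨z', k, i, j⟩, hl, hx⟩ := List.map_eq_singleton_iff.1 h5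
      simp only [Prod.mk.injEq] at hx
      obtain ⟨rfl, hk, rfl, rfl⟩ := hx
      exact xg_move hD h1 h2 h3 h4 hl (by omega) t
    set X := xg hD F 39 (1 : F)
    set Y := xg hD F 45 (1 : F)
    set A' := xg hD F 40 a
    set B' := xg hD F 44 b
    set E' := xg hD F 46 e
    set G' := xg hD F 47 f
    have sG : Commute G X := cm 39 26 (by simp) 1 f
    have sE : Commute E X := cm 39 25 (by simp) 1 e
    have sB : Commute B Y := cm 45 34 (by simp) 1 b
    have sA : Commute A Y := cm 45 27 (by simp) 1 a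
    have sB' : Commute Y B' := cm 44 45 (by simp) b 1
    have sA' : Commute Y A' := cm 40 45 (by simp) a 1
    have sAB : Commute B A' := cm 40 34 (by simp) a b
    have sAE : Commute E A' := cm 40 25 (by simp) a e
    have sAG : Commute G A' := cm 40 26 (by simp) a f
    have sBE : Commute E B' := cm 44 25 (by simp) b e
    have sBG : Commute G B' := cm 44 26 (by simp) b f
    have sEG : Commute G E' := cm 46 26 (by simp) e f
    have mA : A * X = X * A * A' := mv 39 27 40 (by simp) a
    have mB : B * X = X * B * B' := mv 39 34 44 (by simp) b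
    have mE : E * Y = Y * E * E' := mv 45 25 46 (by simp) e
    have mG : G * Y = Y * G * G' := mv 45 26 47 (by simp) f
    have eG : G * v₀ = v₀ * (G * G') := by
      rw [hv₀, ← mul_assoc, sG.eq, mul_assoc, mG]
      group
    have eE : E * v₀ = v₀ * (E * E') := by
      rw [hv₀, ← mul_assoc, sE.eq, mul_assoc, mE]
      group
    have eB : B * v₀ = v₀ * (B * B') :=
      calc B * v₀ = (B * X) * Y := by rw [hv₀]; group
        _ = X * B * (B' * Y) := by rw [mB]; group
        _ = X * (B * Y) * B' := by rw [sB'.symm.eq]; group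
        _ = _ := by rw [sB.eq, hv₀]; group
    have eA : A * v₀ = v₀ * (A * A') :=
      calc A * v₀ = (A * X) * Y := by rw [hv₀]; group
        _ = X * A * (A' * Y) := by rw [mA]; group
        _ = X * (A * Y) * A' := by rw [sA'.symm.eq]; group
        _ = _ := by rw [sA.eq, hv₀]; group
    have hprod : A' * B' * E' * G' = 1 := by
      have h : c * v₀ = v₀ * c * (A' * B' * E' * G') :=
        calc c * v₀ = A * (B * (E * (G * v₀))) := by rw [hc]; group
          _ = A * (B * ((E * v₀) * (G * G'))) := by rw [eG]; group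
          _ = A * ((B * v₀) * ((E * E') * (G * G'))) := by rw [eE]; group
          _ = (A * v₀) * ((B * B') * ((E * E') * (G * G'))) := by rw [eB]; group
          _ = v₀ * (A * (A' * B) * (B' * E) * (E' * G) * G') := by rw [eA]; group
          _ = v₀ * (A * B * (A' * E) * (B' * G) * E' * G') := by
            rw [← sAB.eq, ← sBE.eq, ← sEG.eq]
            group
          _ = v₀ * (A * B * E * (A' * G) * B' * E' * G') := by
            rw [← sAE.eq, ← sBG.eq]
            group
          _ = v₀ * c * (A' * B' * E' * G') := by rw [← sAG.eq, hc]; group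
      rw [hcv.eq] at h
      exact mul_left_cancel (h.symm.trans (mul_one _).symm)
    have hmem : ∀ z : ℕ, z ∈ [40, 44, 46, 47] → ∀ t : F,
        xg hD F z t ∈ gen hD F {z | z ∈ 39 :: 45 :: [40, 44, 46, 47]} := fun z hz t =>
      xg_mem_gen hD (show z ∈ 39 :: 45 :: [40, 44, 46, 47] by simp at hz ⊢; tauto) t
    have coord : ∀ z i : ℕ, (z, i) ∈ [(40, 0), (44, 0), (46, 2), (47, 3)] → ∀ hi : i < chevF4.rank,
        (if z = 40 then a else 0) + (if z = 44 then b else 0) + (if z = 46 then e else 0) +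
          (if z = 47 then f else 0) = 0 := by
      intro z i h hi
      obtain ⟨hz, hodd⟩ := oddB (z, i) h
      have h40 : A' ∈ _ := hmem 40 (by simp) a
      have h44 : B' ∈ _ := hmem 44 (by simp) b
      have h46 : E' ∈ _ := hmem 46 (by simp) e
      have h47 : G' ∈ _ := hmem 47 (by simp) f
      have e1 := congrArg (kap ⟨z, hz⟩ ⟨i, hi⟩) hprod
      rw [kap_mul (unip_gen hD checkB (mul_mem (mul_mem h40 h44) h46)) (unip_gen hD checkB h47),
        kap_mul (unip_gen hD checkB (mul_mem h40 h44)) (unip_gen hD checkB h46),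
        kap_mul (unip_gen hD checkB h40) (unip_gen hD checkB h44), kap_xg hD checkB hz _ (by simp),
        kap_xg hD checkB hz _ (by simp), kap_xg hD checkB hz _ (by simp), kap_xg hD checkB hz _ (by simp),
        show kap (⟨z, hz⟩ : Fin chevF4.nroots) ⟨i, hi⟩ (1 : GL chevF4.Idx F) = 0 by simp [kap]] at e1
      simp only [List.mem_cons, Prod.mk.injEq, List.not_mem_nil, or_false] at h
      rcases h with ⟨rfl, rfl⟩ | ⟨rfl, rfl⟩ | ⟨rfl, rfl⟩ | ⟨rfl, rfl⟩ <;>
        simp [intCast_eq_one hodd] at e1 ⊢ <;> simpa using e1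
    have ha := coord 40 0 (by simp) (by decide +kernel)
    have hb := coord 44 0 (by simp) (by decide +kernel)
    have he := coord 46 2 (by simp) (by decide +kernel)
    have hf := coord 47 3 (by simp) (by decide +kernel)
    norm_num at ha hb he hf
    subst ha hb he hf
    simpa [A, B, E, G, xg_zero] using hPB p hp

end Cfsg.Agent.ChevCentralizer
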