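import Cfsg.Agent.Lib.ChevCentralizer.Pair
import Cfsg.Agent.Lib.ChevBN.RootTables

/-!
# The tables for the two mixed involutions of F4
-/

set_option autoImplicit false
set_option maxRecDepth 100000
set_option synthInstance.maxSize 4000

namespace Cfsg.Agent.ChevCentralizer

open Cfsg.Lie Cfsg.Lie.ChevalleyDatum Cfsg.Agent.Chev Cfsg.Agent.ChevBN

/-- The pairs (short root, long root) of a given pairing. -/
def pairsF4 (k : ℤ) : List (ℕ × ℕ) :=
  ((List.range 48).filter fun q => decide (co chevF4 adjF4 0 q % 2 ≠ 0 ∨ co chevF4 adjF4 1 q % 2 ≠ 0)).flatMap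
    fun q => (((List.range 48).filter fun s => decide
      (co chevF4 adjF4 0 s % 2 = 0 ∧ co chevF4 adjF4 1 s % 2 = 0)).filter
        fun s => decide (chevF4.pairing q s = k)).map fun s => (q, s)

/-- Generators of the centraliser of `x_47 x_44`. -/
def genA : List ℕ := (List.range 48).filter (fun q => decide (chevF4.IsPosRoot q)) ++ [20, 22]

/-- Positive root generators of the centraliser of `x_39 x_45`. -/
def posB : List ℕ := (List.range 48).filter fun q => decide (chevF4.IsPosRoot q ∧ q ∉ [27, 25, 34, 26])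

/-- Generators of the centraliser of `x_39 x_45`. -/
def genB : List ℕ := posB ++ [14, 23]

theorem checkA : PairCheck chevF4 44 47 [] genA [1, 2] 0 3 1 1 (pairsF4 (chevF4.pairing 44 47)) := by
  constructor <;> decide +kernel

theorem checkB : PairCheck chevF4 39 45 [40, 44, 46, 47] genB [0, 3] 1 2 3 2
    (pairsF4 (chevF4.pairing 39 45)) := by
  constructor <;> decide +kernel

theorem chainB : ∀ p ∈ [(26, posB), (25, 26 :: posB), (34, 25 :: 26 :: posB), (27, 34 :: 25 :: 26 :: posB)],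
    p.1 < chevF4.nroots ∧ ∀ s ∈ p.2, s < chevF4.nroots ∧ (s ≠ p.1 ∧ s ≠ chevF4.neg p.1) ∧
      ∀ τ ∈ chevF4.commTerms p.1 s, τ.1 ∈ p.2 := by
  decide +kernel

theorem posRoots_sub : ∀ q < chevF4.nroots, chevF4.IsPosRoot q →
    q ∈ 27 :: 34 :: 25 :: 26 :: posB := by
  decide +kernel

theorem posB_sub : ∀ q ∈ posB, q ∈ genB := by
  decide +kernel

theorem rootsB : ∀ q ∈ [27, 34, 25, 26],
    q < chevF4.nroots ∧ chevF4.IsPosRoot q ∧ 0 < mu chevF4 3 2 39 45 q := by
  decide +kernel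

theorem evenB : ∀ p ∈ [(39, 25), (39, 26), (45, 27), (45, 34), (44, 45), (40, 45), (40, 34), (40, 25),
      (40, 26), (44, 25), (44, 26), (46, 26)],
    p.1 < chevF4.nroots ∧ p.2 < chevF4.nroots ∧
      (p.2 = p.1 ∨ (p.2 ≠ chevF4.neg p.1 ∧ ∀ τ ∈ chevF4.commTerms p.1 p.2, τ.2.1 % 2 = 0)) := by
  decide +kernel

theorem moveB : ∀ p ∈ [(39, 27, 40), (39, 34, 44), (45, 25, 46), (45, 26, 47)],
    p.1 < chevF4.nroots ∧ p.2.1 < chevF4.nroots ∧ p.2.1 ≠ p.1 ∧ p.2.1 ≠ chevF4.neg p.1 ∧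
      ((chevF4.commTerms p.1 p.2.1).map fun τ => (τ.1, τ.2.1 % 2, τ.2.2.1, τ.2.2.2)) = [(p.2.2, 1, 1, 1)] := by
  decide +kernel

theorem oddB : ∀ p ∈ [(40, 0), (44, 0), (46, 2), (47, 3)],
    p.1 < chevF4.nroots ∧ chevF4.cartan p.2 p.1 % 2 ≠ 0 := by
  decide +kernel

end Cfsg.Agent.ChevCentralizer
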