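import Cfsg.Agent.Lib.RGD.NormalForm
import Cfsg.Agent.Lib.ChevBN.Facts

/-!
# Involutions in characteristic two are conjugate to monomial elements

`exists_monomial`: in a Chevalley group over a field of characteristic two every involution is
conjugate to an involution `h * nw l` such that the Weyl element of `l` fixes or negates the sign of
every fundamental root (and hence of every positive root, `fix_or_neg`).
-/

set_option autoImplicit false

namespace Cfsg.Agent.ChevInvolution

open Cfsg.Lie Cfsg.Lie.ChevalleyDatum Cfsg.Agent.Chev Cfsg.Agent.ChevSt Cfsg.Agent.ChevBN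
open scoped Matrix

variable {D : ChevalleyDatum} {M : List (List ℤ)} {d : ℤ} (hD : Good D) (hR : Roots D M d)
  {F : Type*} [Field F]

include hD in
/-- A root subgroup determines its root. -/
theorem root_eq_of_xg {r s : ℕ} (hr : r < D.nroots) (hs : s < D.nroots) {t : F}
    (h : xg hD F r 1 = xg hD F s t) : r = s := by
  by_contra hne
  have hn := hD.neg_lt r hr
  have hns : D.neg r ≠ D.neg s := fun e => hne (by rw [← hD.neg_neg r hr, e, hD.neg_neg s hs])
  have key : ∀ i : Fin D.rank, (((D.coroot.getD r #[]).getD i.val 0 : ℤ) : F) = 0 := by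
    intro i
    have h1 := congrArg (fun g : GL D.Idx F =>
      ((g : Matrix D.Idx D.Idx F) *ᵥ ev D F (D.neg r)) (Sum.inl i)) h
    simp only [coe_xg, x_eq_xR D hr, x_eq_xR D hs, xR_neg D r (1 : F) hn (hD.neg_ne r hr)] at h1
    by_cases h0 : D.neg r = s
    · rw [h0, xR_self D s t hs] at h1
      simpa [ev, hv] using h1
    · rw [xR_gen D s t (hD.keys s hs) hn h0 hns] at h1
      simpa [ev, hv, sumCol_apply_inl] using h1
  obtain ⟨c, hc⟩ := hD.coroot_prim r hr
  have h2 := congrArg (fun z : ℤ => (z : F)) hc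
  simp only [Int.cast_sum, Int.cast_mul, Int.cast_one] at h2
  rw [Finset.sum_eq_zero fun i _ => by rw [key i, mul_zero]] at h2
  exact zero_ne_one h2

/-- A linear function is determined by its values at the fundamental roots. -/
theorem lin_expand (hD : Good D) (hR : Roots D M d) {g : ℕ → ℤ} (hg : IsLin D g) {q : ℕ}
    (hq : q < D.nroots) :
    d * g q = ((List.range D.rank).map fun i => g (D.simple i) * co D M i q).sum := by
  refine lin_ext hD hR (hg.smul d) (isLin_sum _ fun i _ => (isLin_co hD M i).smul _) ?_ hq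
  intro j hj
  have : ((List.range D.rank).map fun i => g (D.simple i) * co D M i (D.simple j)) =
      (List.range D.rank).map fun i => if i = j then d * g (D.simple i) else 0 := by
    refine List.map_congr_left fun i hi => ?_
    rw [hR.dual i (List.mem_range.1 hi) j hj]
    split <;> ring
  rw [this, List.sum_map_eq_nsmul_single j (fun i => if i = j then d * g (D.simple i) else 0)
    fun a' h _ => if_neg h]
  rw [List.count_eq_one_of_mem List.nodup_range (List.mem_range.2 hj), if_pos rfl, one_smul]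

theorem sum_nonpos' {L : List ℤ} (h : ∀ x ∈ L, x ≤ 0) : L.sum ≤ 0 := by
  induction L with
  | nil => simp
  | cons a L ih =>
    have h1 := h a (by simp)
    have h2 := ih fun x hx => h x (List.mem_cons_of_mem _ hx)
    rw [List.sum_cons]
    omega

variable (F) in
/-- The roots inverted by a word. -/
noncomputable def inv (l : List (Fin D.rank)) : Finset (Fin D.nroots) :=
  open scoped Classical in
  Finset.univ.filter fun q => D.IsPosRoot q.val ∧ ¬ D.IsPosRoot ((chevRGD hD hR F).ww l q).val

theorem mem_inv {l : List (Fin D.rank)} {q : Fin D.nroots} :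
    q ∈ inv hD hR F l ↔ D.IsPosRoot q.val ∧ ¬ D.IsPosRoot ((chevRGD hD hR F).ww l q).val := by
  classical
  simp [inv]

include hD hR

theorem U_inj {r s : Fin D.nroots} (h : (chevRGD hD hR F).U r = (chevRGD hD hR F).U s) : r = s := by
  have h1 : xg hD F r.val 1 ∈ D.rootSubgroup F s.val := by
    show _ ∈ (chevRGD hD hR F).U s
    rw [← h]
    exact xg_mem_rootSubgroup hD _ _
  obtain ⟨t, ht⟩ := (mem_rootSubgroup hD _).1 h1
  exact Fin.ext (root_eq_of_xg hD r.isLt s.isLt ht)

theorem ww_reverse (l : List (Fin D.rank)) (q : Fin D.nroots) :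
    (chevRGD hD hR F).ww l.reverse ((chevRGD hD hR F).ww l q) = q ∧
      (chevRGD hD hR F).ww l ((chevRGD hD hR F).ww l.reverse q) = q := by
  induction l generalizing q with
  | nil => exact ⟨rfl, rfl⟩
  | cons a l ih =>
    rw [List.reverse_cons]
    simp only [RGD.RootData.ww_append, RGD.RootData.ww_cons, RGD.RootData.ww_nil,
      (chevRGD hD hR F).w_w, (ih q).1, (ih _).2, and_self]

theorem ww_sq {h : GL D.Idx F} (hh : h ∈ D.diagonalSubgroup F) {l : List (Fin D.rank)}
    (hsq : h * (chevRGD hD hR F).nw l * (h * (chevRGD hD hR F).nw l) ∈ D.diagonalSubgroup F)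
    (q : Fin D.nroots) : (chevRGD hD hR F).ww l ((chevRGD hD hR F).ww l q) = q := by
  set R := chevRGD hD hR F
  refine U_inj hD hR (F := F) ?_
  rw [← R.map_conj_H_nw hh l, ← R.map_conj_H_nw hh l, ← RGD.RootData.map_conj_mul, R.map_conj_H_U hsq]

variable [CharP F 2]

theorem nw_conj_xg (l : List (Fin D.rank)) (q : Fin D.nroots) (t : F) :
    (chevRGD hD hR F).nw l * xg hD F q.val t * ((chevRGD hD hR F).nw l)⁻¹ =
      xg hD F ((chevRGD hD hR F).ww l q).val t := by
  induction l with
  | nil => simp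
  | cons i l ih =>
    set R := chevRGD hD hR F
    rw [R.nw_cons, show R.n i * R.nw l * xg hD F q.val t * (R.n i * R.nw l)⁻¹ =
      R.n i * (R.nw l * xg hD F q.val t * (R.nw l)⁻¹) * (R.n i)⁻¹ by group, ih]
    show ng hD F (D.simple i.val) 1 * _ * (ng hD F (D.simple i.val) 1)⁻¹ = _
    rw [ng_conj_xg hD i.isLt (R.ww l q).isLt]
    rcases (nSign_cases hD (hD.simple_lt i.val i.isLt) (R.ww l q).isLt).1 with e | e <;>
      rw [e] <;> simp [CharTwo.neg_eq] <;> rfl

/-- An involutory monomial element centralises the root subgroups of the roots it fixes. -/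
theorem commute_fixed {h : GL D.Idx F} (hh : h ∈ D.diagonalSubgroup F) {l : List (Fin D.rank)}
    (hsq : h * (chevRGD hD hR F).nw l * (h * (chevRGD hD hR F).nw l) = 1) {q : Fin D.nroots}
    (hq : (chevRGD hD hR F).ww l q = q) (t : F) :
    Commute (h * (chevRGD hD hR F).nw l) (xg hD F q.val t) := by
  set R := chevRGD hD hR F
  set m := h * R.nw l
  obtain ⟨χ, -, hχ⟩ := isToral_of_mem hD hh
  have key : ∀ u, m * xg hD F q.val u * m⁻¹ = xg hD F q.val ((χ q.val : F) * u) := by
    intro u
    rw [show m * xg hD F q.val u * m⁻¹ = h * (R.nw l * xg hD F q.val u * (R.nw l)⁻¹) * h⁻¹ by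
      simp only [m]; group, nw_conj_xg hD hR, hq, hχ, mul_inv_cancel_right]
  have h2 : xg hD F q.val ((χ q.val : F) * ((χ q.val : F) * 1)) = xg hD F q.val 1 :=
    calc _ = m * (m * xg hD F q.val 1 * m⁻¹) * m⁻¹ := by rw [key, key]
      _ = m * m * xg hD F q.val 1 * (m * m)⁻¹ := by group
      _ = _ := by rw [hsq]; group
  have h3 : xg hD F q.val ((χ q.val : F) * ((χ q.val : F) * 1) + -1) = 1 := by
    rw [← xg_add hD q.isLt, h2, xg_add hD q.isLt, add_neg_cancel, xg_zero]
  have h4 := xg_eq_one hD q.isLt h3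
  have h5 : (χ q.val : F) = 1 := by
    have h6 : ((χ q.val : F) - 1) ^ 2 = 0 := by
      linear_combination h4 + (1 - (χ q.val : F)) * CharTwo.two_eq_zero (R := F)
    exact sub_eq_zero.1 (eq_zero_of_pow_eq_zero h6)
  have := key t
  rw [h5, one_mul, mul_inv_eq_iff_eq_mul] at this
  exact this

omit [CharP F 2] in
/-- If every fundamental root is fixed or made negative, so is every positive root. -/
theorem fix_or_neg {l : List (Fin D.rank)}
    (hsq : ∀ q, (chevRGD hD hR F).ww l ((chevRGD hD hR F).ww l q) = q)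
    (hl : ∀ i, ¬ (chevRGD hD hR F).pos ((chevRGD hD hR F).ww l ((chevRGD hD hR F).simple i)) ∨
      (chevRGD hD hR F).ww l ((chevRGD hD hR F).simple i) = (chevRGD hD hR F).simple i)
    (q : Fin D.nroots) (hq : D.IsPosRoot q.val) :
    (chevRGD hD hR F).ww l q = q ∨ ¬ D.IsPosRoot ((chevRGD hD hR F).ww l q).val := by
  classical
  set R := chevRGD hD hR F
  by_contra hcon
  push Not at hcon
  obtain ⟨hne, hpos⟩ := hcon
  -- roots supported on the fixed fundamental roots are fixed
  have hfix : ∀ p : Fin D.nroots,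
      (∀ i : Fin D.rank, R.ww l (R.simple i) ≠ R.simple i → co D M i p.val = 0) → R.ww l p = p := by
    intro p hp
    refine Fin.ext (hR.root_ext (R.ww l p).isLt p.isLt fun a ha => ?_)
    obtain ⟨g, hg, e⟩ := lin_comp hD hR F l (isLin_co hD M a)
    have h1 := lin_expand hD hR hg p.isLt
    have h2 := lin_expand hD hR (isLin_co hD M a) p.isLt
    have h3 : ((List.range D.rank).map fun i => g (D.simple i) * co D M i p.val) =
        (List.range D.rank).map fun i => co D M a (D.simple i) * co D M i p.val := by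
      refine List.map_congr_left fun i hi => ?_
      have hi' := List.mem_range.1 hi
      by_cases hK : R.ww l (R.simple ⟨i, hi'⟩) = R.simple ⟨i, hi'⟩
      · have := e (R.simple ⟨i, hi'⟩)
        rw [hK] at this
        change g (D.simple i) = co D M a (D.simple i) at this
        rw [this]
      · rw [hp ⟨i, hi'⟩ hK, mul_zero, mul_zero]
    rw [h3, ← h2] at h1
    rw [← e p]
    exact mul_left_cancel₀ hR.d_pos.ne' h1
  have hz : ∀ i : Fin D.rank, R.ww l (R.simple i) ≠ R.simple i → co D M i q.val = 0 := by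
    intro j hj
    by_contra hco
    have hjneg : ¬ R.pos (R.ww l (R.simple j)) := (hl j).resolve_right hj
    have hJ0 : ∀ a : Fin D.rank, R.ww l (R.simple a) ≠ R.simple a →
        co D M a (R.ww l (R.simple j)).val = 0 := by
      intro a haJ
      obtain ⟨g, hg, e⟩ := lin_comp hD hR F l (isLin_co hD M a)
      have h1 := lin_expand hD hR hg q.isLt
      rw [e q] at h1
      have hnn : 0 ≤ d * co D M a (R.ww l q).val :=
        mul_nonneg hR.d_pos.le ((hR.sgn _ (R.ww l q).isLt).1 hpos a a.isLt)
      have hle : ∀ x ∈ ((List.range D.rank).map fun i => g (D.simple i) * co D M i q.val), x ≤ 0 := by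
        intro x hx
        obtain ⟨i, hi, rfl⟩ := List.mem_map.1 hx
        have hi' := List.mem_range.1 hi
        have hgi := e (R.simple ⟨i, hi'⟩)
        change g (D.simple i) = _ at hgi
        refine mul_nonpos_of_nonpos_of_nonneg ?_ ((hR.sgn _ q.isLt).1 hq i hi')
        rw [hgi]
        rcases hl ⟨i, hi'⟩ with hn | hf
        · exact hR.nonpos_of_not_pos hD (R.ww l _).isLt hn a.isLt
        · rw [hf]
          show co D M a (D.simple i) ≤ 0
          rw [hR.dual a a.isLt i hi', if_neg]
          intro hai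
          exact haJ (by rw [show a = ⟨i, hi'⟩ from Fin.ext hai]; exact hf)
      have hzero : g (D.simple j) * co D M j q.val = 0 := by
        by_contra hne0
        have hneg0 : g (D.simple j) * co D M j q.val < 0 :=
          lt_of_le_of_ne (hle _ (List.mem_map.2 ⟨j.val, List.mem_range.2 j.isLt, rfl⟩)) hne0
        have : ((List.range D.rank).map fun i => g (D.simple i) * co D M i q.val).sum < 0 :=
          calc _ < ((List.range D.rank).map fun _ => (0 : ℤ)).sum :=
                List.sum_lt_sum _ _ (fun i hi => hle _ (List.mem_map.2 ⟨i, hi, rfl⟩))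
                  ⟨j.val, List.mem_range.2 j.isLt, hneg0⟩
            _ = 0 := by simp
        linarith
      have h3 := e (R.simple j)
      change g (D.simple j) = _ at h3
      rw [← h3]
      exact (mul_eq_zero.1 hzero).resolve_right hco
    have h4 := hfix _ hJ0
    rw [hsq] at h4
    exact hj h4.symm
  exact hne (hfix q hz)

omit [CharP F 2] in
/-- Words in fixed fundamental roots preserve fixed roots. -/
theorem fixed_word {l a : List (Fin D.rank)}
    (ha : ∀ i ∈ a, (chevRGD hD hR F).ww l ((chevRGD hD hR F).simple i) = (chevRGD hD hR F).simple i)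
    {γ : Fin D.nroots} (hγ : (chevRGD hD hR F).ww l γ = γ) :
    (chevRGD hD hR F).ww l ((chevRGD hD hR F).ww a γ) = (chevRGD hD hR F).ww a γ := by
  set R := chevRGD hD hR F with hRdef
  induction a with
  | nil => exact hγ
  | cons j a iha =>
    have hj := ha j (by simp)
    have h1 := iha fun k hk => ha k (List.mem_cons_of_mem _ hk)
    refine Fin.ext (hR.root_ext (R.ww l _).isLt (R.ww _ γ).isLt fun b hb => ?_)
    obtain ⟨g, hg', e⟩ := lin_comp hD hR F l (isLin_co hD M b)
    simp only [← hRdef] at e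
    have e1 := e (R.ww (j :: a) γ)
    have e2 := e (R.ww a γ)
    have e3 := e (R.simple j)
    rw [h1] at e2
    rw [hj] at e3
    rw [← e1]
    simp only [R.ww_cons]
    change g (Chev.refl D (D.simple j.val) (R.ww a γ).val) =
      co D M b (Chev.refl D (D.simple j.val) (R.ww a γ).val)
    change g (D.simple j.val) = co D M b (D.simple j.val) at e3
    rw [hg'.refl hD (hD.simple_lt _ j.isLt) (R.ww a γ).isLt,
      (isLin_co hD M b).refl hD (hD.simple_lt _ j.isLt) (R.ww a γ).isLt, e2, e3]

/-- The result of the reduction. -/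
def Reduced (t : GL D.Idx F) : Prop :=
  ∃ c ∈ D.group F, ∃ h ∈ D.diagonalSubgroup F, ∃ l : List (Fin D.rank),
    c * t * c⁻¹ = h * (chevRGD hD hR F).nw l ∧
    h * (chevRGD hD hR F).nw l * (h * (chevRGD hD hR F).nw l) = 1 ∧
    ∀ i, ¬ (chevRGD hD hR F).pos ((chevRGD hD hR F).ww l ((chevRGD hD hR F).simple i)) ∨
      (chevRGD hD hR F).ww l ((chevRGD hD hR F).simple i) = (chevRGD hD hR F).simple i

theorem reduced_aux (k : ℕ) : ∀ (t u h : GL D.Idx F) (l : List (Fin D.rank)), t * t = 1 →
    u ∈ (chevRGD hD hR F).Upos → h ∈ D.diagonalSubgroup F → t = u * (h * (chevRGD hD hR F).nw l) →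
    D.nroots - (inv hD hR F l).card = k → Reduced hD hR t := by
  induction k using Nat.strong_induction_on with
  | _ k ih =>
  intro t u h l htt hu hh et hk
  classical
  set R := chevRGD hD hR F with hRdef
  set m := h * R.nw l with hm
  have hGle : R.G = D.group F := chev_G hD hR
  have hmN : m ∈ R.N := mul_mem (R.H_le_N hh) (R.nw_mem_N l)
  have hUG : ∀ x ∈ R.Upos, x ∈ D.group F := fun x hx => hGle ▸ R.B_le_G (R.Upos_le_B hx)
  have step : ∀ (c t' u' h' : GL D.Idx F) (l' : List (Fin D.rank)), c ∈ D.group F → t' = c * t * c⁻¹ →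
      u' ∈ R.Upos → h' ∈ D.diagonalSubgroup F → t' = u' * (h' * R.nw l') →
      (inv hD hR F l).card < (inv hD hR F l').card → Reduced hD hR t := by
    intro c t' u' h' l' hc e1 hu' hh' e2 hlt
    have hb : (inv hD hR F l').card ≤ D.nroots :=
      (Finset.card_le_univ _).trans (Fintype.card_fin _).le
    obtain ⟨c', hc', h'', hh'', l'', e3, e4⟩ := ih (D.nroots - (inv hD hR F l').card) (by omega) t' u' h' l'
      (by rw [e1, show c * t * c⁻¹ * (c * t * c⁻¹) = c * (t * t) * c⁻¹ by group, htt]; group) hu' hh' e2 rfl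
    refine ⟨c' * c, mul_mem hc' hc, h'', hh'', l'', ?_, e4⟩
    rw [← e3, e1]
    group
  -- the Weyl element is an involution
  have hmm : m * m ∈ D.diagonalSubgroup F := by
    have e : u * m * u = (1 : GL D.Idx F) * m⁻¹ * 1 := by
      have h1 : u * m * (u * m) = 1 := by rw [← et]; exact htt
      calc u * m * u = u * m * (u * m) * m⁻¹ := by group
        _ = _ := by rw [h1]; group
    have h2 := R.mem_H_of_eq hmN (inv_mem hmN) (R.Upos_le_B hu) (R.Upos_le_B hu) (one_mem _) (one_mem _) e
    have h3 := inv_mem h2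
    rwa [_root_.mul_inv_rev, inv_inv] at h3
  have hsq : ∀ q, R.ww l (R.ww l q) = q := ww_sq hD hR hh hmm
  by_cases hall : ∀ i, ¬ R.pos (R.ww l (R.simple i)) ∨ R.ww l (R.simple i) = R.simple i
  swap
  · -- a fundamental root moved to another positive root
    push Not at hall
    obtain ⟨i, hipos, hine⟩ := hall
    obtain ⟨k₀, hk₀, a, ha, rfl⟩ := R.exists_Upos (i := i) hu
    have hy : m * a * m⁻¹ ∈ R.Udel i :=
      R.U_le_span (A := {s | R.pos s ∧ s ≠ R.simple i}) ⟨hipos, hine⟩
        (R.conj_U_mem (R.map_conj_H_nw hh l _) ha)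
    set v := a⁻¹ * k₀ * a⁻¹⁻¹ * (m * a * m⁻¹) with hv
    have hv' : v ∈ R.Udel i := mul_mem (R.U_conj_Udel i (inv_mem ha) _ hk₀) hy
    obtain ⟨z, hz, ez⟩ : ∃ z ∈ D.diagonalSubgroup F,
        R.n i * m * (R.n i)⁻¹ = z * R.nw (i :: (l ++ [i])) := by
      refine ⟨R.n i * h * (R.n i)⁻¹ *
        (R.nw (i :: (l ++ [i])) * (R.n i * R.n i)⁻¹ * (R.nw (i :: (l ++ [i])))⁻¹),
        mul_mem (R.n_conj_H i h hh) (R.nw_conj_H _ (inv_mem (R.n_sq i))), ?_⟩
      rw [hm, R.nw_cons, R.nw_append, R.nw_cons, R.nw_nil]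
      group
    refine step (R.n i * a⁻¹) _ (R.n i * v * (R.n i)⁻¹) z (i :: (l ++ [i]))
      (mul_mem (hGle ▸ R.n_mem_G i) (inv_mem (hUG a (R.U_le_Upos (R.pos_simple i) ha)))) rfl
      (R.Udel_le_Upos i (R.n_conj_Udel i v hv')) hz ?_ ?_
    · rw [et, ← ez, hv]
      group
    · have hinj : Set.InjOn (R.w i) (inv hD hR F l : Set (Fin D.nroots)) := fun x _ y _ e => by
        have := congrArg (R.w i) e
        rwa [R.w_w, R.w_w] at this
      have hsub : insert (R.simple i) ((inv hD hR F l).image (R.w i)) ⊆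
          inv hD hR F (i :: (l ++ [i])) := by
        intro x hx
        rw [mem_inv]
        simp only [← hRdef, R.ww_cons, R.ww_append, R.ww_nil]
        rcases Finset.mem_insert.1 hx with rfl | hx
        · refine ⟨R.pos_simple i, ?_⟩
          rw [R.w_simple, R.ww_neg, R.w_neg]
          exact fun hp => (R.pos_neg _).1 hp (R.w_pos i _ hipos hine)
        · obtain ⟨β, hβ, rfl⟩ := Finset.mem_image.1 hx
          rw [mem_inv] at hβ
          simp only [← hRdef] at hβ
          have hβi : β ≠ R.simple i := fun e => hβ.2 (e ▸ hipos)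
          refine ⟨R.w_pos i β hβ.1 hβi, fun hp => ?_⟩
          rw [R.w_w] at hp
          by_cases he : R.ww l β = R.neg (R.simple i)
          · have h7 := hsq β
            rw [he, R.ww_neg] at h7
            exact (R.pos_neg _).1 (h7 ▸ hβ.1) hipos
          · have h5 : R.pos (R.neg (R.ww l β)) := (R.pos_neg _).2 hβ.2
            have h6 := R.w_pos i _ h5 fun e => he (by rw [← e, R.neg_neg])
            rw [R.w_neg] at h6
            exact (R.pos_neg _).1 h6 hp
      refine lt_of_lt_of_le ?_ (Finset.card_le_card hsub)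
      rw [Finset.card_insert_of_notMem, Finset.card_image_of_injOn hinj]
      · omega
      · intro hx
        obtain ⟨β, hβ, e⟩ := Finset.mem_image.1 hx
        have h7 := congrArg (R.w i) e
        rw [R.w_w, R.w_simple] at h7
        rw [mem_inv, h7] at hβ
        exact (R.pos_neg _).1 hβ.1 (R.pos_simple i)
  have hfn := fix_or_neg hD hR hsq hall
  -- the unipotent part is supported on fixed roots
  set Fx : Set (Fin D.nroots) := {q | R.pos q ∧ R.ww l q = q} with hFx
  have hsplit : R.Upos = R.Uminus l ⊔ R.span Fx := by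
    refine le_antisymm (R.span_le fun q hq => ?_) (sup_le (R.Uminus_le_Upos l) (R.span_mono fun _ h => h.1))
    rcases hfn q hq with e | e
    · exact le_sup_of_le_right (R.U_le_span ⟨hq, e⟩)
    · exact le_sup_of_le_left (R.U_le_span (A := {r | R.pos r ∧ ¬ R.pos (R.ww l r)}) ⟨hq, e⟩)
  have hnorm : ∀ x ∈ R.span Fx, ∀ y ∈ R.Uminus l, x * y * x⁻¹ ∈ R.Uminus l := by
    have gen : ∀ γ ∈ Fx, ∀ x ∈ R.U γ, ∀ y ∈ R.Uminus l, x * y * x⁻¹ ∈ R.Uminus l := by
      intro γ hγ x hx
      refine R.span_conj fun β hβ y hy => ?_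
      obtain ⟨a, rfl⟩ := (mem_rootSubgroup hD _).1 hx
      obtain ⟨b, rfl⟩ := (mem_rootSubgroup hD _).1 hy
      have hne : β.val ≠ γ.val := fun e => hβ.2 (by rw [Fin.ext e, hγ.2]; exact hγ.1)
      have hnn : β.val ≠ D.neg γ.val := fun e =>
        (pos_or_neg hD γ.isLt).1 (e ▸ hβ.1) hγ.1
      have e1 : xg hD F γ.val a * xg hD F β.val b * (xg hD F γ.val a)⁻¹ =
          xg hD F β.val b * ((D.commWord F γ.val β.val (-a) b).map fun p => xg hD F p.1 p.2).prod := by
        rw [xg_inv, mul_assoc]
        have hc : xg hD F β.val b * xg hD F γ.val (-a) = xg hD F γ.val (-a) * xg hD F β.val b *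
            ((D.commWord F γ.val β.val (-a) b).map fun p => xg hD F p.1 p.2).prod := by
          apply Units.ext
          rw [Units.val_mul, Units.val_mul, Units.val_mul, coe_xg, coe_xg,
            hD.commutator γ.isLt β.isLt hne hnn, ← Units.coeHom_apply, map_list_prod, List.map_map]
          rfl
        rw [hc, ← mul_assoc, ← mul_assoc, xg_add hD γ.isLt, add_neg_cancel, xg_zero, one_mul]
      rw [e1]
      refine mul_mem (R.U_le_span (A := {r | R.pos r ∧ ¬ R.pos (R.ww l r)}) hβ (xg_mem_rootSubgroup hD _ _))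
        (list_prod_mem fun g hg' => ?_)
      simp only [ChevalleyDatum.commWord, List.map_map, List.mem_map, Function.comp_apply] at hg'
      obtain ⟨τ, hτ, rfl⟩ := hg'
      have hlt := ((isLin_ht hD M).commTerms hD γ.isLt β.isLt hne hnn hτ).1
      refine R.U_le_span (A := {r | R.pos r ∧ ¬ R.pos (R.ww l r)}) (r := ⟨τ.1, hlt⟩) ?_
        (xg_mem_rootSubgroup hD _ _)
      obtain ⟨-, hi, hj, hval⟩ := (isLin_ht hD M).commTerms hD γ.isLt β.isLt hne hnn hτ
      obtain ⟨g, hg'', eg⟩ := lin_comp hD hR F l (isLin_ht hD M)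
      simp only [← hRdef] at eg
      obtain ⟨-, -, -, hval'⟩ := hg''.commTerms hD γ.isLt β.isLt hne hnn hτ
      have h1 := hR.ht_pos _ γ.isLt hγ.1
      have h2 := hR.ht_pos _ β.isLt hβ.1
      have hτpos : D.IsPosRoot τ.1 := by
        by_contra hneg
        have h3 := hR.ht_pos _ (hD.neg_lt _ hlt) ((pos_or_neg hD hlt).2 hneg)
        rw [(isLin_ht hD M).neg _ hlt, hval] at h3
        have h4 : (0 : ℤ) ≤ (τ.2.2.1 : ℤ) * ht D M γ.val := by positivity
        have h5 : (0 : ℤ) < (τ.2.2.2 : ℤ) * ht D M β.val := Int.mul_pos (by exact_mod_cast hj) h2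
        omega
      refine ⟨hτpos, fun hp => ?_⟩
      -- a root not made negative is fixed
      rcases hfn ⟨τ.1, hlt⟩ hτpos with e | e
      · have h6 := eg ⟨τ.1, hlt⟩
        rw [e] at h6
        change g τ.1 = ht D M τ.1 at h6
        have h7 := eg γ
        rw [hγ.2] at h7
        have h8 := eg β
        rw [hval', hval, h7, h8] at h6
        have h9 : ht D M (R.ww l β).val = ht D M β.val :=
          mul_left_cancel₀ (by exact_mod_cast Nat.pos_iff_ne_zero.1 hj) (add_left_cancel h6)
        have h10 : ht D M (R.ww l β).val < 0 := by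
          have := hR.ht_pos _ (hD.neg_lt _ (R.ww l β).isLt) ((pos_or_neg hD (R.ww l β).isLt).2 hβ.2)
          rw [(isLin_ht hD M).neg _ (R.ww l β).isLt] at this
          omega
        omega
      · exact e hp
    intro x hx
    induction hx using Subgroup.iSup_induction' with
    | hp γ x hx =>
      induction hx using Subgroup.iSup_induction' with
      | hp hγ x hx => exact gen γ hγ x hx
      | h1 => intro y hy; simpa using hy
      | hmul x x' _ _ h1 h2 =>
        intro y hy
        have := h1 _ (h2 y hy)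
        simpa [mul_assoc] using this
    | h1 => intro y hy; simpa using hy
    | hmul x x' _ _ h1 h2 =>
      intro y hy
      have := h1 _ (h2 y hy)
      simpa [mul_assoc] using this
  obtain ⟨q, hq, p, hp, eu⟩ := RGD.exists_mul_of_mem_sup hnorm (hsplit ▸ hu)
  have hpU : p ∈ R.Upos := R.span_mono (fun _ h => h.1) hp
  -- `m` normalises the fixed part, so the inverted part is trivial and `m` is an involution
  have hmp : m * p * m⁻¹ ∈ R.Upos :=
    R.span_mono (A := Fx) (fun _ h => h.1)
      (R.span_conj (fun γ hγ y hy => R.U_le_span (r := γ) hγ (by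
        have := R.conj_U_mem (R.map_conj_H_nw hh l γ) hy
        rwa [hγ.2] at this)) p hp)
  have hq1 : q = 1 := by
    have h1 : u * m * (u * m) = 1 := by rw [← et]; exact htt
    have hmu : m * u * m⁻¹ = u⁻¹ * (m * m)⁻¹ :=
      calc m * u * m⁻¹ = u⁻¹ * (u * m * (u * m)) * (m * m)⁻¹ := by group
        _ = _ := by rw [h1, mul_one]
    have hmuB : m * u * m⁻¹ ∈ R.B := hmu ▸ mul_mem (inv_mem (R.Upos_le_B hu)) (R.H_le_B (inv_mem hmm))
    have hB : m * q * m⁻¹ ∈ R.B := by
      rw [show m * q * m⁻¹ = m * u * m⁻¹ * (m * p * m⁻¹)⁻¹ by rw [eu]; group]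
      exact mul_mem hmuB (inv_mem (R.Upos_le_B hmp))
    have hV : m * q * m⁻¹ ∈ R.Vneg := by
      rw [show m * q * m⁻¹ = h * (R.nw l * q * (R.nw l)⁻¹) * h⁻¹ by rw [hm]; group]
      exact R.H_conj_span _ hh _ (R.conj_Uminus l q hq)
    have h4 : m * q * m⁻¹ = 1 := Subgroup.mem_bot.1 (R.B_inf_V ▸ ⟨hB, hV⟩)
    exact conj_eq_one_iff.1 h4
  rw [hq1, one_mul] at eu
  subst eu
  have hm1 : m * m = 1 := by
    have h1 : u * m * (u * m) = 1 := by rw [← et]; exact htt
    have e : m * m = (m * u * m⁻¹)⁻¹ * u⁻¹ :=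
      calc m * m = (m * u * m⁻¹)⁻¹ * u⁻¹ * (u * m * (u * m)) := by group
        _ = _ := by rw [h1, mul_one]
    have hU : m * m ∈ R.Upos := by
      rw [e]
      exact mul_mem (inv_mem hmp) (inv_mem hu)
    exact Subgroup.mem_bot.1 (R.U_inf_H ▸ ⟨hU, hmm⟩)
  by_cases hu1 : u = 1
  · exact ⟨1, one_mem _, h, hh, l, by rw [et, hu1, ← hm]; group, hm1, hall⟩
  -- conjugate inside the fixed part until a fundamental coordinate appears
  have hnc : ∀ i, R.ww l (R.simple i) = R.simple i → Commute m (R.n i) := by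
    intro i hi
    have h1 := fun c => commute_fixed hD hR hh hm1 hi c
    have h2 := fun c => commute_fixed hD hR hh hm1 (q := R.neg (R.simple i)) (by rw [R.ww_neg, hi]) c
    exact ((h1 _).mul_right (h2 _)).mul_right (h1 _)
  -- either some conjugate has a fundamental coordinate, or `u` lies in `V`
  suffices hex : ∃ a : GL D.Idx F, a ∈ D.group F ∧ Commute m a ∧ a * u * a⁻¹ ∈ R.Upos ∧
      ∃ i, R.ww l (R.simple i) = R.simple i ∧ a * u * a⁻¹ ∉ R.Udel i by
    obtain ⟨a, haG, ham, hau, i, hi, hnot⟩ := hex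
    set u₁ := a * u * a⁻¹ with hu₁
    obtain ⟨kk, hkk, a₁, ha₁, eku⟩ := R.exists_Upos (i := i) (hau : u₁ ∈ R.Upos)
    have ha₁1 : R.n i * a₁ * (R.n i)⁻¹ ≠ 1 := fun e => hnot (by
      rw [eku, conj_eq_one_iff.1 e, mul_one]
      exact hkk)
    obtain ⟨a₂, ha₂, h₂, hh₂, c₂, hc₂, e⟩ := R.rank_one i _ (R.conj_n_simple ha₁) ha₁1
    have hcm : Commute m c₂ := by
      obtain ⟨b, rfl⟩ := (mem_rootSubgroup hD _).1 hc₂
      exact commute_fixed hD hR hh hm1 hi b
    have hc₂U : c₂ ∈ R.Upos := R.U_le_Upos (R.pos_simple i) hc₂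
    set w := R.n i * kk * (R.n i)⁻¹ * a₂ with hw
    have hwU : w ∈ R.Upos := mul_mem (R.Udel_le_Upos i (R.n_conj_Udel i kk hkk))
      (R.U_le_Upos (R.pos_simple i) ha₂)
    obtain ⟨w', hw', h₃, hh₃, ew⟩ := R.exists_B
      (show c₂ * (w * h₂) ∈ R.B from mul_mem (R.Upos_le_B hc₂U) (mul_mem (R.Upos_le_B hwU) (R.H_le_B hh₂)))
    refine step (c₂ * R.n i * a) _ w' (h₃ * (R.n i * h * (R.n i)⁻¹)) (i :: l)
      (mul_mem (mul_mem (hUG c₂ hc₂U) (hGle ▸ R.n_mem_G i)) haG) rfl hw'
      (mul_mem hh₃ (R.n_conj_H i h hh)) ?_ ?_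
    · have e1 : a * t * a⁻¹ = u₁ * m := by
        rw [et, show a * (u * m) * a⁻¹ = a * u * (m * a⁻¹) by group, (Commute.inv_right ham).eq, hu₁]
        group
      have e2 : R.n i * u₁ * (R.n i)⁻¹ = w * h₂ * R.n i * c₂ := by
        rw [eku, show R.n i * (kk * a₁) * (R.n i)⁻¹ = R.n i * kk * (R.n i)⁻¹ * (R.n i * a₁ * (R.n i)⁻¹) by
          group, e, hw]
        group
      rw [R.nw_cons]
      calc c₂ * R.n i * a * t * (c₂ * R.n i * a)⁻¹
          = c₂ * (R.n i * (a * t * a⁻¹) * (R.n i)⁻¹) * c₂⁻¹ := by group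
        _ = c₂ * (R.n i * u₁ * (R.n i)⁻¹) * (R.n i * m * (R.n i)⁻¹ * c₂⁻¹) := by rw [e1]; group
        _ = c₂ * (R.n i * u₁ * (R.n i)⁻¹) * (c₂⁻¹ * m) := by
          rw [← (hnc i hi).eq, mul_inv_cancel_right, (Commute.inv_right hcm).eq]
        _ = c₂ * (w * h₂) * R.n i * m := by rw [e2]; group
        _ = _ := by rw [ew, hm]; group
    · have hsub : insert (R.simple i) (inv hD hR F l) ⊆ inv hD hR F (i :: l) := by
        intro x hx
        rw [mem_inv]
        simp only [← hRdef, R.ww_cons]
        rcases Finset.mem_insert.1 hx with rfl | hx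
        · refine ⟨R.pos_simple i, ?_⟩
          rw [hi, R.w_simple]
          exact fun hp => (R.pos_neg _).1 hp (R.pos_simple i)
        · rw [mem_inv] at hx
          simp only [← hRdef] at hx
          refine ⟨hx.1, fun hp => ?_⟩
          by_cases he : R.ww l x = R.neg (R.simple i)
          · have h7 := hsq x
            rw [he, R.ww_neg, hi] at h7
            exact (R.pos_neg _).1 (h7 ▸ hx.1) (R.pos_simple i)
          · have h5 : R.pos (R.neg (R.ww l x)) := (R.pos_neg _).2 hx.2
            have h6 := R.w_pos i _ h5 fun e => he (by rw [← e, R.neg_neg])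
            rw [R.w_neg] at h6
            exact (R.pos_neg _).1 h6 hp
      refine lt_of_lt_of_le ?_ (Finset.card_le_card hsub)
      rw [Finset.card_insert_of_notMem]
      · omega
      · rw [mem_inv]
        simp only [← hRdef]
        rw [hi]
        exact fun hh' => hh'.2 (R.pos_simple i)
  by_contra hcon
  push Not at hcon
  -- conjugation by words in the fixed fundamental roots keeps `u` in the fixed part
  have main : ∀ (n : ℕ) (a : List (Fin D.rank)), (∀ i ∈ a, R.ww l (R.simple i) = R.simple i) →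
      (Finset.univ.filter fun γ => γ ∈ Fx ∧ R.pos (R.ww a γ)).card = n →
      R.nw a * u * (R.nw a)⁻¹ ∈ R.Upos → False := by
    intro n
    induction n using Nat.strong_induction_on with
    | _ n ihn =>
    intro a ha hn hau
    have haG : R.nw a ∈ D.group F := hGle ▸ R.N_le_G (R.nw_mem_N a)
    have ham : Commute m (R.nw a) := by
      clear hn hau haG
      induction a with
      | nil => exact Commute.one_right m
      | cons i a iha =>
        rw [R.nw_cons]
        exact (hnc i (ha i (by simp))).mul_right (iha fun j hj => ha j (List.mem_cons_of_mem _ hj))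
    by_cases hpos : ∃ γ, γ ∈ Fx ∧ R.pos (R.ww a γ)
    swap
    · push Not at hpos
      have hV : R.nw a * u * (R.nw a)⁻¹ ∈ R.Vneg :=
        R.span_conj (fun γ hγ y hy => R.U_le_span (A := {s | ¬ R.pos s}) (hpos γ hγ)
          (R.conj_U_mem (R.map_conj_U a γ) hy)) u hp
      have : R.nw a * u * (R.nw a)⁻¹ = 1 := Subgroup.mem_bot.1
        (R.B_inf_V ▸ ⟨R.Upos_le_B hau, hV⟩)
      exact hu1 (conj_eq_one_iff.1 this)
    obtain ⟨i, hi, hia⟩ : ∃ i, R.ww l (R.simple i) = R.simple i ∧ R.pos (R.ww a.reverse (R.simple i)) := by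
      by_contra hno
      push Not at hno
      obtain ⟨γ, hγ, hγp⟩ := hpos
      -- `ww a γ` is fixed, so its height after `a.reverse` is negative
      have hfixγ : R.ww l (R.ww a γ) = R.ww a γ := fixed_word hD hR ha hγ.2
      obtain ⟨f, hf, ef⟩ := lin_comp hD hR F a.reverse (isLin_ht hD M)
      simp only [← hRdef] at ef
      have h2 := lin_expand hD hR hf (R.ww a γ).isLt
      have h3 : f (R.ww a γ).val = ht D M γ.val := by rw [ef, (ww_reverse hD hR a γ).1]
      have h4 := hR.ht_pos _ γ.isLt hγ.1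
      have h5 : ((List.range D.rank).map fun b => f (D.simple b) * co D M b (R.ww a γ).val).sum ≤ 0 := by
        refine sum_nonpos' fun x hx => ?_
        obtain ⟨b, hb, rfl⟩ := List.mem_map.1 hx
        have hb' := List.mem_range.1 hb
        have hco := (hR.sgn _ (R.ww a γ).isLt).1 hγp b hb'
        by_cases hK : R.ww l (R.simple ⟨b, hb'⟩) = R.simple ⟨b, hb'⟩
        · refine mul_nonpos_of_nonpos_of_nonneg ?_ hco
          have h6 := hno ⟨b, hb'⟩ hK
          have h7 := hR.ht_pos _ (hD.neg_lt _ (R.ww a.reverse _).isLt)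
            ((pos_or_neg hD (R.ww a.reverse (R.simple ⟨b, hb'⟩)).isLt).2 h6)
          rw [(isLin_ht hD M).neg _ (R.ww a.reverse _).isLt] at h7
          have h8 := ef (R.simple ⟨b, hb'⟩)
          change f (D.simple b) = _ at h8
          omega
        · -- fixed roots do not involve inverted fundamental roots
          obtain ⟨g, hg', e⟩ := lin_comp hD hR F l (isLin_co hD M b)
          simp only [← hRdef] at e
          have hz : co D M b (R.ww a γ).val = 0 := by
            have e1 := lin_expand hD hR hg' (R.ww a γ).isLt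
            rw [e, hfixγ] at e1
            have hle : ∀ c ∈ List.range D.rank, g (D.simple c) * co D M c (R.ww a γ).val ≤ 0 := by
              intro c hc
              have hc' := List.mem_range.1 hc
              refine mul_nonpos_of_nonpos_of_nonneg ?_ ((hR.sgn _ (R.ww a γ).isLt).1 hγp c hc')
              have e2 := e (R.simple ⟨c, hc'⟩)
              change g (D.simple c) = _ at e2
              rw [e2]
              rcases hall ⟨c, hc'⟩ with hn' | hf'
              · exact hR.nonpos_of_not_pos hD (R.ww l _).isLt hn' hb'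
              · rw [hf']
                show co D M b (D.simple c) ≤ 0
                rw [hR.dual b hb' c hc', if_neg]
                rintro rfl
                exact hK hf'
            have h9 : ((List.range D.rank).map fun c => g (D.simple c) * co D M c (R.ww a γ).val).sum ≤ 0 :=
              sum_nonpos' fun x hx => by
                obtain ⟨c, hc, rfl⟩ := List.mem_map.1 hx; exact hle c hc
            nlinarith [hR.d_pos, (hR.sgn _ (R.ww a γ).isLt).1 hγp b hb']
          rw [hz, mul_zero]
      nlinarith [hR.d_pos]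
    have hdel : R.nw a * u * (R.nw a)⁻¹ ∈ R.Udel i :=
      hcon (R.nw a) haG ham hau i hi
    -- apply `n i`
    have hnext : R.nw (i :: a) * u * (R.nw (i :: a))⁻¹ ∈ R.Upos := by
      rw [R.nw_cons, show R.n i * R.nw a * u * (R.n i * R.nw a)⁻¹ =
        R.n i * (R.nw a * u * (R.nw a)⁻¹) * (R.n i)⁻¹ by group]
      exact R.Udel_le_Upos i (R.n_conj_Udel i _ hdel)
    refine ihn _ ?_ (i :: a) (fun j hj => by
      rcases List.mem_cons.1 hj with rfl | hj
      exacts [hi, ha j hj]) rfl hnext
    rw [← hn]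
    refine Finset.card_lt_card ⟨fun γ hγ => ?_, fun hsup => ?_⟩
    · rw [Finset.mem_filter] at hγ ⊢
      replace hγ := hγ.2
      refine ⟨Finset.mem_univ _, ?_⟩
      simp only [R.ww_cons] at hγ
      refine ⟨hγ.1, ?_⟩
      by_contra hneg
      have h1 : R.pos (R.neg (R.ww a γ)) := (R.pos_neg _).2 hneg
      by_cases he : R.neg (R.ww a γ) = R.simple i
      · have h2 := (ww_reverse hD hR (F := F) a γ).1
        rw [← R.neg_neg (R.ww a γ), he, R.ww_neg] at h2
        exact (R.pos_neg _).1 (h2.symm ▸ hγ.1.1) hia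
      · have h3 := R.w_pos i _ h1 he
        rw [R.w_neg] at h3
        exact (R.pos_neg _).1 h3 hγ.2
    · have hmem : R.ww a.reverse (R.simple i) ∈
          Finset.univ.filter fun γ => γ ∈ Fx ∧ R.pos (R.ww a γ) := by
        rw [Finset.mem_filter]
        refine ⟨Finset.mem_univ _, ⟨hia, ?_⟩, ?_⟩
        · exact fixed_word hD hR (fun j hj => ha j (List.mem_reverse.1 hj)) hi
        · rw [(ww_reverse hD hR a (R.simple i)).2]
          exact R.pos_simple i
      have h1 := hsup hmem
      rw [Finset.mem_filter] at h1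
      have h2 := h1.2.2
      rw [R.ww_cons, (ww_reverse hD hR a (R.simple i)).2, R.w_simple] at h2
      exact (R.pos_neg _).1 h2 (R.pos_simple i)
  exact main _ [] (by simp) rfl (by simpa using hu)

end Cfsg.Agent.ChevInvolution
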