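import Cfsg.Agent.Lib.RGD.NormalForm
import Cfsg.Agent.Lib.ChevBN.Facts

/-!
# Centralisers of highest root elements in characteristic two

* `Check D M r j S L` : table conditions on a dominant root `r` meeting only the simple root `j`;
* `centralizer_rootElement` : `C_G(x_r(1)) = U ⊔ ⟨X_s : s ∈ L⟩`.
-/

set_option autoImplicit false

namespace Cfsg.Agent.ChevCentralizer

open Cfsg.Lie Cfsg.Lie.ChevalleyDatum Cfsg.Agent.Chev Cfsg.Agent.ChevSt Cfsg.Agent.ChevBN
open scoped Matrix

/-- Table conditions for the centraliser of the root element of `r`. -/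
structure Check (D : ChevalleyDatum) (M : List (List ℤ)) (r j : ℕ) (S L : List ℕ) : Prop where
  r_lt : r < D.nroots
  j_lt : j < D.rank
  r_pos : D.IsPosRoot r
  cartan_j : D.cartan j r = 1
  cartan_ne : ∀ i < D.rank, i ≠ j → D.cartan i r = 0
  mem : r ∈ S
  closed : ∀ i < D.rank, ∀ q ∈ S, wN D i q ∈ S
  top : ∀ q ∈ S, ∀ k < D.rank, co D M k q ≤ co D M k r
  neg_mem : ∀ i < D.rank, i ≠ j → D.neg (D.simple i) ∈ L
  comm : ∀ s < D.nroots, (D.IsPosRoot s ∨ s ∈ L) → s ≠ r →
    s ≠ D.neg r ∧ ∀ τ ∈ D.commTerms r s, τ.2.1 % 2 = 0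

variable {D : ChevalleyDatum} {M : List (List ℤ)} {d : ℤ} (hD : Good D) (hR : Roots D M d)
  {r j : ℕ} {S L : List ℕ} (hc : Check D M r j S L) {F : Type*} [Field F]

theorem dg_mul (χ ψ : ℕ → Fˣ) : (dg χ : Matrix D.Idx D.Idx F) * dg ψ = dg (fun s => χ s * ψ s) := by
  rw [dg, dg, dg, Matrix.diagonal_mul_diagonal]
  congr 1
  ext a
  rcases a with i | q <;> simp

theorem dg_one : (dg (fun _ => 1) : Matrix D.Idx D.Idx F) = 1 := by
  rw [dg, ← Matrix.diagonal_one]
  congr 1
  ext a
  rcases a with i | q <;> simp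

include hD in
/-- The torus is generated by the elements of the fundamental roots. -/
theorem diag_le_simple :
    D.diagonalSubgroup F ≤ Subgroup.closure
      {g : GL D.Idx F | ∃ i, i < D.rank ∧ ∃ c : F, c ≠ 0 ∧ g = hg hD F (D.simple i) c} := by
  refine (Subgroup.closure_le _).2 ?_
  rintro g ⟨q, t, hq, ht, e⟩
  set a : ℕ → F := fun i => (t ^ (D.coroot.getD q #[]).getD i 0)
  have ha : ∀ i, a i ≠ 0 := fun i => zpow_ne_zero _ ht
  have hprod : ∀ L : List ℕ, (∀ i ∈ L, i < D.rank) →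
      (((L.map fun i => hg hD F (D.simple i) (a i)).prod : GL D.Idx F) : Matrix D.Idx D.Idx F) =
        dg (fun s => Units.mk0 t ht ^ ((L.map fun i => (D.coroot.getD q #[]).getD i 0 * D.cartan i s).sum)) := by
    intro L
    induction L with
    | nil => intro _; simp [dg_one]
    | cons i L ih =>
      intro hL
      have hi := hL i (by simp)
      rw [List.map_cons, List.prod_cons, Units.val_mul, ih (fun k hk => hL k (List.mem_cons_of_mem _ hk)),
        coe_hg, hMat_eq_diag hD (hD.simple_lt i hi) (ha i), dg_mul]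
      congr 1
      funext s
      rw [List.map_cons, List.sum_cons, zpow_add, pairing_simple hD hi]
      congr 1
      apply Units.ext
      simp [a, _root_.zpow_mul]
  have e1 : g = ((List.range D.rank).map fun i => hg hD F (D.simple i) (a i)).prod := by
    refine Units.ext ?_
    rw [e, hprod _ (fun i hi => List.mem_range.1 hi), hMat_eq_diag hD hq ht]
    rfl
  rw [e1]
  refine list_prod_mem fun x hx => ?_
  obtain ⟨i, hi, rfl⟩ := List.mem_map.1 hx
  exact Subgroup.subset_closure ⟨i, List.mem_range.1 hi, a i, ha i, rfl⟩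

include hD in
theorem hg_mul (r : ℕ) (hr : r < D.nroots) {a b : F} (ha : a ≠ 0) (hb : b ≠ 0) :
    hg hD F r (a * b) = hg hD F r a * hg hD F r b := by
  refine Units.ext ?_
  rw [Units.val_mul, coe_hg, coe_hg, coe_hg, hMat_eq_diag hD hr ha, hMat_eq_diag hD hr hb,
    hMat_eq_diag hD hr (mul_ne_zero ha hb), dg_mul]
  congr 1
  funext s
  rw [← mul_zpow, ← Units.mk0_mul]

variable (L) (D F) in
/-- The candidate for the centraliser. -/
def cand : Subgroup (GL D.Idx F) :=
  D.posUnipotent F ⊔ Subgroup.closure {g : GL D.Idx F | ∃ s ∈ L, ∃ c : F,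
    (g : Matrix D.Idx D.Idx F) = D.x F s c}

include hD hc

theorem xg_neg_mem {i : ℕ} (hi : i < D.rank) (hij : i ≠ j) (t : F) :
    xg hD F (D.neg (D.simple i)) t ∈ cand D L F :=
  Subgroup.mem_sup_right (Subgroup.subset_closure ⟨_, hc.neg_mem i hi hij, t, coe_xg hD _ _⟩)

include hR

theorem xg_pos_mem {i : ℕ} (hi : i < D.rank) (t : F) : xg hD F (D.simple i) t ∈ cand D L F :=
  Subgroup.mem_sup_left (Subgroup.subset_closure ⟨_, t, hR.pos_simple hD hi, coe_xg hD _ _⟩)

theorem ng_mem {i : ℕ} (hi : i < D.rank) (hij : i ≠ j) (t : F) :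
    ng hD F (D.simple i) t ∈ cand D L F :=
  mul_mem (mul_mem (xg_pos_mem hD hR hc hi _) (xg_neg_mem hD hc hi hij _)) (xg_pos_mem hD hR hc hi _)

theorem hg_mem {i : ℕ} (hi : i < D.rank) (hij : i ≠ j) (t : F) :
    hg hD F (D.simple i) t ∈ cand D L F :=
  mul_mem (ng_mem hD hR hc hi hij _) (ng_mem hD hR hc hi hij _)

/-- The torus splits off the factor at `j`. -/
theorem exists_split_torus {h : GL D.Idx F} (hh : h ∈ D.diagonalSubgroup F) :
    ∃ k ∈ cand D L F, ∃ c : F, c ≠ 0 ∧ k ∈ D.diagonalSubgroup F ∧ h = k * hg hD F (D.simple j) c := by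
  have hjr := hD.simple_lt j hc.j_lt
  have hgd : ∀ i < D.rank, ∀ c : F, c ≠ 0 → hg hD F (D.simple i) c ∈ D.diagonalSubgroup F :=
    fun i hi c hc' => Subgroup.subset_closure ⟨_, c, hD.simple_lt i hi, hc', coe_hg hD _ _⟩
  have h1 : hg hD F (D.simple j) (1 : F) = 1 := by rw [hg, ← ng_inv, mul_inv_cancel]
  have h' := diag_le_simple hD hh
  induction h' using Subgroup.closure_induction with
  | mem x hx =>
    obtain ⟨i, hi, c, hc0, rfl⟩ := hx
    by_cases hij : i = j
    · exact ⟨1, one_mem _, c, hc0, one_mem _, by rw [hij, one_mul]⟩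
    · exact ⟨_, hg_mem hD hR hc hi hij c, 1, one_ne_zero, hgd i hi c hc0, by rw [h1, mul_one]⟩
  | one => exact ⟨1, one_mem _, 1, one_ne_zero, one_mem _, by rw [h1, mul_one]⟩
  | mul x y hx hy ihx ihy =>
    have hd : ∀ z ∈ Subgroup.closure {g : GL D.Idx F | ∃ i, i < D.rank ∧ ∃ c : F, c ≠ 0 ∧
        g = hg hD F (D.simple i) c}, z ∈ D.diagonalSubgroup F := fun z hz =>
      (Subgroup.closure_le _).2 (fun g hg' => by
        obtain ⟨i, hi, c, hc0, rfl⟩ := hg'; exact hgd i hi c hc0) hz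
    obtain ⟨k, hk, c, hc0, hkd, rfl⟩ := ihx (hd _ hx)
    obtain ⟨k', hk', c', hc0', hkd', rfl⟩ := ihy (hd _ hy)
    refine ⟨k * k', mul_mem hk hk', c * c', mul_ne_zero hc0 hc0', mul_mem hkd hkd', ?_⟩
    rw [hg_mul hD _ hjr hc0 hc0', mul_assoc k, ← mul_assoc _ k', diag_commute hD (hgd j hc.j_lt c hc0) hkd']
    group
  | inv x hx ihx =>
    obtain ⟨k, hk, c, hc0, hkd, rfl⟩ := ihx (by simpa using inv_mem hh)
    refine ⟨k⁻¹, inv_mem hk, c⁻¹, inv_ne_zero hc0, inv_mem hkd, ?_⟩
    have e : hg hD F (D.simple j) c⁻¹ = (hg hD F (D.simple j) c)⁻¹ := by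
      refine eq_inv_of_mul_eq_one_left ?_
      rw [← hg_mul hD _ hjr (inv_ne_zero hc0) hc0, inv_mul_cancel₀ hc0, h1]
    rw [e, _root_.mul_inv_rev]
    exact diag_commute hD (inv_mem (hgd j hc.j_lt c hc0)) (inv_mem hkd)

/-- A root element equal to `x_r(1)`. -/
theorem xg_eq_one_param {s : ℕ} {v : F} (hs : s < D.nroots) (h : xg hD F s v = xg hD F r 1) :
    s = r ∧ v = 1 := by
  have h1 := congrArg (fun g : GL D.Idx F => ((g : Matrix D.Idx D.Idx F) *ᵥ
    Pi.single (Sum.inl ⟨j, hc.j_lt⟩) 1) (Sum.inr ⟨r, hc.r_lt⟩)) h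
  simp only [coe_xg, x_eq_xR D hs, x_eq_xR D hc.r_lt, xR_inl] at h1
  by_cases hsr : s = r
  · subst hsr
    refine ⟨rfl, ?_⟩
    simpa [ev, hc.cartan_j] using h1
  · exfalso
    simp [ev, hc.cartan_j, Ne.symm hsr] at h1

variable [CharP F 2]

/-- The elements of `cand` centralise `x_r(1)`. -/
theorem commute_cand {g : GL D.Idx F} (hg' : g ∈ cand D L F) :
    g * xg hD F r 1 = xg hD F r 1 * g := by
  have key : ∀ s, (D.IsPosRoot s ∨ s ∈ L) → ∀ c : F,
      xg hD F s c * xg hD F r 1 = xg hD F r 1 * xg hD F s c := by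
    intro s hs c
    by_cases hlt : s < D.nroots
    swap
    · rw [xg_out hD hlt, one_mul, mul_one]
    by_cases hsr : s = r
    · subst hsr
      rw [xg_add hD hc.r_lt, xg_add hD hc.r_lt, add_comm]
    obtain ⟨hne, heven⟩ := hc.comm s hlt hs hsr
    refine Units.ext ?_
    simp only [Units.val_mul, coe_xg]
    rw [hD.commutator hc.r_lt hlt hsr hne]
    have hw : D.wordMat F (D.commWord F r s 1 c) = 1 := by
      rw [ChevalleyDatum.wordMat, ChevalleyDatum.commWord, List.map_map]
      refine List.prod_eq_one fun x hx => ?_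
      obtain ⟨τ, hτ, rfl⟩ := List.mem_map.1 hx
      have hz : ((τ.2.1 : ℤ) : F) = 0 :=
        (CharP.intCast_eq_zero_iff F 2 _).2 (Int.dvd_of_emod_eq_zero (heven τ hτ))
      simp [hz, hD.x_zero]
    rw [hw, mul_one]
  have hcl : g ∈ Subgroup.centralizer ({xg hD F r 1} : Set (GL D.Idx F)) := by
    revert hg'
    suffices cand D L F ≤ Subgroup.centralizer ({xg hD F r 1} : Set (GL D.Idx F)) from fun hg' => this hg'
    refine sup_le ((Subgroup.closure_le _).2 ?_) ((Subgroup.closure_le _).2 ?_)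
    · rintro x ⟨s, c, hs, e⟩
      obtain rfl : x = xg hD F s c := Units.ext e
      exact Subgroup.mem_centralizer_singleton_iff.2 (key s (Or.inl hs) c)
    · rintro x ⟨s, hs, c, e⟩
      obtain rfl : x = xg hD F s c := Units.ext e
      exact Subgroup.mem_centralizer_singleton_iff.2 (key s (Or.inr hs) c)
  exact Subgroup.mem_centralizer_singleton_iff.1 hcl

/-- Weyl words fixing `r` can be taken in `cand`. -/
theorem exists_nw {l : List (Fin D.rank)}
    (hl : ((chevRGD hD hR F).ww l ⟨r, hc.r_lt⟩).val = r) :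
    ∃ k ∈ D.diagonalSubgroup F, ∃ m ∈ cand D L F, (chevRGD hD hR F).nw l = k * m := by
  induction hn : l.length using Nat.strong_induction_on generalizing l with
  | _ n ih =>
    set R := chevRGD hD hR F with hRdef
    by_cases hall : ∀ i : Fin D.rank, R.pos (R.ww l (R.simple i))
    · refine ⟨R.nw l, R.mem_H_of_pos ?_, 1, one_mem _, (mul_one _).symm⟩
      intro q hq
      obtain ⟨g, hg', e⟩ := lin_comp hD hR F l (isLin_ht hD M)
      simp only [← hRdef] at e
      by_contra hneg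
      have hneg' : IsLin D fun q => -1 * g q := hg'.smul (-1)
      have h1 := lin_neg hD hR hneg' (fun i hi => by
        have h2 := hR.ht_pos _ (R.ww l (R.simple ⟨i, hi⟩)).isLt (hall ⟨i, hi⟩)
        have h3 := e ⟨D.simple i, hD.simple_lt i hi⟩
        change g (D.simple i) = ht D M (R.ww l (R.simple ⟨i, hi⟩)).val at h3
        omega) q.isLt hq
      have h4 := hR.ht_pos _ (hD.neg_lt _ (R.ww l q).isLt) ((pos_or_neg hD (R.ww l q).isLt).2 hneg)
      rw [(isLin_ht hD M).neg _ (R.ww l q).isLt] at h4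
      have h5 := e q
      omega
    push Not at hall
    obtain ⟨i, hi⟩ := hall
    have hij : i.val ≠ j := by
      intro hij
      apply hi
      show D.IsPosRoot _
      rw [hR.sgn _ (R.ww l (R.simple i)).isLt]
      intro k hk
      obtain ⟨g, hg', e⟩ := lin_comp hD hR F l (isLin_co hD M k)
      simp only [← hRdef] at e
      have hw : wN D j r < D.nroots := refl_lt hD (hD.simple_lt j hc.j_lt) hc.r_lt
      have h1 := hg'.refl hD (hD.simple_lt j hc.j_lt) hc.r_lt
      rw [pairing_simple hD hc.j_lt, hc.cartan_j, one_mul] at h1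
      have hS : ∀ (l : List (Fin D.rank)) (q : Fin D.nroots), q.val ∈ S → (R.ww l q).val ∈ S := by
        intro l
        induction l with
        | nil => exact fun q hq => hq
        | cons a l ih2 => exact fun q hq => hc.closed a a.isLt _ (ih2 q hq)
      have h2 := hc.top _ (hS l ⟨wN D j r, hw⟩ (hc.closed j hc.j_lt r hc.mem)) k hk
      have h3 := e ⟨wN D j r, hw⟩
      have h4 := e ⟨r, hc.r_lt⟩
      have h5 := e (R.simple i)
      rw [hl] at h4
      change g (D.simple i.val) = _ at h5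
      rw [hij] at h5
      change g (Chev.refl D (D.simple j) r) = _ at h3
      change g r = _ at h4; omega
    obtain ⟨l', hlen, k, hk, e⟩ := R.exists_shorter hi
    have hfix : R.w i ⟨r, hc.r_lt⟩ = ⟨r, hc.r_lt⟩ := by
      refine Fin.ext ?_
      show wN D i.val r = r
      refine hR.root_ext (refl_lt hD (hD.simple_lt _ i.isLt) hc.r_lt) hc.r_lt fun q hq => ?_
      rw [hR.co_refl hD i.isLt hc.r_lt hq, hc.cartan_ne _ i.isLt hij]
      simp
    have hl' : (R.ww l' ⟨r, hc.r_lt⟩).val = r := by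
      have h1 : (R.U ⟨r, hc.r_lt⟩).map (MulAut.conj (R.nw l')).toMonoidHom = R.U (R.ww l ⟨r, hc.r_lt⟩) := by
        rw [show R.nw l' = k⁻¹ * R.nw (l ++ [i]) by rw [e]; group, RGD.RootData.map_conj_mul, R.map_conj_U,
          R.map_conj_H_U (inv_mem hk), R.ww_append, R.ww_cons, R.ww_nil, hfix]
      rw [R.map_conj_U] at h1
      have h2 : xg hD F r 1 ∈ R.U (R.ww l' ⟨r, hc.r_lt⟩) := by
        rw [h1]
        show xg hD F r 1 ∈ D.rootSubgroup F (R.ww l ⟨r, hc.r_lt⟩).val
        rw [hl]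
        exact xg_mem_rootSubgroup hD r 1
      obtain ⟨v, hv⟩ := (mem_rootSubgroup hD _).1 h2
      exact (xg_eq_one_param hD hR hc (R.ww l' ⟨r, hc.r_lt⟩).isLt hv.symm).1
    obtain ⟨k', hk', m, hm, e'⟩ := ih l'.length (by omega) hl' rfl
    refine ⟨k * k', mul_mem hk hk', m * (ng hD F (D.simple i.val) 1)⁻¹,
      mul_mem hm (inv_mem (ng_mem hD hR hc i.isLt hij _)), ?_⟩
    rw [R.nw_append, R.nw_cons, R.nw_nil, mul_one, e'] at e
    rw [show k * k' * (m * (ng hD F (D.simple i.val) 1)⁻¹) = k * (k' * m) * (ng hD F (D.simple i.val) 1)⁻¹ by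
      group, ← e]
    exact (mul_inv_cancel_right _ _).symm

/-- The centraliser of the root element of `r` in characteristic two. -/
theorem centralizer_rootElement {t : GL D.Idx F}
    (ht : (t : Matrix D.Idx D.Idx F) = D.x F r 1) :
    D.group F ⊓ Subgroup.centralizer {t} = cand D L F := by
  obtain rfl : t = xg hD F r 1 := Units.ext ht
  set R := chevRGD hD hR F with hRdef
  refine le_antisymm ?_ (le_inf ?_ fun g hg' =>
    Subgroup.mem_centralizer_singleton_iff.2 (commute_cand hD hR hc hg'))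
  · rintro g ⟨hgG, hgC⟩
    replace hgC : g * xg hD F r 1 = xg hD F r 1 * g := Subgroup.mem_centralizer_singleton_iff.1 hgC
    replace hgG : g ∈ R.G := by rw [hRdef, chev_G hD hR]; exact hgG
    obtain ⟨b, hb, l, u, hu, rfl⟩ := R.exists_normalForm hgG
    obtain ⟨u₁, hu₁, h, hh, rfl⟩ := R.exists_B hb
    have hUle : R.Upos ≤ cand D L F := by rw [chev_Upos]; exact le_sup_left
    have hu' := hUle (R.Uminus_le_Upos l hu)
    have hu₁' := hUle hu₁
    have c1 := commute_cand hD hR hc hu'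
    have c2 := commute_cand hD hR hc hu₁'
    set t := xg hD F r 1
    have hn : h * R.nw l * t = t * (h * R.nw l) := by
      have : Commute (u₁⁻¹ * (u₁ * h * R.nw l * u) * u⁻¹) t :=
        ((Commute.inv_left c2).mul_left hgC).mul_left (Commute.inv_left c1)
      rw [show u₁⁻¹ * (u₁ * h * R.nw l * u) * u⁻¹ = h * R.nw l by group] at this
      exact this
    have hl : (R.ww l ⟨r, hc.r_lt⟩).val = r := by
      have h1 : t ∈ R.U (R.ww l ⟨r, hc.r_lt⟩) := by
        rw [← R.map_conj_H_nw hh l]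
        exact ⟨t, xg_mem_rootSubgroup hD r 1, show h * R.nw l * t * (h * R.nw l)⁻¹ = t by
          rw [hn, mul_inv_cancel_right]⟩
      obtain ⟨v, hv⟩ := (mem_rootSubgroup hD _).1 h1
      exact (xg_eq_one_param hD hR hc (R.ww l ⟨r, hc.r_lt⟩).isLt hv.symm).1
    obtain ⟨k, hk, m, hm, e⟩ := exists_nw hD hR hc hl
    obtain ⟨k₀, hk₀, c, hc0, -, ek⟩ :=
      exists_split_torus hD hR hc (h := h * k) (mul_mem hh hk)
    have hcc : Commute (hg hD F (D.simple j) c) t := by
      have h2 : Commute (k₀⁻¹ * (h * R.nw l) * m⁻¹) t :=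
        ((Commute.inv_left (commute_cand hD hR hc hk₀)).mul_left hn).mul_left
          (Commute.inv_left (commute_cand hD hR hc hm))
      rwa [e, show k₀⁻¹ * (h * (k * m)) * m⁻¹ = k₀⁻¹ * (h * k) by group, ek, inv_mul_cancel_left] at h2
    have hc1 : c = 1 := by
      have h3 : hg hD F (D.simple j) c * t = t * hg hD F (D.simple j) c := hcc
      rw [hg_conj hD (hD.simple_lt j hc.j_lt) hc0, pairing_simple hD hc.j_lt, hc.cartan_j, zpow_one,
        mul_one] at h3
      exact (xg_eq_one_param hD hR hc hc.r_lt (mul_right_cancel h3)).2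
    have hhk : h * k ∈ cand D L F := by
      rw [ek, hc1, hg, ← ng_inv, mul_inv_cancel, mul_one]
      exact hk₀
    rw [show u₁ * h * R.nw l * u = u₁ * (h * k) * m * u by rw [e]; group]
    exact mul_mem (mul_mem (mul_mem hu₁' hhk) hm) hu'
  · refine sup_le ((Subgroup.closure_le _).2 ?_) ((Subgroup.closure_le _).2 ?_)
    · rintro x ⟨s, c, -, e⟩
      obtain rfl : x = xg hD F s c := Units.ext e
      exact xg_mem_group hD s c
    · rintro x ⟨s, -, c, e⟩
      obtain rfl : x = xg hD F s c := Units.ext e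
      exact xg_mem_group hD s c

end Cfsg.Agent.ChevCentralizer
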