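import Cfsg.Agent.Lib.ChevCentralizer.Distinct

/-!
# The involution-class statements from their certificates

* `classes`: list of representatives + reduction + non-conjugacy gives the three clauses;
* `ww_closed`, `ww_closed₂`: invariants of the Weyl group action.
-/

set_option autoImplicit false

namespace Cfsg.Agent.ChevInvolution

open Cfsg.Lie Cfsg.Lie.ChevalleyDatum Cfsg.Agent.Chev Cfsg.Agent.ChevSt Cfsg.Agent.ChevBN
open Cfsg.Agent.ChevCentralizer (xg_comm gen kap ww_injective)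

variable {D : ChevalleyDatum} (hD : Good D) {F : Type*} [Field F] [CharP F 2]
include hD

theorem coe_prodL (L : List ℕ) :
    ((prodL hD F L : GL D.Idx F) : Matrix D.Idx D.Idx F) = (L.map fun q => D.x F q 1).prod := by
  induction L with
  | nil => simp [prodL]
  | cons a L ih => rw [prodL_cons hD, Units.val_mul, ih, coe_xg, List.map_cons, List.prod_cons]

/-- `x_a` and `x_b` commute. -/
def Comm (D : ChevalleyDatum) (a b : ℕ) : Prop :=
  b = a ∨ (b ≠ D.neg a ∧ ∀ τ ∈ D.commTerms a b, τ.2.1 % 2 = 0)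

instance (D : ChevalleyDatum) (a b : ℕ) : Decidable (Comm D a b) := by unfold Comm; infer_instance

/-- Conditions on a representative. -/
def RepOK (D : ChevalleyDatum) (S : List ℕ) : Prop :=
  S ≠ [] ∧ (∀ a ∈ S, a < D.nroots) ∧ ∀ a ∈ S, ∀ b ∈ S, Comm D a b

instance (D : ChevalleyDatum) (S : List ℕ) : Decidable (RepOK D S) := by unfold RepOK; infer_instance

theorem prodL_sq {S : List ℕ} (hlt : ∀ a ∈ S, a < D.nroots) (ho : ∀ a ∈ S, ∀ b ∈ S, Comm D a b) :
    prodL hD F S * prodL hD F S = 1 := by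
  induction S with
  | nil => simp [prodL]
  | cons a L ih =>
    have hc : Commute (xg hD F a 1) (prodL hD F L) := by
      refine Commute.list_prod_right _ _ fun x hx => ?_
      obtain ⟨q, hq, rfl⟩ := List.mem_map.1 hx
      exact (xg_comm hD (ho a (by simp) q (List.mem_cons_of_mem _ hq)) (hlt a (by simp))
        (hlt q (List.mem_cons_of_mem _ hq)) 1 1).symm
    rw [prodL_cons hD, hc.symm.mul_mul_mul_comm, xg_sq hD, one_mul]
    exact ih (fun x hx => hlt x (List.mem_cons_of_mem _ hx))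
      fun x hx y hy => ho x (List.mem_cons_of_mem _ hx) y (List.mem_cons_of_mem _ hy)

theorem prodL_ne_one {S T : List ℕ} (hs : Supp D S T) (hne : S ≠ []) : prodL hD F S ≠ 1 := by
  obtain ⟨a, ha⟩ := List.exists_mem_of_ne_nil S hne
  obtain ⟨i, hi, hodd⟩ := hs.odd a (hs.sub a ha)
  intro e
  have h := kap_prodL hD hs ha (i := ⟨i, hi⟩) hodd (w := (1 : GL D.Idx F)) (one_mem _)
  rw [e, mul_one] at h
  simp [kap] at h

/-- The three clauses of the classification. -/
theorem classes [Fintype F] {reps : List (List ℕ)}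
    (hred : ∀ t ∈ D.group F, t ≠ 1 → t * t = 1 →
      ∃ R ∈ reps, ∃ x ∈ D.group F, x * t * x⁻¹ = prodL hD F R)
    (hok : ∀ R ∈ reps, RepOK D R ∧ ∃ T, Supp D R T)
    (hsep : reps.Pairwise fun R R' => ∀ g ∈ D.group F, g * prodL hD F R' * g⁻¹ ≠ prodL hD F R) :
    (∀ y : GL D.Idx F, (y : Matrix D.Idx D.Idx F) ∈ reps.map (fun L => (L.map fun q => D.x F q 1).prod) →
      y ∈ D.group F ∧ orderOf y = 2) ∧
    (∀ g ∈ D.group F, orderOf g = 2 → ∃ y ∈ D.group F,
      (y : Matrix D.Idx D.Idx F) ∈ reps.map (fun L => (L.map fun q => D.x F q 1).prod) ∧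
      ∃ h ∈ D.group F, h * g * h⁻¹ = y) ∧
    (∀ y₁ ∈ D.group F, ∀ y₂ ∈ D.group F,
      (y₁ : Matrix D.Idx D.Idx F) ∈ reps.map (fun L => (L.map fun q => D.x F q 1).prod) →
      (y₂ : Matrix D.Idx D.Idx F) ∈ reps.map (fun L => (L.map fun q => D.x F q 1).prod) →
      (∃ h ∈ D.group F, h * y₁ * h⁻¹ = y₂) → (y₁ : Matrix D.Idx D.Idx F) = (y₂ : Matrix D.Idx D.Idx F)) := by
  have hof : ∀ y : GL D.Idx F,
      (y : Matrix D.Idx D.Idx F) ∈ reps.map (fun L => (L.map fun q => D.x F q 1).prod) →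
      ∃ R ∈ reps, y = prodL hD F R := by
    intro y hy
    obtain ⟨R, hR, e⟩ := List.mem_map.1 hy
    exact ⟨R, hR, Units.ext (by rw [coe_prodL hD, e])⟩
  refine ⟨fun y hy => ?_, fun g hg ho => ?_, fun y₁ _ y₂ _ h₁ h₂ hc => ?_⟩
  · obtain ⟨R, hR, rfl⟩ := hof y hy
    obtain ⟨⟨hne, hlt, horth⟩, T, hT⟩ := hok R hR
    refine ⟨prodL_mem_group hD R, orderOf_eq_prime ?_ (prodL_ne_one hD hT hne)⟩
    rw [sq]
    exact prodL_sq hD hlt horth
  · have h1 : g ≠ 1 := fun e => by rw [e, orderOf_one] at ho; omega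
    have h2 : g * g = 1 := by rw [← sq, ← ho, pow_orderOf_eq_one]
    obtain ⟨R, hR, x, hx, e⟩ := hred g hg h1 h2
    exact ⟨prodL hD F R, prodL_mem_group hD R, List.mem_map.2 ⟨R, hR, (coe_prodL hD R).symm⟩, x, hx, e⟩
  · obtain ⟨R₁, hR₁, rfl⟩ := hof y₁ h₁
    obtain ⟨R₂, hR₂, rfl⟩ := hof y₂ h₂
    obtain ⟨h, hh, e⟩ := hc
    by_cases he : R₁ = R₂
    · rw [he]
    exfalso
    have hsym : Std.Symm (fun R R' : List ℕ => ∀ g ∈ D.group F, g * prodL hD F R' * g⁻¹ ≠ prodL hD F R) :=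
      ⟨fun R R' hr g hg e => hr g⁻¹ (inv_mem hg) (by rw [← e]; group)⟩
    exact hsep.forall hR₂ hR₁ (Ne.symm he) h hh e

omit [CharP F 2] in
theorem ne_symm' {S S' : List ℕ} (h : ∀ g ∈ D.group F, g * prodL hD F S * g⁻¹ ≠ prodL hD F S') :
    ∀ g ∈ D.group F, g * prodL hD F S' * g⁻¹ ≠ prodL hD F S :=
  fun g hg e => h g⁻¹ (inv_mem hg) (by rw [← e]; group)

/-- The number of classes. -/
theorem classes_ncard [Fintype F] {reps : List (List ℕ)}
    (hred : ∀ t ∈ D.group F, t ≠ 1 → t * t = 1 →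
      ∃ R ∈ reps, ∃ x ∈ D.group F, x * t * x⁻¹ = prodL hD F R)
    (hok : ∀ R ∈ reps, RepOK D R ∧ ∃ T, Supp D R T) (hnd : reps.Nodup)
    (hsep : reps.Pairwise fun R R' => ∀ g ∈ D.group F, g * prodL hD F R' * g⁻¹ ≠ prodL hD F R) :
    (ConjClasses.mk '' {g : ↥(D.group F) | orderOf g = 2}).ncard = reps.length := by
  classical
  set f : List ℕ → ConjClasses ↥(D.group F) := fun R => ConjClasses.mk ⟨prodL hD F R, prodL_mem_group hD R⟩
    with hf
  have himg : ConjClasses.mk '' {g : ↥(D.group F) | orderOf g = 2} = f '' {R | R ∈ reps} := by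
    ext C
    constructor
    · rintro ⟨g, hg, rfl⟩
      have ho : orderOf (g : GL D.Idx F) = 2 := by rw [Subgroup.orderOf_coe]; exact hg
      have h1 : (g : GL D.Idx F) ≠ 1 := fun e => by rw [e, orderOf_one] at ho; omega
      have h2 : (g : GL D.Idx F) * g = 1 := by rw [← sq, ← ho, pow_orderOf_eq_one]
      obtain ⟨R, hR, x, hx, e⟩ := hred g g.2 h1 h2
      exact ⟨R, hR, (ConjClasses.mk_eq_mk_iff_isConj.2 (isConj_iff.2 ⟨⟨x, hx⟩, Subtype.ext e⟩)).symm⟩
    · rintro ⟨R, hR, rfl⟩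
      obtain ⟨⟨hne, hlt, horth⟩, T, hT⟩ := hok R hR
      refine ⟨⟨prodL hD F R, prodL_mem_group hD R⟩, ?_, rfl⟩
      show orderOf (⟨prodL hD F R, prodL_mem_group hD R⟩ : ↥(D.group F)) = 2
      rw [Subgroup.orderOf_mk]
      exact orderOf_eq_prime (by rw [sq]; exact prodL_sq hD hlt horth) (prodL_ne_one hD hT hne)
  rw [himg, Set.InjOn.ncard_image, show {R | R ∈ reps} = (reps.toFinset : Set (List ℕ)) by ext; simp,
    Set.ncard_coe_finset, List.toFinset_card_of_nodup hnd]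
  intro R₁ h₁ R₂ h₂ e
  by_contra he
  obtain ⟨⟨x, hx⟩, hc⟩ := isConj_iff.1 (ConjClasses.mk_eq_mk_iff_isConj.1 e)
  have hc' := congrArg Subtype.val hc
  haveI : Std.Symm (fun R R' : List ℕ => ∀ g ∈ D.group F, g * prodL hD F R' * g⁻¹ ≠ prodL hD F R) :=
    ⟨fun R R' hr => ne_symm' hD hr⟩
  exact hsep.forall h₂ h₁ (Ne.symm he) x hx hc'

omit hD [CharP F 2] in
theorem ww_closed (hD : Good D) {M : List (List ℤ)} {d : ℤ} (hR : Roots D M d) (P : ℕ → Prop)
    (hP : ∀ i < D.rank, ∀ q < D.nroots, P q → P (wN D i q)) (l : List (Fin D.rank)) (q : Fin D.nroots)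
    (h : P q.val) : P ((chevRGD hD hR F).ww l q).val := by
  induction l with
  | nil => exact h
  | cons i l ih =>
    rw [RGD.RootData.ww_cons]
    exact hP i.val i.isLt _ ((chevRGD hD hR F).ww l q).isLt ih

omit hD [CharP F 2] in
theorem ww_closed₂ (hD : Good D) {M : List (List ℤ)} {d : ℤ} (hR : Roots D M d) (P : ℕ → ℕ → Prop)
    (hP : ∀ i < D.rank, ∀ p < D.nroots, ∀ q < D.nroots, P p q → P (wN D i p) (wN D i q))
    (l : List (Fin D.rank)) (p q : Fin D.nroots) (h : P p.val q.val) :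
    P ((chevRGD hD hR F).ww l p).val ((chevRGD hD hR F).ww l q).val := by
  induction l with
  | nil => exact h
  | cons i l ih =>
    rw [RGD.RootData.ww_cons, RGD.RootData.ww_cons]
    exact hP i.val i.isLt _ ((chevRGD hD hR F).ww l p).isLt _ ((chevRGD hD hR F).ww l q).isLt ih

end Cfsg.Agent.ChevInvolution
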