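import Cfsg.Agent.Lib.ChevCentralizer.RootElement
import Cfsg.Agent.Lib.ChevBN.RootTables
import Cfsg.Agent.Lib.Chev.DataE7
import Cfsg.Agent.Lib.Chev.DataE8

/-!
# The tables for highest roots of F4, E6, E7, E8
-/

set_option autoImplicit false
set_option maxRecDepth 100000
set_option synthInstance.maxSize 4000

namespace Cfsg.Agent.ChevCentralizer

open Cfsg.Lie Cfsg.Agent.ChevBN Cfsg.Agent.Chev Cfsg.Agent.ChevSt

theorem checkF4long : Check chevF4 adjF4 47 3 (List.range 48) [14, 20, 22] := by
  constructor <;> decide +kernel

theorem checkF4short : Check chevF4 adjF4 44 0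
    ((List.range 48).filter fun q => decide (co chevF4 adjF4 0 q % 2 ≠ 0 ∨ co chevF4 adjF4 1 q % 2 ≠ 0))
    [20, 22, 23] := by
  constructor <;> decide +kernel

theorem checkE6 : Check chevE6 adjE6 71 1 (List.range 72) [15, 29, 32, 34, 35] := by
  constructor <;> decide +kernel

/-- `co` through the packed certificate. -/
theorem co_eq_dotC {D : ChevalleyDatum} {K : SLCert} (T : SLTables D K) (M : List (List ℤ)) (k : ℕ) {q : ℕ}
    (hq : q < D.nroots) :
    co D M k q = ((List.range D.rank).map fun i => entry M k i * K.dotC D i q).sum :=
  congrArg List.sum (List.map_congr_left fun i hi => by rw [T.cartan_eq hq (List.mem_range.1 hi)])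

theorem topE7fast : ∀ q < chevE7.nroots, ∀ k < chevE7.rank,
    ((List.range chevE7.rank).map fun i => entry adjE7 k i * DataE7.cert.dotC chevE7 i q).sum ≤
      ((List.range chevE7.rank).map fun i => entry adjE7 k i * DataE7.cert.dotC chevE7 i 125).sum := by
  decide +kernel

theorem checkE7 : Check chevE7 adjE7 125 0 (List.range 126) [47, 52, 56, 59, 61, 62] where
  r_lt := by decide +kernel
  j_lt := by decide +kernel
  r_pos := by decide +kernel
  cartan_j := by decide +kernel
  cartan_ne := by decide +kernel
  mem := List.mem_range.2 (by decide +kernel)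
  closed := fun i hi q hq => by
    have hn : chevE7.nroots = 126 := by decide +kernel
    rw [List.mem_range, ← hn] at hq ⊢
    exact refl_lt DataE7.good (DataE7.good.simple_lt i hi) hq
  top := fun q hq k hk => by
    have hn : chevE7.nroots = 126 := by decide +kernel
    rw [List.mem_range, ← hn] at hq
    rw [co_eq_dotC DataE7.tables _ k hq, co_eq_dotC DataE7.tables _ k (by rw [hn]; decide)]
    exact topE7fast q hq k hk
  neg_mem := by decide +kernel
  comm := by decide +kernel

theorem topE8fast : ∀ q < chevE8.nroots, ∀ k < chevE8.rank,
    ((List.range chevE8.rank).map fun i => entry adjE8 k i * DataE8.cert.dotC chevE8 i q).sum ≤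
      ((List.range chevE8.rank).map fun i => entry adjE8 k i * DataE8.cert.dotC chevE8 i 239).sum := by
  decide +kernel

theorem checkE8 : Check chevE8 adjE8 239 7 (List.range 240) [77, 98, 104, 109, 113, 116, 118] where
  r_lt := by decide +kernel
  j_lt := by decide +kernel
  r_pos := by decide +kernel
  cartan_j := by decide +kernel
  cartan_ne := by decide +kernel
  mem := List.mem_range.2 (by decide +kernel)
  closed := fun i hi q hq => by
    have hn : chevE8.nroots = 240 := by decide +kernel
    rw [List.mem_range, ← hn] at hq ⊢
    exact refl_lt DataE8.good (DataE8.good.simple_lt i hi) hq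
  top := fun q hq k hk => by
    have hn : chevE8.nroots = 240 := by decide +kernel
    rw [List.mem_range, ← hn] at hq
    rw [co_eq_dotC DataE8.tables _ k hq, co_eq_dotC DataE8.tables _ k (by rw [hn]; decide)]
    exact topE8fast q hq k hk
  neg_mem := by decide +kernel
  comm := by decide +kernel

end Cfsg.Agent.ChevCentralizer
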